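import Cfsg.Agent.Lib.AschbacherSp.Basic
import Cfsg.Agent.Lib.PrimeDim.UnitaryBase

/-!
Forms fixed by absolutely irreducible groups of isometries of an alternating matrix: quadratic forms in characteristic
two, and unitary forms (the group is then realisable over a proper subfield).
-/

set_option autoImplicit false
set_option linter.style.haveILetI false
set_option linter.unusedSectionVars false

namespace Cfsg.Agent.Lib.AschbacherSp

open Cfsg.Geo Cfsg.Agent.Lib.PrimeDim.Basic Cfsg.Agent.Lib.PrimeDim.Fields Cfsg.Agent.Lib.Aschbacher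
open Cfsg.Agent.Lib.Unitary (conj conj_apply pow_q_q one_lt_q add_pow_q norm_surj)
open scoped Matrix MatrixGroups

variable {ι : Type} [Fintype ι] [DecidableEq ι] {F : Type*} [Field F] [Fintype F]

theorem two_eq_zero (h : ¬ Odd (Fintype.card F)) : (2 : F) = 0 := by
  have : ringChar F = 2 := by
    by_contra h'
    exact h (Nat.odd_iff.mpr (FiniteField.odd_card_of_char_ne_two h'))
  exact_mod_cast (ringChar.spec F 2).mpr (by rw [this])

theorem two_ne_zero' (h : Odd (Fintype.card F)) : (2 : F) ≠ 0 := fun h2 => by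
  have : ringChar F = 2 :=
    ((Nat.prime_dvd_prime_iff_eq (CharP.char_is_prime F _) Nat.prime_two).mp
      ((ringChar.spec F 2).mp (by exact_mod_cast h2)))
  have := FiniteField.even_card_iff_char_two.mp this
  rw [Nat.odd_iff] at h
  omega

theorem eq_zero_of_two_mul {x : F} (hodd : Odd (Fintype.card F)) (h : x = -x) : x = 0 :=
  (mul_eq_zero.mp (show (2 : F) * x = 0 by linear_combination h)).resolve_left (two_ne_zero' hodd)

theorem gramForm_gramMatrix {f : (ι → F) → (ι → F) → F} (hf : IsBilinearForm f) (u v : ι → F) :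
    gramForm (gramMatrix f) u v = f u v := by
  rw [(isSesqui_of_bilinear hf).apply_eq]
  rfl

/-- A quadratic form is determined by its polar form and a point stabiliser. -/
theorem quad_unique {N : Subgroup (GL ι F)} (hirr : Irred N) (h2ι : 2 ≤ Fintype.card ι)
    (heven : ¬ Odd (Fintype.card F)) {Q Q' : (ι → F) → F}
    (hs : ∀ (c : F) v, Q (c • v) = c ^ 2 * Q v) (hs' : ∀ (c : F) v, Q' (c • v) = c ^ 2 * Q' v)
    (hp : ∀ u v, QuadraticMap.polar Q u v = QuadraticMap.polar Q' u v)
    (hN : FixesQuadForm (matrixSet N) Q) (hN' : FixesQuadForm (matrixSet N) Q') : Q = Q' := by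
  classical
  let D : (ι → F) → F := fun v => Q v - Q' v
  have hDadd : ∀ u v, D (u + v) = D u + D v := fun u v => by
    have h := hp u v
    simp only [QuadraticMap.polar] at h
    simp only [D]
    linear_combination h
  have hDsmul : ∀ (c : F) v, D (c • v) = c ^ 2 * D v := fun c v => by simp only [D, hs, hs']; ring
  let K : Submodule F (ι → F) :=
    { carrier := {v | D v = 0}
      add_mem' := fun {a b} ha hb => by
        show D (a + b) = 0
        rw [hDadd, show D a = 0 from ha, show D b = 0 from hb, add_zero]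
      zero_mem' := by
        show D 0 = 0
        simpa using hDsmul 0 0
      smul_mem' := fun c v hv => by
        show D (c • v) = 0
        rw [hDsmul, show D v = 0 from hv, mul_zero] }
  rcases hirr K (fun x hx v hv => by
    show D ((x : Matrix ι ι F) *ᵥ v) = 0
    simp only [D, hN _ (mem_matrixSet.mpr ⟨x, hx, rfl⟩), hN' _ (mem_matrixSet.mpr ⟨x, hx, rfl⟩)]
    exact hv) with h | h
  · exfalso
    have hinj : Function.Injective D := by
      intro u v huv
      have : u - v ∈ K := by
        show D (u - v) = 0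
        have h1 := hDadd (u - v) v
        rw [sub_add_cancel, huv] at h1
        linear_combination -h1
      rw [h, Submodule.mem_bot, sub_eq_zero] at this
      exact this
    have h1 := Fintype.card_le_of_injective D hinj
    rw [Fintype.card_fun] at h1
    have h3 : Fintype.card F ^ 2 ≤ Fintype.card F ^ Fintype.card ι := Nat.pow_le_pow_right Fintype.card_pos h2ι
    have h4 := Fintype.one_lt_card (α := F)
    nlinarith
  · funext v
    exact sub_eq_zero.mp (show D v = 0 from (h ▸ Submodule.mem_top : v ∈ K))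

/-- Descent to the fixed field of an involution along an intertwiner. -/
theorem descend [Nonempty ι] {q : ℕ} (hF : Fintype.card F = q ^ 2) {σ' : F → F} (hσ' : ∀ x, σ' x = x ^ q)
    {F' : Subfield F} (_hne : F' ≠ ⊤) {N : Subgroup (GL ι F)} (habs : ActsAbsolutelyIrreducibly (matrixSet N))
    {A : Matrix ι ι F} (hA : A.det ≠ 0) (hσA0 : ∀ x ∈ N, x.val.map σ' * A = A * x.val) :
    ∃ F₀ : Subfield F, F₀ ≠ ⊤ ∧ RealisableOver F₀ (matrixSet N) := by
  classical
  obtain ⟨i₀⟩ := ‹Nonempty ι›
  refine ⟨Cfsg.Agent.Lib.PrimeDim.UnitaryBase.fixed hF, Cfsg.Agent.Lib.PrimeDim.UnitaryBase.fixed_ne_top hF, ?_⟩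
  set σ := conj hF with hσdef
  have hσA : ∀ x ∈ N, x.val.map σ * A = A * x.val := fun x hx => by
    rw [show (⇑σ : F → F) = σ' from funext fun y => by rw [hσdef, conj_apply, hσ']]
    exact hσA0 x hx
  have hσσ : ∀ X : Matrix ι ι F, (X.map σ).map σ = X := fun X => by
    ext i j
    exact Cfsg.Agent.Lib.PrimeDim.UnitaryBase.conj_conj hF _
  have hcomm : ∀ x ∈ N, (A.map σ * A) * x.val = x.val * (A.map σ * A) := by
    intro x hx
    have h1 := congrArg (fun Z : Matrix ι ι F => Z.map σ) (hσA x hx)
    simp only [Matrix.map_mul, hσσ] at h1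
    rw [mul_assoc, ← hσA x hx, ← mul_assoc, ← h1, mul_assoc]
  obtain ⟨d, hd⟩ := habs.2 (A.map σ * A) (fun s hs => by
    obtain ⟨x, hx, rfl⟩ := mem_matrixSet.mp hs
    exact hcomm x hx)
  have hd0 : d ≠ 0 := by
    intro h0
    have h1 : (A.map σ * A).det ≠ 0 := by
      rw [Matrix.det_mul]
      refine mul_ne_zero ?_ hA
      rw [← RingHom.mapMatrix_apply, ← RingHom.map_det]
      exact fun h => hA ((map_eq_zero σ).mp h)
    rw [hd, h0, zero_smul, Matrix.det_zero] at h1
    exact h1 rfl
  have hswap : A * A.map σ = d • 1 := by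
    have hu : IsUnit A := (Matrix.isUnit_iff_isUnit_det _).mpr (isUnit_iff_ne_zero.mpr hA)
    apply hu.mul_left_injective
    simp only
    rw [mul_assoc, hd, Matrix.mul_smul, Matrix.smul_mul, one_mul, mul_one]
  have hdfix : σ d = d := by
    have h1 := congrArg (fun Z : Matrix ι ι F => (Z.map σ) i₀ i₀) hd
    simp only [Matrix.map_mul, hσσ, hswap] at h1
    simpa [Matrix.map_apply, Matrix.one_apply, apply_ite σ, -conj_apply] using h1.symm
  obtain ⟨c, hc⟩ := norm_surj hF (y := d⁻¹) (by rw [inv_pow]; exact congrArg (·⁻¹) hdfix)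
  have hc' : σ c * c * d = 1 := by
    rw [mul_comm (σ c), show c * σ c = d⁻¹ from hc, inv_mul_cancel₀ hd0]
  set A' := c • A with hA'
  have hinv : A'.map σ * A' = 1 := by
    rw [hA', Matrix.map_smul' σ c A (map_mul σ), Matrix.smul_mul, Matrix.mul_smul, hd, smul_smul, smul_smul,
      hc', one_smul]
  have hσA' : ∀ x ∈ N, x.val.map σ * A' = A' * x.val := by
    intro x hx
    rw [hA', Matrix.mul_smul, Matrix.smul_mul, hσA x hx]
  let J : (ι → F) → (ι → F) := fun w => (σ ∘ w) ᵥ* A'
  have hJadd : ∀ v w, J (v + w) = J v + J w := by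
    intro v w
    simp only [J]
    rw [← Matrix.add_vecMul]
    congr 1
    funext i
    simp
  have hJsmul : ∀ (a : F) v, J (a • v) = σ a • J v := by
    intro a v
    simp only [J]
    rw [← Matrix.smul_vecMul]
    congr 1
    funext i
    simp
  have hJJ : ∀ v, J (J v) = v := by
    intro v
    have h1 : σ ∘ ((σ ∘ v) ᵥ* A') = v ᵥ* A'.map σ := by
      funext i
      rw [Function.comp_apply, RingHom.map_vecMul]
      congr 1
      funext j
      exact Cfsg.Agent.Lib.PrimeDim.UnitaryBase.conj_conj hF (v j)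
    simp only [J]
    rw [h1, Matrix.vecMul_vecMul, hinv, Matrix.vecMul_one]
  set S : Set (ι → F) := {v | J v = v} with hS
  obtain ⟨μ, hμ⟩ := Cfsg.Agent.Lib.PrimeDim.UnitaryBase.exists_conj_ne hF
  have hspan : Submodule.span F S = ⊤ := by
    rw [eq_top_iff]
    intro v _
    have h1 : v + J v ∈ S := by
      show J (v + J v) = v + J v
      rw [hJadd, hJJ, add_comm]
    have h2 : μ • v + σ μ • J v ∈ S := by
      show J (μ • v + σ μ • J v) = μ • v + σ μ • J v
      rw [hJadd, hJsmul, hJsmul, hJJ, hσdef, Cfsg.Agent.Lib.PrimeDim.UnitaryBase.conj_conj hF, add_comm]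
    have h3 : μ • v + σ μ • J v - σ μ • (v + J v) ∈ Submodule.span F S :=
      Submodule.sub_mem _ (Submodule.subset_span h2) (Submodule.smul_mem _ _ (Submodule.subset_span h1))
    rw [smul_add, add_sub_add_right_eq_sub, ← sub_smul] at h3
    exact (Submodule.smul_mem_iff _ (sub_ne_zero.mpr (Ne.symm hμ))).mp h3
  obtain ⟨b, hbS, hbspan, hbli⟩ := exists_linearIndependent F S
  haveI : Fintype b := Fintype.ofFinite b
  have hbcard : Fintype.card b = Fintype.card ι := by
    have hb := (Module.Basis.mk hbli (by rw [Subtype.range_coe, hbspan, hspan]))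
    rw [← Module.finrank_eq_card_basis hb, Module.finrank_pi]
  let e : ι ≃ b := Fintype.equivOfCardEq hbcard.symm
  set B : Matrix ι ι F := Matrix.of fun i => ((e i : b) : ι → F) with hBdef
  have hBu : IsUnit B := Matrix.linearIndependent_rows_iff_isUnit.mp (hbli.comp e e.injective)
  have hBJ : B.map σ * A' = B := by
    ext i j
    have h := congrFun (hbS (e i).2) j
    exact h
  obtain ⟨U, hU⟩ := hBu
  refine ⟨U, fun s hs i j => ?_⟩
  obtain ⟨x, hx, rfl⟩ := mem_matrixSet.mp hs
  set Z : Matrix ι ι F := U.val * x.val * (U⁻¹ : GL ι F).val with hZ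
  have hZB : Z * B = B * x.val := by rw [hZ, ← hU, mul_assoc, Units.inv_mul, mul_one]
  have hfixZ : Z.map σ = Z := by
    have hu : IsUnit B := hU ▸ U.isUnit
    apply hu.mul_left_injective
    simp only
    rw [hZB]
    calc Z.map σ * B = Z.map σ * (B.map σ * A') := by rw [hBJ]
      _ = (B * x.val).map σ * A' := by rw [← mul_assoc, ← Matrix.map_mul, hZB]
      _ = B * x.val := by rw [Matrix.map_mul, mul_assoc, hσA' x hx, ← mul_assoc, hBJ]
  exact Cfsg.Agent.Lib.PrimeDim.UnitaryBase.mem_fixed.mpr (congrFun (congrFun hfixZ i) j)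

variable {G : Matrix ι ι F} (hG : Alt G)
include hG

/-- In odd characteristic no quadratic form is fixed. -/
theorem no_quadratic [Nonempty ι] (hodd : Odd (Fintype.card F)) {N : Subgroup (GL ι F)} (hN : N ≤ Isom G)
    (habs : ActsAbsolutelyIrreducibly (matrixSet N)) {Q : (ι → F) → F} (hQ : IsNondegenerateQuadraticForm Q)
    (hfix : FixesQuadForm (matrixSet N) Q) : False := by
  set f := QuadraticMap.polar Q with hf
  obtain ⟨c, hc⟩ := invariant_unique hG hN habs (X := gramMatrix f) fun x hx => by
    have h := ((isSesqui_of_bilinear hQ.polar_bilinear).scale_iff x.val 1).mp fun u v => by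
      rw [one_mul]
      simp only [QuadraticMap.polar, ← Matrix.mulVec_add, hfix _ (mem_matrixSet.mpr ⟨x, hx, rfl⟩)]
    simpa using h
  have hsymm : (gramMatrix f)ᵀ = gramMatrix f := by
    ext i j
    exact QuadraticMap.polar_comm _ _ _
  have h0 : gramMatrix f = 0 := by
    ext i j
    refine eq_zero_of_two_mul hodd ?_
    have h := congrFun (congrFun (congrArg Matrix.transpose hc) i) j
    rw [hsymm, Matrix.transpose_smul, hG.skew, smul_neg, ← hc] at h
    exact h
  exact (isSesqui_of_bilinear hQ.polar_bilinear).det_ne_zero Function.bijective_id hQ.nondegenerate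
    (by rw [← hf, h0, Matrix.det_zero])

/-- In characteristic two the normaliser of an absolutely irreducible group fixing a quadratic form fixes it. -/
theorem quad_case [Nonempty ι] (h2ι : 2 ≤ Fintype.card ι) (heven : ¬ Odd (Fintype.card F))
    {H N : Subgroup (GL ι F)} (hH : H ≤ Isom G) (hN : N ≤ Isom G) (hNn : NormalizedBy H N)
    (habs : ActsAbsolutelyIrreducibly (matrixSet N)) {Q : (ι → F) → F} (hQ : IsNondegenerateQuadraticForm Q)
    (hfix : FixesQuadForm (matrixSet N) Q) :
    ∃ Q' : (ι → F) → F, IsNondegenerateQuadraticForm Q' ∧ (∀ u v, QuadraticMap.polar Q' u v = gramForm G u v) ∧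
      H ≤ quadSimilarityGroup Q' := by
  set f := QuadraticMap.polar Q with hf
  obtain ⟨c, hc⟩ := invariant_unique hG hN habs (X := gramMatrix f) fun x hx => by
    have h := ((isSesqui_of_bilinear hQ.polar_bilinear).scale_iff x.val 1).mp fun u v => by
      rw [one_mul]
      simp only [QuadraticMap.polar, ← Matrix.mulVec_add, hfix _ (mem_matrixSet.mpr ⟨x, hx, rfl⟩)]
    simpa using h
  have hc0 : c ≠ 0 := by
    intro h0
    exact (isSesqui_of_bilinear hQ.polar_bilinear).det_ne_zero Function.bijective_id hQ.nondegenerate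
      (by rw [← hf, hc, h0, zero_smul, Matrix.det_zero])
  let Q' : (ι → F) → F := fun v => c⁻¹ * Q v
  have hpol : ∀ u v, QuadraticMap.polar Q' u v = gramForm G u v := fun u v => by
    have h1 := gramForm_gramMatrix hQ.polar_bilinear u v
    rw [← hf, hc, gramForm, Matrix.smul_mulVec, dotProduct_smul, smul_eq_mul] at h1
    calc QuadraticMap.polar Q' u v = c⁻¹ * f u v := by simp only [Q', hf, QuadraticMap.polar]; ring
      _ = _ := by rw [← h1, ← mul_assoc, inv_mul_cancel₀ hc0, one_mul]; rfl
  have hbil : QuadraticMap.polar Q' = gramForm G := funext fun u => funext fun v => hpol u v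
  have hs : ∀ (a : F) v, Q' (a • v) = a ^ 2 * Q' v := fun a v => by simp only [Q', hQ.smul]; ring
  have hfix' : FixesQuadForm (matrixSet N) Q' := fun s hs v => by simp only [Q', hfix s hs]
  refine ⟨Q', ⟨hs, hbil ▸ gramForm_bilinear G, hbil ▸ gramForm_nondegenerate hG.det_ne⟩, hpol,
    fun h hh => ⟨1, fun v => ?_⟩⟩
  rw [Units.val_one, one_mul]
  refine congrFun (quad_unique (irred_iff.mp habs.1) h2ι heven (Q := fun w => Q' ((h : Matrix ι ι F) *ᵥ w))
    (fun a w => by rw [Matrix.mulVec_smul, hs]) hs (fun u w => ?_) (fun s hs w => ?_) hfix') v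
  · rw [hpol, ← gramForm_apply_isom (hH hh), ← hpol]
    simp only [QuadraticMap.polar, Matrix.mulVec_add]
  · obtain ⟨x, hx, rfl⟩ := mem_matrixSet.mp hs
    show Q' ((h : Matrix ι ι F) *ᵥ ((x : Matrix ι ι F) *ᵥ w)) = _
    rw [mulVec_mulVec', show h * x = h * x * h⁻¹ * h by group, ← mulVec_mulVec',
      hfix' _ (mem_matrixSet.mpr ⟨_, hNn h hh x hx, rfl⟩)]

/-- An absolutely irreducible group fixing a unitary form as well is realisable over a proper subfield. -/
theorem realisable_of_unitary [Nonempty ι] {N : Subgroup (GL ι F)} (hN : N ≤ Isom G)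
    (habs : ActsAbsolutelyIrreducibly (matrixSet N)) {σ : F ≃+* F} {f : (ι → F) → (ι → F) → F}
    (hf : IsUnitaryForm σ f) (hfix : FixesForm (matrixSet N) f) :
    ∃ F₀ : Subfield F, F₀ ≠ ⊤ ∧ RealisableOver F₀ (matrixSet N) := by
  classical
  let S : Subfield F := (σ : F →+* F).eqLocusField (RingHom.id F)
  have hS : ∀ x, x ∈ S ↔ σ x = x := fun _ => Iff.rfl
  obtain ⟨μ, hμ⟩ : ∃ μ, σ μ ≠ μ := by
    by_contra! h
    exact hf.ne_refl (RingEquiv.ext h)
  have hδ : μ - σ μ ≠ 0 := sub_ne_zero.mpr (Ne.symm hμ)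
  have hSne : S ≠ ⊤ := fun h => hμ ((hS μ).mp (h ▸ Subfield.mem_top μ))
  -- the field is two-dimensional over the fixed field
  have hb : ∀ x : F, (x - σ x) / (μ - σ μ) ∈ S := fun x => by
    rw [hS, map_div₀, map_sub, map_sub, hf.involutive, hf.involutive, ← neg_sub x, ← neg_sub μ, neg_div_neg_eq]
  have ha : ∀ x : F, x - (x - σ x) / (μ - σ μ) * μ ∈ S := fun x => by
    rw [hS, map_sub, map_mul, (hS _).mp (hb x)]
    field_simp
    ring
  letI : Fintype S := Fintype.ofFinite S
  have hcardF : Fintype.card F = Fintype.card S ^ 2 := by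
    rw [sq, ← Fintype.card_prod]
    refine (Fintype.card_congr (Equiv.ofBijective (fun t : S × S => (t.1 : F) + (t.2 : F) * μ) ⟨?_, ?_⟩)).symm
    · rintro ⟨a, b⟩ ⟨a', b'⟩ h
      simp only at h
      have h2 := congrArg σ h
      rw [map_add, map_add, map_mul, map_mul, (hS _).mp a.2, (hS _).mp b.2, (hS _).mp a'.2, (hS _).mp b'.2] at h2
      have hb' : (b : F) = b' := mul_right_cancel₀ hδ (by linear_combination h - h2)
      exact Prod.ext (Subtype.ext (by linear_combination h + (-μ) * hb')) (Subtype.ext hb')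
    · intro x
      exact ⟨(⟨_, ha x⟩, ⟨_, hb x⟩), by simp⟩
  set q := Fintype.card S with hq
  have hfixq : ∀ x ∈ S, x ^ q = x := fun x hx => congrArg Subtype.val (FiniteField.pow_card (⟨x, hx⟩ : S))
  have hσq : ∀ x, σ x = x ^ q := by
    have hμq : μ ^ q = σ μ := by
      have hs : μ + σ μ ∈ S := by rw [hS, map_add, hf.involutive, add_comm]
      have hp : μ * σ μ ∈ S := by rw [hS, map_mul, hf.involutive, mul_comm]
      have h1 : (μ ^ q - μ) * (μ ^ q - σ μ) = 0 := by
        have e1 : μ * μ - (μ + σ μ) * μ + μ * σ μ = 0 := by ring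
        have e2 := congrArg (fun t => conj hcardF t) e1
        simp only [map_add, map_sub, map_mul, map_zero, conj_apply] at e2
        rw [← mul_pow μ (σ μ), hfixq _ hp, ← add_pow_q hcardF, hfixq _ hs] at e2
        linear_combination e2
      rcases mul_eq_zero.mp h1 with h | h
      · exfalso
        have hall : ∀ x : F, x ^ q = x := fun x => by
          have hx : x = (x - (x - σ x) / (μ - σ μ) * μ) + (x - σ x) / (μ - σ μ) * μ := by ring
          rw [hx, add_pow_q hcardF, mul_pow, hfixq _ (ha x), hfixq _ (hb x), sub_eq_zero.mp h]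
        have hle := card_pow_eq_self_le (F := F) (k := q) (one_lt_q hcardF)
        rw [Nat.card_congr (Equiv.subtypeUnivEquiv hall), Nat.card_eq_fintype_card, hcardF] at hle
        have := one_lt_q hcardF
        nlinarith
      · exact sub_eq_zero.mp h
    intro x
    have hx : x = (x - (x - σ x) / (μ - σ μ) * μ) + (x - σ x) / (μ - σ μ) * μ := by ring
    conv_lhs => rw [hx]
    conv_rhs => rw [hx]
    rw [add_pow_q hcardF, mul_pow, hfixq _ (ha x), hfixq _ (hb x), hμq, map_add, map_mul, (hS _).mp (ha x),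
      (hS _).mp (hb x)]
  -- the intertwiner
  set X := gramMatrix f with hX
  set s : F →+* F := (σ : F →+* F) with hsdef
  have hsesq := isSesqui_of_unitary hf
  have hXu : IsUnit X.det := isUnit_iff_ne_zero.mpr (hsesq.det_ne_zero σ.bijective hf.nondegenerate)
  set A := X⁻¹ * G with hA
  have hA0 : A.det ≠ 0 := by
    rw [hA, Matrix.det_mul]
    exact mul_ne_zero ((Matrix.isUnit_nonsing_inv_det _ hXu).ne_zero) hG.det_ne
  have hσA : ∀ x ∈ N, x.val.map s * A = A * x.val := by
    intro x hx
    have h1 : x.valᵀ * X * x.val.map s = X := by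
      have h0 := (hsesq.scale_iff x.val 1).mp fun u v => by
        rw [one_mul]; exact hfix _ (mem_matrixSet.mpr ⟨x, hx, rfl⟩) u v
      rwa [one_smul] at h0
    have h2 : x.val.map s = X⁻¹ * ((x⁻¹ : GL ι F) : Matrix ι ι F)ᵀ * X := by
      calc x.val.map s = X⁻¹ * (((x⁻¹ : GL ι F) : Matrix ι ι F)ᵀ * (x.valᵀ * X * x.val.map s)) := by
            rw [← mul_assoc _ (x.valᵀ * X), ← mul_assoc _ x.valᵀ, ← Matrix.transpose_mul, Units.mul_inv,
              Matrix.transpose_one, one_mul, Matrix.nonsing_inv_mul_cancel_left _ _ hXu]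
        _ = _ := by rw [h1, mul_assoc]
    have h3 : ((x⁻¹ : GL ι F) : Matrix ι ι F)ᵀ * G = G * x.val := by
      conv_rhs => rw [← one_mul G, ← Matrix.transpose_one, ← Units.mul_inv x, Matrix.transpose_mul]
      rw [mul_assoc, mul_assoc]
      congr 1
      rw [← mul_assoc]
      exact (mem_isom.mp (hN hx)).symm
    rw [h2, hA, mul_assoc, Matrix.mul_nonsing_inv_cancel_left _ _ hXu, mul_assoc, h3, mul_assoc]
  exact descend (q := q) hcardF (fun x => hσq x) hSne habs hA0 hσA

end Cfsg.Agent.Lib.AschbacherSp
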