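import Cfsg.Agent.Lib.AschbacherSp.Basic
import Cfsg.Agent.Lib.AschbacherSp.Forms
import Cfsg.Agent.Lib.Aschbacher.SymplecticType

/-!
Absolutely irreducible groups of isometries with scalar commutators: realisable over the prime field, or of minus
type over a prime field of odd order.
-/

set_option autoImplicit false
set_option linter.style.haveILetI false
set_option linter.unusedSectionVars false

namespace Cfsg.Agent.Lib.AschbacherSp

open Cfsg.Geo Cfsg.Agent.Lib.PrimeDim.Basic Cfsg.Agent.Lib.PrimeDim.Fields Cfsg.Agent.Lib.PrimeDim.Symplectic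
open Cfsg.Agent.Lib.Aschbacher
open scoped Matrix MatrixGroups commutatorElement

variable {ι : Type} [Fintype ι] [DecidableEq ι] {F : Type*} [Field F] [Fintype F]
variable {N : Subgroup (GL ι F)}

/-- An irreducible algebra of endomorphisms of a finite module with scalar centre is everything. -/
theorem eq_top_of_centre {K V : Type*} [Field K] [AddCommGroup V] [Module K V] [FiniteDimensional K V]
    [Nontrivial V] [Finite V] (T : Subalgebra K (Module.End K V))
    (hirr : ∀ X : Submodule K V, (∀ r ∈ T, ∀ v ∈ X, r v ∈ X) → X = ⊥ ∨ X = ⊤)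
    (hcen : ∀ r ∈ T, (∀ r' ∈ T, r * r' = r' * r) → ∃ c : K, r = c • 1) : T = ⊤ := by
  classical
  let E : Subalgebra K (Module.End K V) := Subalgebra.centralizer K (T : Set (Module.End K V))
  have hcomm : ∀ g ∈ E, ∀ g' ∈ E, g * g' = g' * g := by
    refine comm_of_injective E fun g hg hg0 => ?_
    rw [← LinearMap.ker_eq_bot]
    refine (hirr _ fun r hr v hv => ?_).resolve_right fun h => hg0 (LinearMap.ker_eq_top.mp h)
    rw [LinearMap.mem_ker] at hv ⊢
    have h := LinearMap.congr_fun ((Subalgebra.mem_centralizer_iff K).mp hg r hr) v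
    simp only [Module.End.mul_apply] at h
    rw [← h, hv, map_zero]
  refine eq_top_of_irred T hirr fun g hg => ?_
  haveI : IsSimpleModule T V := (isSimpleModule_iff T V).mpr
    { eq_bot_or_eq_top := fun X => by
        rcases hirr (X.restrictScalars K) (fun r hr v hv => X.smul_mem (⟨r, hr⟩ : T) hv) with h | h
        · exact Or.inl (by simpa using h)
        · exact Or.inr (by simpa using h) }
  let f' : Module.End (Module.End T V) V :=
    { toFun := g
      map_add' := g.map_add
      map_smul' := fun φ v => by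
        let φK : Module.End K V :=
          { toFun := φ
            map_add' := φ.map_add
            map_smul' := fun c v => by
              have h1 : (c • v : V) = (algebraMap K T c) • v := rfl
              rw [h1, φ.map_smul]
              rfl }
        have hφ : φK ∈ E := (Subalgebra.mem_centralizer_iff K).mpr fun r hr =>
          LinearMap.ext fun w => (φ.map_smul (⟨r, hr⟩ : T) w).symm
        have hgE : g ∈ E := (Subalgebra.mem_centralizer_iff K).mpr fun r hr => (hg r hr).symm
        exact LinearMap.congr_fun (hcomm g hgE φK hφ) v }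
  let b := Module.finBasis K V
  obtain ⟨r, hr⟩ := jacobson_density f' (Finset.univ.image b)
  have hgr : g = (r : Module.End K V) := b.ext fun i => hr (b i) (Finset.mem_image_of_mem b (Finset.mem_univ i))
  obtain ⟨c, hc⟩ := hcen r r.2 fun r' hr' => by rw [← hgr, hg r' hr']
  exact ⟨c, hgr.trans hc⟩

/-- A group spanning an `F₀`-form of the matrix algebra is realisable over `F₀`. -/
theorem realisable_of_span [Nonempty ι] {F₀ : Subfield F} {κ : Type*} [Fintype κ] {R : κ → Matrix ι ι F}
    (hli : LinearIndependent F R) (hspan : Submodule.span F (Set.range R) = ⊤)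
    (hR : ∀ q, R q ∈ matrixSet N) (q₀ : κ) (hq₀ : ∃ a : F, a ∈ F₀ ∧ a ≠ 0 ∧ R q₀ = a • 1)
    (hN : ∀ x ∈ N, ∃ q, ∃ c ∈ F₀, (x : Matrix ι ι F) = c • R q) :
    RealisableOver F₀ (matrixSet N) := by
  classical
  -- the algebra over the subfield
  let A : Submodule F₀ (Matrix ι ι F) := Submodule.span F₀ (Set.range R)
  have hxA : ∀ x ∈ N, (x : Matrix ι ι F) ∈ A := fun x hx => by
    obtain ⟨q, c, hc, h⟩ := hN x hx
    rw [h]
    exact A.smul_mem ⟨c, hc⟩ (Submodule.subset_span ⟨q, rfl⟩)
  have hmulA : ∀ a ∈ A, ∀ b ∈ A, a * b ∈ A := by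
    intro a ha b hb
    refine Submodule.span_induction (p := fun a _ => a * b ∈ A) ?_ ?_ ?_ ?_ ha
    · rintro _ ⟨q, rfl⟩
      refine Submodule.span_induction (p := fun b _ => R q * b ∈ A) ?_ ?_ ?_ ?_ hb
      · rintro _ ⟨q', rfl⟩
        obtain ⟨x, hx, hxq⟩ := mem_matrixSet.mp (hR q)
        obtain ⟨y, hy, hyq⟩ := mem_matrixSet.mp (hR q')
        rw [← hxq, ← hyq, ← Units.val_mul]
        exact hxA _ (mul_mem hx hy)
      · simp
      · intro u v _ _ hu hv; rw [mul_add]; exact add_mem hu hv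
      · intro c u _ hu; rw [Matrix.mul_smul]; exact A.smul_mem c hu
    · simp
    · intro u v _ _ hu hv; rw [add_mul]; exact add_mem hu hv
    · intro c u _ hu; rw [Matrix.smul_mul]; exact A.smul_mem c hu
  have h1A : (1 : Matrix ι ι F) ∈ A := by simpa using hxA 1 (one_mem N)
  have hscalA : ∀ c : F, c • (1 : Matrix ι ι F) ∈ A → c ∈ F₀ := by
    intro c hc
    obtain ⟨g, hg⟩ := (Submodule.mem_span_range_iff_exists_fun F₀).mp hc
    obtain ⟨a, haF, ha0, ha⟩ := hq₀
    have h2 : ∑ q, (((g q : F₀) : F) - if q = q₀ then c * a⁻¹ else 0) • R q = 0 := by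
      simp only [sub_smul, Finset.sum_sub_distrib]
      rw [show (∑ q, ((g q : F₀) : F) • R q) = c • 1 from hg]
      simp [ha, smul_smul, mul_assoc, inv_mul_cancel₀ ha0]
    have h3 := Fintype.linearIndependent_iff.mp hli _ h2 q₀
    rw [if_pos rfl, sub_eq_zero] at h3
    have : c = ((g q₀ : F₀) : F) * a := by rw [h3, mul_assoc, inv_mul_cancel₀ ha0, mul_one]
    rw [this]
    exact mul_mem (g q₀).2 haF
  -- a minimal invariant subspace over the subfield
  obtain ⟨L, ⟨hL0, hLi⟩, hLmin⟩ := WellFounded.has_min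
    (wellFounded_lt (α := Submodule F₀ (ι → F)))
    {L | L ≠ ⊥ ∧ ∀ a ∈ A, ∀ v ∈ L, a *ᵥ v ∈ L}
    ⟨⊤, top_ne_bot, fun _ _ _ _ => Submodule.mem_top⟩
  have hLspan : Submodule.span F (L : Set (ι → F)) = ⊤ := by
    have hall : ∀ M : Matrix ι ι F, ∀ v ∈ Submodule.span F (L : Set (ι → F)),
        M *ᵥ v ∈ Submodule.span F (L : Set (ι → F)) := by
      intro M v hv
      have hM : M ∈ Submodule.span F (Set.range R) := hspan ▸ Submodule.mem_top
      refine Submodule.span_induction (p := fun M _ => M *ᵥ v ∈ _) ?_ ?_ ?_ ?_ hM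
      · rintro _ ⟨q, rfl⟩
        refine Submodule.span_induction (p := fun v _ => R q *ᵥ v ∈ _) ?_ ?_ ?_ ?_ hv
        · exact fun w hw => Submodule.subset_span (hLi _ (Submodule.subset_span ⟨q, rfl⟩) w hw)
        · simp
        · intro u w _ _ hu hw; rw [Matrix.mulVec_add]; exact add_mem hu hw
        · intro c u _ hu; rw [Matrix.mulVec_smul]; exact Submodule.smul_mem _ c hu
      · simp
      · intro u w _ _ hu hw; rw [Matrix.add_mulVec]; exact add_mem hu hw
      · intro c u _ hu; rw [Matrix.smul_mulVec]; exact Submodule.smul_mem _ c hu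
    obtain ⟨w, hw, hw0⟩ := Submodule.exists_mem_ne_zero_of_ne_bot hL0
    obtain ⟨j, hj⟩ := Function.ne_iff.mp hw0
    rw [eq_top_iff]
    intro v _
    have h3 : (Matrix.of fun a b => if b = j then v a * (w j)⁻¹ else 0) *ᵥ w = v := by
      funext a
      simp [Matrix.mulVec, dotProduct, mul_assoc, inv_mul_cancel₀ (show w j ≠ 0 from hj)]
    exact h3 ▸ hall _ w (Submodule.subset_span hw)
  let ρ : A →ₗ[F₀] Module.End F₀ L :=
    { toFun := fun a =>
        { toFun := fun v => ⟨(a : Matrix ι ι F) *ᵥ v, hLi _ a.2 _ v.2⟩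
          map_add' := fun u v => Subtype.ext (by simp [Matrix.mulVec_add])
          map_smul' := fun c v => Subtype.ext (Matrix.mulVec_smul _ (c : F) (v : ι → F)) }
      map_add' := fun a b => LinearMap.ext fun v => Subtype.ext (Matrix.add_mulVec _ _ _)
      map_smul' := fun c a => LinearMap.ext fun v => Subtype.ext (Matrix.smul_mulVec (c : F) _ _) }
  have hρinj : Function.Injective ρ := by
    intro a b hab
    refine Subtype.ext (Matrix.toLin'.injective (LinearMap.ext_on hLspan fun v hv => ?_))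
    rw [Matrix.toLin'_apply, Matrix.toLin'_apply]
    exact congrArg Subtype.val (LinearMap.congr_fun hab ⟨v, hv⟩)
  let T : Subalgebra F₀ (Module.End F₀ L) :=
    { carrier := Set.range ρ
      mul_mem' := by
        rintro _ _ ⟨a, rfl⟩ ⟨b, rfl⟩
        exact ⟨⟨_, hmulA _ a.2 _ b.2⟩, LinearMap.ext fun v => Subtype.ext (Matrix.mulVec_mulVec _ _ _).symm⟩
      one_mem' := ⟨⟨1, h1A⟩, LinearMap.ext fun v => Subtype.ext (Matrix.one_mulVec _)⟩
      add_mem' := by rintro _ _ ⟨a, rfl⟩ ⟨b, rfl⟩; exact ⟨a + b, map_add ρ a b⟩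
      zero_mem' := ⟨0, map_zero ρ⟩
      algebraMap_mem' := fun c => ⟨c • (⟨1, h1A⟩ : A), by
        rw [map_smul, Algebra.algebraMap_eq_smul_one]
        congr 1
        exact LinearMap.ext fun v => Subtype.ext (Matrix.one_mulVec _)⟩ }
  haveI : Nontrivial L := Submodule.nontrivial_iff_ne_bot.mpr hL0
  have hirr : ∀ X : Submodule F₀ L, (∀ r ∈ T, ∀ v ∈ X, r v ∈ X) → X = ⊥ ∨ X = ⊤ := by
    intro X hX
    by_cases hb : X.map L.subtype = ⊥
    · exact Or.inl (Submodule.map_injective_of_injective (Submodule.injective_subtype L)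
        (hb.trans (Submodule.map_bot _).symm))
    · right
      have heq : X.map L.subtype = L := by
        by_contra hne
        refine hLmin (X.map L.subtype) ⟨hb, ?_⟩ (lt_of_le_of_ne (Submodule.map_subtype_le L X) hne)
        rintro a ha _ ⟨v, hv, rfl⟩
        exact ⟨_, hX _ ⟨⟨a, ha⟩, rfl⟩ v hv, rfl⟩
      exact Submodule.map_injective_of_injective (Submodule.injective_subtype L) (heq.trans L.map_subtype_top.symm)
  have hcen : ∀ r ∈ T, (∀ r' ∈ T, r * r' = r' * r) → ∃ c : F₀, r = c • 1 := by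
    rintro _ ⟨a, rfl⟩ hg
    have hcomm : ∀ M : Matrix ι ι F, M * (a : Matrix ι ι F) = (a : Matrix ι ι F) * M := by
      intro M
      have hM : M ∈ Submodule.span F (Set.range R) := hspan ▸ Submodule.mem_top
      refine Submodule.span_induction (p := fun M _ => M * (a : Matrix ι ι F) = (a : Matrix ι ι F) * M) ?_ ?_ ?_ ?_ hM
      · rintro _ ⟨q, rfl⟩
        refine Matrix.toLin'.injective (LinearMap.ext_on hLspan fun v hv => ?_)
        let bq : A := ⟨R q, Submodule.subset_span ⟨q, rfl⟩⟩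
        have h := congrArg Subtype.val (LinearMap.congr_fun (hg (ρ bq) ⟨bq, rfl⟩) ⟨v, hv⟩)
        simp only [Matrix.toLin'_apply, ← Matrix.mulVec_mulVec]
        exact h.symm
      · simp
      · intro u w _ _ hu hw; rw [add_mul, mul_add, hu, hw]
      · intro c u _ hu; rw [Matrix.smul_mul, Matrix.mul_smul, hu]
    obtain ⟨c, hc⟩ := (Matrix.mem_range_scalar_iff_commute_single'.mpr fun i j => hcomm _ :
      (a : Matrix ι ι F) ∈ Set.range (Matrix.scalar ι))
    have hc' : (a : Matrix ι ι F) = c • 1 := by rw [← hc, Matrix.scalar_apply, Matrix.smul_one_eq_diagonal]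
    refine ⟨⟨c, hscalA c (hc' ▸ a.2)⟩, LinearMap.ext fun v => Subtype.ext ?_⟩
    show (a : Matrix ι ι F) *ᵥ (v : ι → F) = c • (v : ι → F)
    rw [hc', Matrix.smul_mulVec, Matrix.one_mulVec]
  have htop := eq_top_of_centre T hirr hcen
  have hρsurj : Function.Surjective ρ := fun f => by
    have h : f ∈ T := htop ▸ Algebra.mem_top
    exact h
  have hdim : Module.finrank F₀ L = Fintype.card ι := by
    have h1 : Module.finrank F₀ A = Fintype.card κ := by
      refine finrank_span_eq_card (hli.restrict_scalars ?_)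
      intro a b h
      simpa using h
    have h2 : Fintype.card κ = Fintype.card ι * Fintype.card ι := by
      have := finrank_span_eq_card hli
      rw [hspan, finrank_top, Module.finrank_matrix, Module.finrank_self, mul_one] at this
      exact this.symm
    rw [(LinearEquiv.ofBijective ρ ⟨hρinj, hρsurj⟩).finrank_eq, Module.finrank_linearMap, h2] at h1
    exact Nat.mul_self_inj.mp h1
  let b := Module.finBasisOfFinrankEq F₀ L hdim
  let ε : Fin (Fintype.card ι) ≃ ι := (Fintype.equivFin ι).symm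
  let bv : ι → (ι → F) := fun i => ((b (ε.symm i) : L) : ι → F)
  let M : Matrix ι ι F := Matrix.of fun i j => bv j i
  have hbspan : ⊤ ≤ Submodule.span F (Set.range bv) := by
    rw [← hLspan, Submodule.span_le]
    intro v hv
    have h := congrArg Subtype.val (b.sum_repr ⟨v, hv⟩)
    simp only [AddSubmonoidClass.coe_finsetSum] at h
    rw [← h]
    refine sum_mem fun i _ => ?_
    show ((b.repr _ i : F₀) : F) • ((b i : L) : ι → F) ∈ _
    exact Submodule.smul_mem _ _ (Submodule.subset_span ⟨ε i, by simp [bv]⟩)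
  let Bb : Module.Basis ι F (ι → F) :=
    basisOfTopLeSpanOfCardEqFinrank bv hbspan (by rw [Module.finrank_pi])
  have hMu : IsUnit M := by
    rw [← Matrix.linearIndependent_cols_iff_isUnit]
    have : M.col = bv := rfl
    rw [this]
    have := Bb.linearIndependent
    rwa [coe_basisOfTopLeSpanOfCardEqFinrank] at this
  obtain ⟨U, hU⟩ := hMu
  refine ⟨U⁻¹, fun s hs i j => ?_⟩
  obtain ⟨x, hx, rfl⟩ := mem_matrixSet.mp hs
  rw [inv_inv, mul_assoc]
  have hcol : (x : Matrix ι ι F) *ᵥ bv j = ∑ k, ((b.repr ⟨_, hLi _ (hxA x hx) _ (b (ε.symm j)).2⟩ (ε.symm k) : F₀) : F) • bv k := by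
    have h := congrArg Subtype.val (b.sum_repr ⟨_, hLi _ (hxA x hx) _ (b (ε.symm j)).2⟩)
    simp only [AddSubmonoidClass.coe_finsetSum] at h
    rw [← Equiv.sum_comp ε]
    refine h.symm.trans (Finset.sum_congr rfl fun k _ => ?_)
    simp only [bv, Equiv.symm_apply_apply]
    rfl
  have hxM : (x : Matrix ι ι F) * (U : Matrix ι ι F) = (U : Matrix ι ι F) *
      Matrix.of fun k j => ((b.repr ⟨_, hLi _ (hxA x hx) _ (b (ε.symm j)).2⟩ (ε.symm k) : F₀) : F) := by
    rw [hU]
    ext i' j'
    have h := congrFun (show (x : Matrix ι ι F) *ᵥ bv j' = _ from by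
      have h := congrArg Subtype.val (b.sum_repr ⟨_, hLi _ (hxA x hx) _ (b (ε.symm j')).2⟩)
      simp only [AddSubmonoidClass.coe_finsetSum] at h
      exact h.symm) i'
    rw [Finset.sum_apply] at h
    simp only [Matrix.mul_apply]
    rw [show (∑ k, (x : Matrix ι ι F) i' k * M k j') = ((x : Matrix ι ι F) *ᵥ bv j') i' from rfl, h,
      ← Equiv.sum_comp ε]
    refine Finset.sum_congr rfl fun k _ => ?_
    simp only [M, bv, Matrix.of_apply, Equiv.symm_apply_apply]
    show ((b.repr _ k : F₀) : F) * ((b k : L) : ι → F) i' = _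
    ring
  rw [hxM, ← mul_assoc, Units.inv_mul, one_mul]
  exact SetLike.coe_mem _

variable {G : Matrix ι ι F}

/-- The groups of isometries with scalar commutators. -/
theorem symplecticType_sp [Nonempty ι] (hG : Alt G) (hN : N ≤ Isom G) (h3 : 3 ≤ Fintype.card ι)
    (habs : ActsAbsolutelyIrreducibly (matrixSet N)) (hcomm : ⁅N, N⁆ ≤ scalars ι F)
    (hns : ¬ N ≤ scalars ι F)
    (hchar : ∀ A : Subgroup N, A.Characteristic → A.map N.subtype ≤ scalars ι F ∨ A = ⊤) :
    (∃ F₀ : Subfield F, F₀ ≠ ⊤ ∧ RealisableOver F₀ (matrixSet N)) ∨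
    (∃ p k : ℕ, p.Prime ∧ Odd p ∧ Fintype.card F = p ∧ IsSymplecticTypeGroup 2 N ∧
      Nat.card N = 2 ^ (1 + 2 * k) ∧ Nat.card (Subgroup.center N) = 2 ∧ Fintype.card ι = 2 ^ k ∧ IsOfMinusType k N) := by
  classical
  -- scalars of `N` are its centre
  have hcen : ∀ x : N, x ∈ Subgroup.center N ↔ (x : GL ι F) ∈ scalars ι F := by
    intro x
    constructor
    · intro hx
      obtain ⟨c, hc⟩ := habs.2 (x : GL ι F).1 (fun s hs => by
        obtain ⟨y, hy, rfl⟩ := mem_matrixSet.mp hs
        exact congrArg (fun t : N => ((t : GL ι F) : Matrix ι ι F)) (Subgroup.mem_center_iff.mp hx ⟨y, hy⟩).symm)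
      refine (mem_scalars_iff _).mpr ⟨Units.mk0 c fun h0 => (x : GL ι F).ne_zero (by rw [hc, h0, zero_smul]), hc⟩
    · exact fun hx => Subgroup.mem_center_iff.mpr fun y => Subtype.ext (scalar_comm hx (y : GL ι F)).symm
  -- the prime
  have hZne : (Subgroup.center N) ≠ ⊤ := fun h => hns fun x hx => (hcen ⟨x, hx⟩).mp (h ▸ Subgroup.mem_top _)
  have hidx : (Subgroup.center N).index ≠ 1 := fun h => hZne (Subgroup.index_eq_one.mp h)
  set r := (Subgroup.center N).index.minFac with hr
  have hrp : r.Prime := Nat.minFac_prime hidx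
  haveI := Fact.mk hrp
  have hcommQ : ∀ a b : N ⧸ Subgroup.center N, a * b = b * a := by
    intro a b
    obtain ⟨a, rfl⟩ := QuotientGroup.mk'_surjective _ a
    obtain ⟨b, rfl⟩ := QuotientGroup.mk'_surjective _ b
    rw [← commutatorElement_eq_one_iff_mul_comm, ← map_commutatorElement, QuotientGroup.mk'_apply,
      QuotientGroup.eq_one_iff, hcen]
    exact hcomm (by
      simpa [commutatorElement_def] using Subgroup.commutator_mem_commutator a.2 b.2)
  let M : Subgroup N :=
    { carrier := {x | x ^ r ∈ Subgroup.center N}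
      one_mem' := by simp
      mul_mem' := fun {x y} hx hy => by
        simp only [Set.mem_setOf_eq] at *
        rw [← QuotientGroup.eq_one_iff, QuotientGroup.mk_pow, QuotientGroup.mk_mul,
          (show Commute (x : N ⧸ Subgroup.center N) y from hcommQ _ _).mul_pow, ← QuotientGroup.mk_pow,
          ← QuotientGroup.mk_pow, (QuotientGroup.eq_one_iff _).mpr hx, (QuotientGroup.eq_one_iff _).mpr hy,
          one_mul]
      inv_mem' := fun {x} hx => by
        simp only [Set.mem_setOf_eq] at *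
        rw [inv_pow]; exact inv_mem hx }
  have hMchar : M.Characteristic := by
    refine Subgroup.characteristic_iff_le_comap.mpr fun φ x hx => ?_
    show (φ x) ^ r ∈ Subgroup.center N
    rw [← map_pow]
    exact (Subgroup.centerCharacteristic.fixed φ).ge hx
  have hMtop : M = ⊤ := by
    refine (hchar M hMchar).resolve_left fun h => ?_
    obtain ⟨a, ha⟩ := exists_prime_orderOf_dvd_card' (G := N ⧸ Subgroup.center N) r
      (by rw [← Subgroup.index]; exact Nat.minFac_dvd _)
    obtain ⟨x, rfl⟩ := QuotientGroup.mk'_surjective _ a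
    have hx : x ∈ M := by
      show x ^ r ∈ Subgroup.center N
      rw [← QuotientGroup.eq_one_iff, QuotientGroup.mk_pow, ← ha]
      exact pow_orderOf_eq_one _
    have h1 : x ∈ Subgroup.center N := (hcen x).mpr (h ⟨x, hx, rfl⟩)
    rw [QuotientGroup.mk'_apply, (QuotientGroup.eq_one_iff _).mpr h1, orderOf_one] at ha
    exact hrp.one_lt.ne ha
  have hpowr : ∀ x ∈ N, x ^ r ∈ scalars ι F := fun x hx => by
    have h : (⟨x, hx⟩ : N) ∈ M := hMtop ▸ Subgroup.mem_top _
    simpa using (hcen _).mp h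
  -- commutation factors
  have hfacr : ∀ x ∈ N, ∀ y ∈ N, ∀ c : F,
      (x : Matrix ι ι F) * (y : Matrix ι ι F) = c • ((y : Matrix ι ι F) * (x : Matrix ι ι F)) → c ^ r = 1 := by
    intro x hx y hy c hc
    have hk : ∀ k : ℕ, (x : Matrix ι ι F) ^ k * (y : Matrix ι ι F) = c ^ k • ((y : Matrix ι ι F) * (x : Matrix ι ι F) ^ k) := by
      intro k
      induction k with
      | zero => simp
      | succ k ih =>
        rw [pow_succ, mul_assoc, hc, Matrix.mul_smul, ← mul_assoc, ih, Matrix.smul_mul, smul_smul, pow_succ',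
          mul_assoc]
    have h1 := hk r
    rw [← Units.val_pow_eq_pow_val, ← Units.val_mul, scalar_comm (hpowr x hx) y, Units.val_mul] at h1
    have hne : (y : Matrix ι ι F) * ((x ^ r : GL ι F) : Matrix ι ι F) ≠ 0 := by
      rw [← Units.val_mul]; exact Units.ne_zero _
    nth_rw 1 [← one_smul F ((y : Matrix ι ι F) * ((x ^ r : GL ι F) : Matrix ι ι F))] at h1
    exact (smul_left_injective F hne h1).symm
  obtain ⟨x₀, hx₀, y₀, hy₀, hxy⟩ : ∃ x ∈ N, ∃ y ∈ N, (x : Matrix ι ι F) * y.val ≠ y.val * x.val := by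
    by_contra! h
    refine hns fun x hx => (hcen ⟨x, hx⟩).mp (Subgroup.mem_center_iff.mpr fun y => Subtype.ext (Units.ext ?_))
    exact (h x hx y y.2).symm
  obtain ⟨c₀, -, hc₀⟩ := exists_factor hcomm hx₀ hy₀
  have hc₀1 : c₀ ≠ 1 := fun h => hxy (by rw [hc₀, h, one_smul])
  have hc₀r : c₀ ^ r = 1 := hfacr x₀ hx₀ y₀ hy₀ c₀ hc₀
  have hc₀prim : IsPrimitiveRoot c₀ r := by
    have := orderOf_eq_prime hc₀r hc₀1
    exact this ▸ IsPrimitiveRoot.orderOf c₀
  obtain ⟨p, f, _, _, hf, hF⟩ := exists_char_card (F := F)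
  have hp : p.Prime := Fact.out
  have hrp' : r ≠ p := by
    intro h
    apply hc₀1
    refine frobenius_inj F p ?_
    simp only [frobenius_def, one_pow]
    rw [← h]; exact hc₀r
  -- the exponent
  set e := r * Nat.gcd 2 r with he
  have hecases : (r = 2 ∧ e = 4) ∨ (r ≠ 2 ∧ Odd r ∧ e = r) := by
    rcases eq_or_ne r 2 with h | h
    · left; rw [he, h]; exact ⟨rfl, rfl⟩
    · right
      refine ⟨h, hrp.odd_of_ne_two h, ?_⟩
      rw [he, (Nat.coprime_primes Nat.prime_two hrp).mpr (Ne.symm h), mul_one]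
  have he0 : 0 < e := Nat.mul_pos hrp.pos (Nat.gcd_pos_of_pos_left _ two_pos)
  have hre : r ∣ e := dvd_mul_right _ _
  have hche : ∀ c : F, c ^ r = 1 → c ^ (e.choose 2) = 1 := by
    intro c hc
    have hd : r ∣ e.choose 2 := by
      rcases hecases with ⟨h, h'⟩ | ⟨-, hodd, h'⟩
      · rw [h, h']; decide
      · rw [h']; exact hrp.dvd_choose_self two_ne_zero (by
          obtain ⟨j, hj⟩ := hodd
          have := hrp.two_le
          omega)
    obtain ⟨j, hj⟩ := hd
    rw [hj, pow_mul, hc, one_pow]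
  have hmulpow : ∀ x y : N, (x * y) ^ e = x ^ e * y ^ e := by
    intro x y
    obtain ⟨c, -, hc⟩ := exists_factor hcomm y.2 x.2
    refine Subtype.ext (Units.ext ?_)
    simp only [SubmonoidClass.coe_pow, MulMemClass.coe_mul, Units.val_pow_eq_pow_val, Units.val_mul]
    rw [mul_pow_factor hc, hche c (hfacr y y.2 x x.2 c hc), one_smul]
  let φ : N →* N := MonoidHom.mk' (fun x => x ^ e) hmulpow
  have hKchar : φ.ker.Characteristic := by
    refine Subgroup.characteristic_iff_le_comap.mpr fun ψ x hx => ?_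
    show (ψ x) ^ e = 1
    rw [← map_pow, show x ^ e = 1 from hx, map_one]
  have hscyc : IsCyclic (scalars ι F) :=
    isCyclic_of_surjective _ (MonoidHom.rangeRestrict_surjective
      (Units.map (Matrix.scalar ι : F →+* Matrix ι ι F).toMonoidHom))
  have hpowe : ∀ x ∈ N, x ^ e = 1 := by
    have hK : φ.ker = ⊤ := by
      refine (hchar _ hKchar).resolve_left fun h => ?_
      let ψ : N →* scalars ι F := (N.subtype.comp φ).codRestrict _ fun x => by
        show ((x ^ e : N) : GL ι F) ∈ _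
        obtain ⟨j, hj⟩ := hre
        rw [SubmonoidClass.coe_pow, hj, pow_mul]
        exact pow_mem (hpowr _ x.2) _
      have hψ : ψ.ker ≤ Subgroup.center N := by
        intro x hx
        rw [hcen]
        refine h ⟨x, ?_, rfl⟩
        show x ^ e = 1
        exact Subtype.ext (congrArg (fun t : scalars ι F => (t : GL ι F)) hx)
      refine hxy ?_
      exact congrArg (fun t : N => ((t : GL ι F) : Matrix ι ι F))
        (commutative_of_cyclic_center_quotient ψ hψ ⟨x₀, hx₀⟩ ⟨y₀, hy₀⟩)
    intro x hx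
    have h : (⟨x, hx⟩ : N) ∈ φ.ker := hK ▸ Subgroup.mem_top _
    exact congrArg Subtype.val (show (⟨x, hx⟩ : N) ^ e = 1 from h)
  have hNp : IsPGroup r N := fun x => ⟨2, Subtype.ext (by
    rw [SubmonoidClass.coe_pow, OneMemClass.coe_one]
    rcases hecases with ⟨h, h'⟩ | ⟨-, -, h'⟩
    · have h4 := hpowe _ x.2
      rw [h'] at h4
      rw [h]; exact h4
    · rw [pow_two, pow_mul]; nth_rw 1 [← h']; rw [hpowe _ x.2, one_pow])⟩
  have hexp : Monoid.exponent N = e := by
    have hd : Monoid.exponent N ∣ e :=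
      Monoid.exponent_dvd_of_forall_pow_eq_one fun x => Subtype.ext (by simpa using hpowe _ x.2)
    have hne1 : Monoid.exponent N ≠ 1 := by
      intro h
      haveI : Subsingleton N := Monoid.exp_eq_one_iff.mp h
      exact hxy (by rw [show x₀ = y₀ from congrArg Subtype.val (Subsingleton.elim (⟨x₀, hx₀⟩ : N) ⟨y₀, hy₀⟩)])
    rcases hecases with ⟨h, h'⟩ | ⟨-, -, h'⟩
    · rw [h'] at hd ⊢
      have hne2 : Monoid.exponent N ≠ 2 := by
        intro h2
        refine hxy ?_
        have h3 : ∀ a : N, a * a = 1 := fun a => by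
          have := Monoid.pow_exponent_eq_one a; rwa [h2, pow_two] at this
        have h4 : ∀ a b : N, a * b = b * a := fun a b => by
          have hi : ∀ c : N, c⁻¹ = c := fun c => inv_eq_of_mul_eq_one_right (h3 c)
          calc a * b = (a * b)⁻¹ := (hi _).symm
            _ = b⁻¹ * a⁻¹ := mul_inv_rev a b
            _ = b * a := by rw [hi, hi]
        exact congrArg (fun t : N => ((t : GL ι F) : Matrix ι ι F)) (h4 ⟨x₀, hx₀⟩ ⟨y₀, hy₀⟩)
      have h4 : Monoid.exponent N ∈ Nat.divisors 4 := Nat.mem_divisors.mpr ⟨hd, by norm_num⟩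
      rw [show Nat.divisors 4 = {1, 2, 4} by decide] at h4
      simp at h4
      omega
    · rw [h'] at hd ⊢
      exact (hrp.eq_one_or_self_of_dvd _ hd).resolve_left hne1
  -- the centre
  haveI : IsCyclic (Subgroup.center N) := by
    let g : Subgroup.center N →* scalars ι F :=
      (N.subtype.comp (Subgroup.center N).subtype).codRestrict _ fun z => (hcen z.1).mp z.2
    exact isCyclic_of_injective g fun a b hab => Subtype.ext (Subtype.ext
      (congrArg (fun t : scalars ι F => (t : GL ι F)) hab))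
  set z := Nat.card (Subgroup.center N) with hz
  have hze : z ∣ e := by
    rw [hz, ← IsCyclic.exponent_eq_card]
    exact Monoid.exponent_dvd_of_forall_pow_eq_one fun x => Subtype.ext (Subtype.ext (by
      simpa using hpowe _ x.1.2))
  have hrz : r ∣ z := by
    have hcz : ⁅(⟨x₀, hx₀⟩ : N), ⟨y₀, hy₀⟩⁆ ∈ Subgroup.center N := by
      rw [hcen]
      exact hcomm (by simpa [commutatorElement_def] using Subgroup.commutator_mem_commutator hx₀ hy₀)
    have hne1 : (⟨_, hcz⟩ : Subgroup.center N) ≠ 1 := by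
      intro h
      refine hxy ?_
      exact congrArg (fun t : N => ((t : GL ι F) : Matrix ι ι F))
        (commutatorElement_eq_one_iff_mul_comm.mp (congrArg Subtype.val h))
    have hoe : orderOf (⟨_, hcz⟩ : Subgroup.center N) ∣ e :=
      orderOf_dvd_of_pow_eq_one (Subtype.ext (Subtype.ext (by simpa using hpowe _ (⁅(⟨x₀, hx₀⟩ : N), (⟨y₀, hy₀⟩ : N)⁆).2)))
    have hdvdz := orderOf_dvd_natCard (⟨_, hcz⟩ : Subgroup.center N)
    have ho1 : orderOf (⟨_, hcz⟩ : Subgroup.center N) ≠ 1 := fun h => hne1 (orderOf_eq_one_iff.mp h)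
    obtain ⟨j, hj, hoj⟩ : ∃ j, j ≤ 2 ∧ orderOf (⟨_, hcz⟩ : Subgroup.center N) = r ^ j := by
      have : e ∣ r ^ 2 := by
        rcases hecases with ⟨h, h'⟩ | ⟨-, -, h'⟩
        · rw [h, h']; decide
        · rw [h', pow_two]; exact dvd_mul_right _ _
      obtain ⟨j, hj, hoj⟩ := (Nat.dvd_prime_pow hrp).mp (hoe.trans this)
      exact ⟨j, hj, hoj⟩
    refine dvd_trans ?_ hdvdz
    rw [hoj]
    exact dvd_pow_self r fun h0 => ho1 (by rw [hoj, h0, pow_zero])
  -- dimension
  have htop : algOf N = ⊤ :=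
    algOf_eq_top (irred_iff.mp habs.1) fun M hM => habs.2 M fun s hs => by
      obtain ⟨x, hx, rfl⟩ := mem_matrixSet.mp hs
      exact (mem_commutant.mp hM x hx).symm
  let R : N ⧸ Subgroup.center N → Matrix ι ι F := fun q => ((q.out : N) : GL ι F)
  have hRspan : Submodule.span F (Set.range R) = ⊤ := by
    have hmem : ∀ x : N, ((x : GL ι F) : Matrix ι ι F) ∈ Submodule.span F (Set.range R) := by
      intro x
      obtain ⟨⟨w, hw⟩, hxw⟩ := QuotientGroup.mk_out_eq_mul (Subgroup.center N) x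
      obtain ⟨c, hc⟩ := (mem_scalars_iff _).mp ((hcen w).mp hw)
      have h1 : R (x : N ⧸ Subgroup.center N) = (c : F) • ((x : GL ι F) : Matrix ι ι F) := by
        simp only [R, hxw, MulMemClass.coe_mul, Units.val_mul, hc, Matrix.mul_smul, mul_one]
      rw [← one_smul F ((x : GL ι F) : Matrix ι ι F), ← inv_mul_cancel₀ c.ne_zero, ← smul_smul, ← h1]
      exact Submodule.smul_mem _ _ (Submodule.subset_span ⟨_, rfl⟩)
    rw [eq_top_iff]
    intro M _
    have hM : M ∈ algOf N := by rw [htop]; exact Algebra.mem_top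
    rw [algOf, ← Subalgebra.mem_toSubmodule, Algebra.adjoin_eq_span] at hM
    refine Submodule.span_le.mpr ?_ hM
    intro s hs
    have hsub : Submonoid.closure (matrixSet N) ≤ N.toSubmonoid.map (Units.coeHom (Matrix ι ι F)) :=
      Submonoid.closure_le.mpr fun s hs => by
        obtain ⟨x, hx, rfl⟩ := mem_matrixSet.mp hs
        exact ⟨x, hx, rfl⟩
    obtain ⟨x, hx, rfl⟩ := hsub hs
    exact hmem ⟨x, hx⟩
  have htr : ∀ q, q ≠ (1 : N ⧸ Subgroup.center N) → (R q).trace = 0 := fun q hq => by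
    refine trace_eq_zero habs hcomm q.out.2 fun h => hq ?_
    rw [← QuotientGroup.out_eq' q, QuotientGroup.eq_one_iff, hcen]
    exact h
  have hn0 : (Fintype.card ι : F) ≠ 0 := by
    intro hn0
    have hall : ∀ M : Matrix ι ι F, M.trace = 0 := by
      intro M
      have hM : M ∈ Submodule.span F (Set.range R) := hRspan ▸ Submodule.mem_top
      refine Submodule.span_induction (p := fun M _ => M.trace = 0) ?_ (Matrix.trace_zero _ _)
        (fun a b _ _ ha hb => by rw [Matrix.trace_add, ha, hb, add_zero])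
        (fun c a _ ha => by rw [Matrix.trace_smul, ha, smul_zero]) hM
      rintro _ ⟨q, rfl⟩
      by_cases hq : q = 1
      · have h1 : (q.out : N) ∈ Subgroup.center N := by
          rw [← QuotientGroup.eq_one_iff, QuotientGroup.out_eq', hq]
        obtain ⟨c, hc⟩ := (mem_scalars_iff _).mp ((hcen _).mp h1)
        show Matrix.trace ((q.out : N) : GL ι F).1 = 0
        rw [hc, Matrix.trace_smul, Matrix.trace_one, hn0, smul_zero]
      · exact htr q hq
    obtain ⟨i⟩ := ‹Nonempty ι›
    exact one_ne_zero (α := F) (by simpa using hall (Matrix.single i i 1))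
  haveI : Fintype (N ⧸ Subgroup.center N) := Fintype.ofFinite _
  have hRli : LinearIndependent F R := by
    rw [Fintype.linearIndependent_iff]
    intro g hg q
    have h1 := congrArg (fun M => Matrix.trace (M * ((((q.out : N) : GL ι F)⁻¹ : GL ι F) : Matrix ι ι F))) hg
    simp only [Finset.sum_mul, Matrix.trace_sum, zero_mul, Matrix.trace_zero, Matrix.smul_mul, Matrix.trace_smul] at h1
    rw [Finset.sum_eq_single q (fun q' _ hq' => ?_) (by simp)] at h1
    · simp only [R, Units.mul_inv, Matrix.trace_one, smul_eq_mul] at h1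
      exact (mul_eq_zero.mp h1).resolve_right hn0
    · have hne : ((q'.out * q.out⁻¹ : N) : GL ι F) ∉ scalars ι F := by
        intro h
        apply hq'
        have h2 : ((q'.out * q.out⁻¹ : N) : N ⧸ Subgroup.center N) = 1 := by
          rw [QuotientGroup.eq_one_iff, hcen]; exact h
        rw [QuotientGroup.mk_mul, QuotientGroup.mk_inv, QuotientGroup.out_eq', QuotientGroup.out_eq'] at h2
        exact mul_inv_eq_one.mp h2
      have := trace_eq_zero habs hcomm (q'.out * q.out⁻¹ : N).2 hne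
      rw [MulMemClass.coe_mul, InvMemClass.coe_inv, Units.val_mul] at this
      show g q' • Matrix.trace (R q' * _) = 0
      rw [this, smul_zero]
  have hidx2 : (Subgroup.center N).index = Fintype.card ι ^ 2 := by
    have h1 : Nat.card (N ⧸ Subgroup.center N) = Module.finrank F (Matrix ι ι F) := by
      rw [Nat.card_eq_fintype_card, ← finrank_top F (Matrix ι ι F), ← hRspan,
        finrank_span_eq_card hRli]
    rw [Subgroup.index, h1, Module.finrank_matrix, Module.finrank_self, mul_one, sq]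
  obtain ⟨m, hm⟩ : ∃ m, Fintype.card ι = r ^ m := by
    obtain ⟨j, hj⟩ := (hNp.to_quotient (Subgroup.center N)).exists_card_eq
    rw [← Subgroup.index, hidx2] at hj
    obtain ⟨m, -, hm⟩ := (Nat.dvd_prime_pow hrp).mp (Dvd.intro _ ((sq _).symm.trans hj))
    exact ⟨m, hm⟩
  have hcardN : Nat.card N = z * Fintype.card ι ^ 2 := by
    rw [← hidx2, hz, Subgroup.card_mul_index]
  obtain ⟨i₀⟩ := ‹Nonempty ι›
  have hsq : ∀ x ∈ N, ∀ c : F, (x : Matrix ι ι F) = c • (1 : Matrix ι ι F) → c = 1 ∨ c = -1 := by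
    intro x hx c hc
    have h := mem_isom.mp (hN hx)
    rw [hc, Matrix.transpose_smul, Matrix.transpose_one, Matrix.smul_mul, Matrix.smul_mul, one_mul, Matrix.mul_smul,
      mul_one, smul_smul] at h
    have hG0 : G ≠ 0 := fun h0 => hG.det_ne (by rw [h0, Matrix.det_zero])
    exact mul_self_eq_one_iff.mp (smul_left_injective F hG0 (h.trans (one_smul F G).symm))
  have hzle : z ≤ 2 := by
    rw [hz, Nat.card_eq_fintype_card]
    refine le_trans (Fintype.card_le_of_injective (fun w : Subgroup.center N =>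
      decide ((((w : N) : GL ι F) : Matrix ι ι F) = 1)) fun w w' hww => ?_) (by simp)
    obtain ⟨c, hc⟩ := (mem_scalars_iff _).mp ((hcen w.1).mp w.2)
    obtain ⟨c', hc'⟩ := (mem_scalars_iff _).mp ((hcen w'.1).mp w'.2)
    refine Subtype.ext (Subtype.ext (Units.ext ?_))
    simp only [decide_eq_decide] at hww
    rcases hsq _ w.1.2 c hc with h | h <;> rcases hsq _ w'.1.2 c' hc' with h' | h'
    · rw [hc, hc', h, h']
    · rw [hc, h, one_smul] at hww; rw [hc, h, one_smul, hww.mp rfl]
    · rw [hc' , h', one_smul] at hww; rw [hc', h', one_smul, hww.mpr rfl]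
    · rw [hc, hc', h, h']
  have hzpos : 0 < z := Nat.card_pos
  have hr2 : r = 2 := le_antisymm ((Nat.le_of_dvd hzpos hrz).trans hzle) hrp.two_le
  have hz2 : z = 2 := le_antisymm hzle ((hr2 ▸ Nat.le_of_dvd hzpos hrz))
  have hpodd : Odd p := hp.odd_of_ne_two fun h => hrp' (hr2.trans h.symm)
  have hF₀ : ∀ c : F, c = 1 ∨ c = -1 → ∀ F₀ : Subfield F, c ∈ F₀ := by
    rintro c (rfl | rfl) F₀ <;> simp
  by_cases hf1 : f = 1
  swap
  · left
    refine ⟨fixedField p 1, fun htop => ?_, ?_⟩
    · have := card_fixedField (F := F) one_pos (one_dvd f) hF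
      rw [htop, Nat.card_congr (Equiv.subtypeUnivEquiv fun x => Subfield.mem_top x), Nat.card_eq_fintype_card, hF] at this
      exact hf1 (Nat.pow_right_injective hp.two_le this)
    obtain ⟨c₁, hc₁⟩ := (mem_scalars_iff _).mp ((hcen ((1 : N ⧸ Subgroup.center N).out)).mp
      (by rw [← QuotientGroup.eq_one_iff, QuotientGroup.out_eq']))
    refine realisable_of_span hRli hRspan (fun q => mem_matrixSet.mpr ⟨_, q.out.2, rfl⟩) 1
      ⟨c₁, hF₀ _ (hsq _ (1 : N ⧸ Subgroup.center N).out.2 _ hc₁) _, c₁.ne_zero, hc₁⟩ fun x hx => ?_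
    obtain ⟨⟨w, hw⟩, hxw⟩ := QuotientGroup.mk_out_eq_mul (Subgroup.center N) (⟨x, hx⟩ : N)
    obtain ⟨c, hc⟩ := (mem_scalars_iff _).mp ((hcen w).mp hw)
    refine ⟨((⟨x, hx⟩ : N) : N ⧸ Subgroup.center N), (c : F)⁻¹, inv_mem (hF₀ _ (hsq _ w.2 _ hc) _), ?_⟩
    simp only [R, hxw, MulMemClass.coe_mul, Units.val_mul, hc, Matrix.mul_smul, mul_one, smul_smul,
      inv_mul_cancel₀ c.ne_zero, one_smul]
  right
  have he4 : e = 4 := by rw [he, hr2]; rfl
  have hcardN' : Nat.card N = 2 ^ (1 + 2 * m) := by rw [hcardN, hz2, hm, hr2, ← pow_mul, pow_add, pow_one, mul_comm m 2]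
  refine ⟨p, m, hp, hpodd, by rw [hF, hf1, pow_one], ⟨Nat.prime_two, hr2 ▸ hNp, fun A hA hAc => ?_, ?_⟩,
    hcardN', hz2, by rw [hm, hr2], ?_⟩
  · rcases hchar A hA with h | h
    · let g : A →* scalars ι F :=
        (N.subtype.comp A.subtype).codRestrict _ fun a => h ⟨a.1, a.2, rfl⟩
      exact isCyclic_of_injective g fun a b hab => Subtype.ext (Subtype.ext
        (congrArg (fun t : scalars ι F => (t : GL ι F)) hab))
    · exfalso
      refine hxy ?_
      have := hAc.is_comm.comm ⟨⟨x₀, hx₀⟩, h ▸ Subgroup.mem_top _⟩ ⟨⟨y₀, hy₀⟩, h ▸ Subgroup.mem_top _⟩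
      exact congrArg (fun t : A => (((t : N) : GL ι F) : Matrix ι ι F)) this
  · rw [hexp, he, hr2]
  -- minus type
  intro B hBc hB2
  by_contra hBlt
  push Not at hBlt
  -- a joint eigenvector
  let B' : Subgroup (GL ι F) := B.map N.subtype
  have hB'N : B' ≤ N := Subgroup.map_subtype_le B
  have hB'c : ∀ a ∈ B', ∀ b ∈ B', a * b = b * a := by
    rintro _ ⟨a, ha, rfl⟩ _ ⟨b, hb, rfl⟩
    have := hBc.is_comm.comm ⟨a, ha⟩ ⟨b, hb⟩
    exact congrArg (fun t : B => ((t : N) : GL ι F)) this
  have hB'2 : ∀ a ∈ B', a * a = 1 := by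
    rintro _ ⟨a, ha, rfl⟩
    exact congrArg (fun t : N => (t : GL ι F)) (hB2 a ha)
  obtain ⟨X, -, hXb, hXi, hXmin⟩ := exists_minimal_invariant (N := B') (U := ⊤) invariant_top top_ne_bot
  obtain ⟨v, hvX, hv0⟩ := Submodule.exists_mem_ne_zero_of_ne_bot hXb
  have h2F : (2 : F) ≠ 0 := two_ne_zero' (by rw [hF, hf1, pow_one]; exact hpodd)
  have heig : ∀ a ∈ B', ∃ μ : F, (μ = 1 ∨ μ = -1) ∧ (a : Matrix ι ι F) *ᵥ v = μ • v := by
    intro a ha
    let Y : F → Submodule F (ι → F) := fun μ => X ⊓ LinearMap.ker (Matrix.toLin' (a : Matrix ι ι F) - μ • LinearMap.id)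
    have hmemY : ∀ μ u, u ∈ Y μ ↔ u ∈ X ∧ (a : Matrix ι ι F) *ᵥ u = μ • u := fun μ u => by
      simp [Y, sub_eq_zero]
    have hY : ∀ μ, Invariant B' (Y μ) := by
      intro μ b hb u hu
      rw [hmemY] at hu ⊢
      refine ⟨hXi b hb u hu.1, ?_⟩
      rw [mulVec_mulVec', hB'c a ha b hb, ← mulVec_mulVec', hu.2, Matrix.mulVec_smul]
    rcases hXmin _ inf_le_left (hY 1) with h | h
    swap
    · exact ⟨1, Or.inl rfl, ((hmemY 1 v).mp (show v ∈ Y 1 from (congrArg (fun Z => v ∈ Z) h).mpr hvX)).2⟩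
    rcases hXmin _ inf_le_left (hY (-1)) with h' | h'
    swap
    · exact ⟨-1, Or.inr rfl, ((hmemY (-1) v).mp (show v ∈ Y (-1) from (congrArg (fun Z => v ∈ Z) h').mpr hvX)).2⟩
    exfalso
    have hsum : v + (a : Matrix ι ι F) *ᵥ v ∈ Y 1 := by
      refine (hmemY 1 _).mpr ⟨add_mem hvX (hXi a ha v hvX), ?_⟩
      rw [Matrix.mulVec_add, mulVec_mulVec', hB'2 a ha, Units.val_one, Matrix.one_mulVec, one_smul, add_comm]
    have hdiff : v - (a : Matrix ι ι F) *ᵥ v ∈ Y (-1) := by
      refine (hmemY (-1) _).mpr ⟨sub_mem hvX (hXi a ha v hvX), ?_⟩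
      rw [Matrix.mulVec_sub, mulVec_mulVec', hB'2 a ha, Units.val_one, Matrix.one_mulVec, neg_one_smul, neg_sub]
    rw [show Y 1 = ⊥ from h, Submodule.mem_bot] at hsum
    rw [show Y (-1) = ⊥ from h', Submodule.mem_bot] at hdiff
    refine hv0 ((smul_eq_zero.mp (show (2 : F) • v = 0 from ?_)).resolve_left h2F)
    calc (2 : F) • v = (v + (a : Matrix ι ι F) *ᵥ v) + (v - (a : Matrix ι ι F) *ᵥ v) := by module
      _ = 0 := by rw [hsum, hdiff, add_zero]
  have heigen : ∀ x ∈ N, ∀ a ∈ B', ∃ κ : F, (a : Matrix ι ι F) *ᵥ ((x : Matrix ι ι F) *ᵥ v)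
      = κ • ((x : Matrix ι ι F) *ᵥ v) := by
    intro x hx a ha
    obtain ⟨μ, -, hμ⟩ := heig a ha
    obtain ⟨c, -, hc⟩ := Cfsg.Agent.Lib.Aschbacher.exists_factor hcomm (hB'N ha) hx
    refine ⟨c * μ, ?_⟩
    rw [Matrix.mulVec_mulVec, hc, Matrix.smul_mulVec, ← Matrix.mulVec_mulVec, hμ, Matrix.mulVec_smul, smul_smul]
  -- a basis of common eigenvectors containing `v`
  let Sv : Set (ι → F) := (fun x : GL ι F => (x : Matrix ι ι F) *ᵥ v) '' (N : Set (GL ι F))
  have hvS : v ∈ Sv := ⟨1, one_mem N, by simp⟩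
  have hSspan : Submodule.span F Sv = ⊤ := by
    refine (irred_iff.mp habs.1 _ fun g hg w hw => ?_).resolve_left fun h => hv0
      ((Submodule.mem_bot F).mp (h ▸ Submodule.subset_span hvS))
    induction hw using Submodule.span_induction with
    | mem w hw =>
      obtain ⟨x, hx, rfl⟩ := hw
      exact Submodule.subset_span ⟨g * x, mul_mem hg hx, by simp [Matrix.mulVec_mulVec]⟩
    | zero => simp
    | add x y _ _ hx hy => rw [Matrix.mulVec_add]; exact add_mem hx hy
    | smul c x _ hx => rw [Matrix.mulVec_smul]; exact Submodule.smul_mem _ _ hx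
  obtain ⟨bs, hbS, hsub, hbspan, hbli⟩ := exists_linearIndepOn_id_extension
    (LinearIndepOn.singleton (R := F) (v := id) hv0 : LinearIndepOn F id {v})
    (Set.singleton_subset_iff.mpr hvS)
  haveI : Fintype bs := Fintype.ofFinite bs
  have hbtop : ⊤ ≤ Submodule.span F (Set.range (Subtype.val : bs → ι → F)) := by
    rw [Subtype.range_coe, ← hSspan, Submodule.span_le]
    exact hbspan
  let Bs : Module.Basis bs F (ι → F) := Module.Basis.mk hbli hbtop
  have hBs : ∀ i, Bs i = (i : ι → F) := fun i => Module.Basis.mk_apply _ _ i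
  have hcardbs : Fintype.card bs = Fintype.card ι := by rw [← Module.finrank_eq_card_basis Bs, Module.finrank_pi]
  -- the span of `B'`
  let D : Submodule F (Matrix ι ι F) := Submodule.span F ((fun a : GL ι F => (a : Matrix ι ι F)) '' (B' : Set (GL ι F)))
  have hDeig : ∀ M ∈ D, ∀ i : bs, ∃ c : F, M *ᵥ (i : ι → F) = c • (i : ι → F) := by
    intro M hM i
    refine Submodule.span_induction (p := fun M _ => ∃ c : F, M *ᵥ (i : ι → F) = c • (i : ι → F)) ?_ ?_ ?_ ?_ hM
    · rintro _ ⟨a, ha, rfl⟩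
      obtain ⟨x, hx, hxi⟩ := hbS i.2
      rw [← hxi]
      exact heigen x hx a ha
    · exact ⟨0, by simp⟩
    · rintro u w _ _ ⟨a, ha⟩ ⟨b, hb⟩; exact ⟨a + b, by rw [Matrix.add_mulVec, ha, hb, add_smul]⟩
    · rintro c u _ ⟨a, ha⟩; exact ⟨c * a, by rw [Matrix.smul_mulVec, ha, smul_smul]⟩
  let Φ : D →ₗ[F] (bs → F) :=
    { toFun := fun M i => Bs.repr ((M : Matrix ι ι F) *ᵥ (i : ι → F)) i
      map_add' := fun a b => funext fun i => by simp [Matrix.add_mulVec]
      map_smul' := fun c a => funext fun i => by simp [Matrix.smul_mulVec] }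
  have hΦ : ∀ (M : D) (i : bs), (M : Matrix ι ι F) *ᵥ (i : ι → F) = Φ M i • (i : ι → F) := by
    intro M i
    obtain ⟨c, hc⟩ := hDeig _ M.2 i
    show _ = Bs.repr ((M : Matrix ι ι F) *ᵥ (i : ι → F)) i • (i : ι → F)
    rw [hc, map_smul, ← hBs i, Module.Basis.repr_self]
    simp
  have hΦinj : Function.Injective Φ := fun M M' h => by
    refine Subtype.ext (Matrix.toLin'.injective (Bs.ext fun i => ?_))
    rw [Matrix.toLin'_apply, Matrix.toLin'_apply, hBs, hΦ, hΦ, h]
  have hDdim : Fintype.card ι ≤ Module.finrank F D := by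
    let π : B →* N ⧸ Subgroup.center N := (QuotientGroup.mk' _).comp B.subtype
    have h1 : Nat.card π.ker ≤ 2 := by
      rw [← hz2, hz]
      refine Nat.card_le_card_of_injective
        (fun w : π.ker => (⟨((w : B) : N), (QuotientGroup.eq_one_iff _).mp w.2⟩ : Subgroup.center N)) fun w w' h => ?_
      exact Subtype.ext (Subtype.ext (congrArg (fun t : Subgroup.center N => (t : N)) h))
    have h2 : Nat.card B = Nat.card π.range * Nat.card π.ker := by
      rw [← Nat.card_congr (QuotientGroup.quotientKerEquivRange π).toEquiv, ← Subgroup.card_eq_card_quotient_mul_card_subgroup]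
    have h4 : 2 ^ (m + 1) ≤ Nat.card π.range * 2 := hBlt.trans (h2.le.trans (Nat.mul_le_mul_left _ h1))
    rw [pow_succ] at h4
    have h3 : Fintype.card ι ≤ Nat.card π.range := by rw [hm, hr2]; omega
    refine h3.trans ?_
    haveI : Fintype π.range := Fintype.ofFinite _
    rw [Nat.card_eq_fintype_card]
    have hmem : ∀ q : π.range, R (q : N ⧸ Subgroup.center N) ∈ D := by
      rintro ⟨_, ⟨a, rfl⟩⟩
      obtain ⟨⟨w, hw⟩, hxw⟩ := QuotientGroup.mk_out_eq_mul (Subgroup.center N) (a : N)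
      obtain ⟨c, hc⟩ := (mem_scalars_iff _).mp ((hcen w).mp hw)
      show R ((a : N) : N ⧸ Subgroup.center N) ∈ D
      simp only [R, hxw, MulMemClass.coe_mul, Units.val_mul, hc, Matrix.mul_smul, mul_one]
      exact D.smul_mem _ (Submodule.subset_span ⟨_, ⟨(a : N), a.2, rfl⟩, rfl⟩)
    have hli' : LinearIndependent F (fun q : π.range => (⟨_, hmem q⟩ : D)) :=
      LinearIndependent.of_comp D.subtype (hRli.comp _ Subtype.val_injective)
    exact hli'.fintype_card_le_finrank
  have hΦsurj : Function.Surjective Φ := by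
    have hle := LinearMap.finrank_le_finrank_of_injective hΦinj
    rw [Module.finrank_pi, hcardbs] at hle
    exact (LinearMap.injective_iff_surjective_of_finrank_eq_finrank (by rw [Module.finrank_pi, hcardbs]; omega)).mp hΦinj
  let iv : bs := ⟨v, hsub rfl⟩
  obtain ⟨d, hd⟩ := hΦsurj (Pi.single iv 1)
  -- every conjugate of `v` is orthogonal to `v`
  have horth : ∀ x ∈ N, gramForm G v ((x : Matrix ι ι F) *ᵥ v) = 0 := by
    intro x hx
    by_cases hxB : ∀ a ∈ B', (a : Matrix ι ι F) * (x : Matrix ι ι F) = (x : Matrix ι ι F) * (a : Matrix ι ι F)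
    · have hxd : (d : Matrix ι ι F) * (x : Matrix ι ι F) = (x : Matrix ι ι F) * (d : Matrix ι ι F) := by
        refine Submodule.span_induction (p := fun M _ => M * (x : Matrix ι ι F) = (x : Matrix ι ι F) * M) ?_ ?_ ?_ ?_ d.2
        · rintro _ ⟨a, ha, rfl⟩; exact hxB a ha
        · simp
        · intro u w _ _ hu hw; rw [add_mul, mul_add, hu, hw]
        · intro c u _ hu; rw [Matrix.smul_mul, Matrix.mul_smul, hu]
      have hdv : (d : Matrix ι ι F) *ᵥ v = v := by
        have := hΦ d iv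
        rw [hd, Pi.single_eq_same, one_smul] at this
        exact this
      have hrange : ∀ w, ∃ c : F, (d : Matrix ι ι F) *ᵥ w = c • v := by
        intro w
        refine ⟨Bs.repr w iv, ?_⟩
        conv_lhs => rw [← Bs.sum_repr w, Matrix.mulVec_sum]
        rw [Finset.sum_eq_single iv (fun i _ hi => by
          rw [Matrix.mulVec_smul, hBs, hΦ, hd, Pi.single_eq_of_ne hi, zero_smul, smul_zero])
          (fun h => absurd (Finset.mem_univ _) h), Matrix.mulVec_smul, hBs, hΦ, hd, Pi.single_eq_same, one_smul]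
      obtain ⟨c, hc⟩ := hrange ((x : Matrix ι ι F) *ᵥ v)
      rw [Matrix.mulVec_mulVec, hxd, ← Matrix.mulVec_mulVec, hdv] at hc
      rw [hc, (gramForm_bilinear G).smul_right, hG.isSymplectic.alternating, mul_zero]
    · push Not at hxB
      obtain ⟨a, ha, hne⟩ := hxB
      obtain ⟨μ, hμ1, hμ⟩ := heig a ha
      obtain ⟨c, -, hc⟩ := Cfsg.Agent.Lib.Aschbacher.exists_factor hcomm (hB'N ha) hx
      have hc1 : c ≠ 1 := fun h => hne (by rw [hc, h, one_smul])
      have h := gramForm_apply_isom (hN (hB'N ha)) v ((x : Matrix ι ι F) *ᵥ v)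
      rw [Matrix.mulVec_mulVec, hc, Matrix.smul_mulVec, ← Matrix.mulVec_mulVec, hμ, Matrix.mulVec_smul, smul_smul,
        (gramForm_bilinear G).smul_left, (gramForm_bilinear G).smul_right] at h
      have hμμ : μ * μ = 1 := mul_self_eq_one_iff.mpr hμ1
      have : (c - 1) * gramForm G v ((x : Matrix ι ι F) *ᵥ v) = 0 := by
        linear_combination h - c * gramForm G v ((x : Matrix ι ι F) *ᵥ v) * hμμ
      exact (mul_eq_zero.mp this).resolve_left (sub_ne_zero.mpr hc1)
  have hvperp : ∀ w, gramForm G v w = 0 := by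
    intro w
    have hw : w ∈ Submodule.span F Sv := hSspan ▸ Submodule.mem_top
    refine Submodule.span_induction (p := fun w _ => gramForm G v w = 0) ?_ ?_ ?_ ?_ hw
    · rintro _ ⟨x, hx, rfl⟩; exact horth x hx
    · simp [gramForm]
    · intro a b _ _ ha hb; rw [(gramForm_bilinear G).add_right, ha, hb, add_zero]
    · intro c a _ ha; rw [(gramForm_bilinear G).smul_right, ha, mul_zero]
  obtain ⟨w, hw⟩ := (hG.isSymplectic.nondegenerate v hv0).2
  exact hw (hvperp w)

end Cfsg.Agent.Lib.AschbacherSp
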