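import Cfsg.Agent.Lib.AschbacherSp.Wreath
import Cfsg.Agent.Lib.AschbacherSp.Extraspecial
import Cfsg.Agent.Lib.Aschbacher.Main

/-!
The structure theorem for groups of isometries of an alternating matrix.
-/

set_option autoImplicit false
set_option linter.style.haveILetI false
set_option linter.unusedSectionVars false

namespace Cfsg.Agent.Lib.AschbacherSp

open Cfsg.Geo Cfsg.Agent.Lib.PrimeDim.Basic Cfsg.Agent.Lib.PrimeDim.Fields Cfsg.Agent.Lib.PrimeDim.Symplectic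
open Cfsg.Agent.Lib.PrimeDim.Main
open Cfsg.Agent.Lib.Aschbacher
open scoped Matrix MatrixGroups commutatorElement

variable {ι : Type} [Fintype ι] [DecidableEq ι] {F : Type*} [Field F] [Fintype F] {G : Matrix ι ι F}

theorem of_realisable [Nonempty ι] (hG : Alt G) {H N : Subgroup (GL ι F)} (hN : N ≤ Isom G)
    (hNn : NormalizedBy H N) (habs : ActsAbsolutelyIrreducibly (matrixSet N)) {F₀ : Subfield F} (hne : F₀ ≠ ⊤)
    (hr : RealisableOver F₀ (matrixSet N)) : InGeometric G H := by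
  obtain ⟨B, hB⟩ := hr
  obtain ⟨F₁, r, hrp, hle, hcard⟩ := exists_prime_index hne
  have hB' : ∀ s ∈ N, ∀ i j, ((B : Matrix ι ι F) * (s : Matrix ι ι F) * ((B⁻¹ : GL ι F) : Matrix ι ι F)) i j ∈ F₀ :=
    fun s hs i j => hB _ (mem_matrixSet.mpr ⟨s, hs, rfl⟩) i j
  obtain ⟨ζ, hζ, hP⟩ := rational_structure hG hN habs hB' hle
  exact InGeometric.subfield hrp hcard hζ hP
    (normalizer_le_subfieldSubgroup hNn habs F₁ fun s hs i j => hle (hB' s hs i j))

/-- Aschbacher's theorem in the symplectic case. -/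
theorem main (hG : Alt G) (h3 : 3 ≤ Fintype.card ι) (H : Subgroup (GL ι F)) (hHI : H ≤ Isom G) :
    InGeometric G H ∨ InSymplecticResidualClass H := by
  classical
  haveI : Nonempty ι := Fintype.card_pos_iff.mp (by omega)
  by_cases hH : Irred H
  swap
  · simp only [Irred, not_forall, not_or] at hH
    obtain ⟨W, hW, h1, h2⟩ := hH
    exact Or.inl (of_reducible hG hHI hW h1 h2)
  obtain ⟨N, ⟨hNH, hNn, hNs⟩, hNmin⟩ := WellFounded.has_min (wellFounded_lt (α := Subgroup (GL ι F)))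
    {N | N ≤ H ∧ NormalizedBy H N ∧ ¬ N ≤ scalars ι F}
    ⟨H, le_rfl, fun h hh x hx => mul_mem (mul_mem hh hx) (inv_mem hh), not_le_scalars (by omega) hH⟩
  have hN : N ≤ Isom G := hNH.trans hHI
  have hmin : ∀ M : Subgroup (GL ι F), M ≤ N → NormalizedBy H M → M ≤ scalars ι F ∨ M = N := by
    intro M hM hMn
    by_contra! hc
    exact hNmin M ⟨hM.trans hNH, hMn, hc.1⟩ (lt_of_le_of_ne hM hc.2)
  rcases centre_cases_sp hG hH hHI hNn hN with hz | h
  swap
  · exact Or.inl h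
  rcases exists_unitSys hH hNn hz with h | ⟨m, e, hm, he, hemem, hspan⟩
  · exact absurd h hNs
  rcases tensor_or_abs hG hH hHI hN hNn hm he hemem hspan with h | habs
  · exact Or.inl h
  rcases hmin ⁅N, N⁆ (Subgroup.commutator_le_self N) (fun h hh => commutator_map_le (hNn h hh)) with hc | hperf
  · left
    have hchar : ∀ A : Subgroup N, A.Characteristic → A.map N.subtype ≤ scalars ι F ∨ A = ⊤ := by
      intro A hA
      have hnorm : NormalizedBy H (A.map N.subtype) := by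
        rintro g hg _ ⟨a, ha, rfl⟩
        let φ : N ≃* N :=
          { toFun := fun x => ⟨g * x * g⁻¹, hNn g hg x x.2⟩
            invFun := fun x => ⟨g⁻¹ * x * g, by simpa using hNn g⁻¹ (inv_mem hg) x x.2⟩
            left_inv := fun x => Subtype.ext (by simp [mul_assoc])
            right_inv := fun x => Subtype.ext (by simp [mul_assoc])
            map_mul' := fun x y => Subtype.ext (by simp [mul_assoc]) }
        refine ⟨φ a, ?_, rfl⟩
        have hA' := hA.fixed φ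
        rw [← hA'] at ha
        simpa using ha
      rcases hmin (A.map N.subtype) (Subgroup.map_subtype_le A) hnorm with h | h
      · exact Or.inl h
      · refine Or.inr (Subgroup.map_injective N.subtype_injective ?_)
        rw [h, ← MonoidHom.range_eq_map, Subgroup.range_subtype]
    rcases symplecticType_sp hG hN h3 habs hc hNs hchar with
      ⟨F₀, hne, hr⟩ | ⟨p, k, hp, hpo, hq, hR, hcard, hzc, hn, hminus⟩
    · exact of_realisable hG hN hNn habs hne hr
    · refine InGeometric.symplecticType hR habs (fun x hx => ⟨1, fun u v => ?_⟩) hp hpo hq hcard hzc hminus hn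
        (le_normalizer hNn)
      rw [Units.val_one, one_mul, gramForm_apply_isom (hN hx)]
  rcases perfect_cases_sp hNn hNs habs hperf hmin with
    ⟨hsimp, hnab⟩ | ⟨m, k, ε, P, T, hm2, hk2, hle, hT, halg, htr⟩
  rotate_left
  · exact Or.inl (wreath_case hG hHI hN hm2 hk2 hle hT halg htr)
  have hcent : ∀ h ∈ H, (∀ x ∈ N, h * x * h⁻¹ * x⁻¹ ∈ scalars ι F) → h ∈ scalars ι F := by
    intro g _ hgx
    have hc := perfect_centralizes hperf (fun z hz x => scalar_comm hz x) hgx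
    obtain ⟨c, hc'⟩ := habs.2 g.val (fun s hs => by
      obtain ⟨x, hx, rfl⟩ := mem_matrixSet.mp hs
      exact congrArg Units.val (hc x hx))
    have hc0 : c ≠ 0 := by
      intro h0
      rw [h0, zero_smul] at hc'
      exact g.ne_zero hc'
    exact (mem_scalars_iff g).mpr ⟨Units.mk0 c hc0, hc'⟩
  by_cases hsub : ∃ F₀ : Subfield F, F₀ ≠ ⊤ ∧ RealisableOver F₀ (matrixSet N)
  · obtain ⟨F₀, hne, hr⟩ := hsub
    exact Or.inl (of_realisable hG hN hNn habs hne hr)
  by_cases hQ : ∃ Q : (ι → F) → F, IsNondegenerateQuadraticForm Q ∧ FixesQuadForm (matrixSet N) Q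
  · obtain ⟨Q, hQ, hfix⟩ := hQ
    left
    by_cases hodd : Odd (Fintype.card F)
    · exact (no_quadratic hG hodd hN habs hQ hfix).elim
    · obtain ⟨Q', hQ', hpol, hle⟩ := quad_case hG (by omega) hodd hHI hN hNn habs hQ hfix
      exact InGeometric.quadratic hodd hQ' hpol hle
  by_cases hU : ∃ (σ : F ≃+* F) (f : (ι → F) → (ι → F) → F), IsUnitaryForm σ f ∧ FixesForm (matrixSet N) f
  · obtain ⟨σ, f, hf, hfix⟩ := hU
    exact absurd (realisable_of_unitary hG hN habs hf hfix) hsub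
  push Not at hsub
  exact Or.inr ⟨N, ⟨hNH, hNn, hperf, hsimp, hnab, hcent, habs, fun F₀ h1 h2 => hsub F₀ h1 h2⟩, hQ, hU⟩

/-- The standard alternating matrix. -/
theorem alt_J (m : ℕ) : Alt (Matrix.J (Fin m) F) := by
  refine ⟨Matrix.J_transpose _ _, fun i => ?_, (Matrix.isUnit_det_J _ _).ne_zero⟩
  rcases i with i | i <;> simp [Matrix.J]

theorem spGL_le_isom (m : ℕ) : Cfsg.spGL m F ≤ Isom (Matrix.J (Fin m) F) := by
  intro g hg
  rw [mem_isom]
  refine gramForm_ext fun u v => ?_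
  rw [← gramForm_apply]
  exact hg u v

/-- Every geometric structure gives a member of one of the classes. -/
theorem exists_class {m : ℕ} {H : Subgroup (GL (Fin m ⊕ Fin m) F)} (hH : H ≤ Cfsg.spGL m F)
    (h : InGeometric (Matrix.J (Fin m) F) H) :
    ∃ M, InSymplecticClass m F M ∧ H ≤ M := by
  have key : ∀ X : Subgroup (GL (Fin m ⊕ Fin m) F), InSymplecticClass m F (X ⊓ Cfsg.spGL m F) → H ≤ X →
      ∃ M, InSymplecticClass m F M ∧ H ≤ M := fun X h1 h2 => ⟨_, h1, le_inf h2 hH⟩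
  rcases h with ⟨W, h1, h2, h⟩ | ⟨W, h1, h2, h3, h⟩ | ⟨t, k, D, hD, h⟩ | ⟨k, D, ho, hk, hD, hs, h⟩ |
    ⟨r, K, hr, hK, hs, h0, h⟩ | ⟨K, ho, hK, hc, hs, h⟩ | ⟨n₁, n₂, e, P, f₁, f₂, ho, h3, h1, h2, hf, h⟩ |
    ⟨F₀, r, P, ζ, hr, hq, hζ, hP, h⟩ | ⟨R, p, k, h1, h2, h3, hp, ho, hq, hc, hz, hm, -, h⟩ |
    ⟨k, t, e, P, f₁, ho, ht, h3, hk, h1, hf, h⟩ | ⟨Q, he, hQ, hp, h⟩
  · exact key _ (Or.inl (Or.inl ⟨W, h1, h2, rfl⟩)) h
  · refine key _ (Or.inl (Or.inr (Or.inl ⟨W, h1, h2, ?_, rfl⟩))) h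
    rw [Fintype.card_sum, Fintype.card_fin] at h3
    omega
  · exact key _ (Or.inl (Or.inr (Or.inr (Or.inl ⟨t, k, D, hD, rfl⟩)))) h
  · obtain rfl : k = m := by
      rw [Fintype.card_sum, Fintype.card_fin] at hk
      omega
    exact key _ (Or.inl (Or.inr (Or.inr (Or.inr (Or.inl ⟨D, ho, hD, hs, rfl⟩))))) h
  · exact key _ (Or.inr (Or.inl ⟨r, K, hr, hK, hs, h0, rfl⟩)) h
  · exact key _ (Or.inr (Or.inr (Or.inl ⟨K, ho, hK, hc, hs, rfl⟩))) h
  · exact key _ (Or.inr (Or.inr (Or.inr (Or.inl ⟨n₁, n₂, e, P, f₁, f₂, ho, h3, h1, h2, hf, rfl⟩)))) h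
  · exact key _ (Or.inl (Or.inr (Or.inr (Or.inr (Or.inr (Or.inl ⟨F₀, r, P, ζ, hr, hq, hζ, hP, rfl⟩)))))) h
  · exact key _ (Or.inl (Or.inr (Or.inr (Or.inr (Or.inr (Or.inr (Or.inl
      ⟨R, p, k, h1, h2, h3, hp, ho, hq, hc, hz, hm, rfl⟩))))))) h
  · exact key _ (Or.inr (Or.inr (Or.inr (Or.inr ⟨k, t, e, P, f₁, ho, ht, h3, hk, h1, hf, rfl⟩)))) h
  · exact key _ (Or.inl (Or.inr (Or.inr (Or.inr (Or.inr (Or.inr (Or.inr ⟨Q, he, hQ, hp, rfl⟩))))))) h

end Cfsg.Agent.Lib.AschbacherSp
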