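import Cfsg.Agent.Lib.AschbacherSp.Proper

/-!
Maximal subgroups: each is the member of a class containing it; the small fields two and three.
-/

set_option autoImplicit false
set_option linter.style.haveILetI false
set_option linter.unusedSectionVars false

namespace Cfsg.Agent.Lib.AschbacherSp

open Cfsg.Geo Cfsg.Agent.Lib.PrimeDim.Basic Cfsg.Agent.Lib.Aschbacher
open scoped Matrix MatrixGroups Kronecker

variable {ι : Type} [Fintype ι] [DecidableEq ι] {F : Type*} [Field F] [Fintype F] {G : Matrix ι ι F}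

theorem isom_J (m : ℕ) : Isom (Matrix.J (Fin m) F) = Cfsg.spGL m F := by
  refine le_antisymm (fun g hg u v => ?_) (spGL_le_isom m)
  exact gramForm_apply_isom hg u v

theorem eq_inf {K H X : Subgroup (GL ι F)} (hH : IsMaximalIn K H) (h : H ≤ X) (hX : ¬ K ≤ X) : H = X ⊓ K := by
  rcases hH.2 (X ⊓ K) (le_inf h hH.1.le) inf_le_right with h1 | h1
  · exact h1.symm
  · exact absurd (h1 ▸ inf_le_left) hX

section basics

variable (hG : Alt G)
include hG

theorem ne_top_of_ts [Nonempty ι] {W : Submodule F (ι → F)} (h : IsTotallySingularFor (gramForm G) W) : W ≠ ⊤ := by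
  rintro rfl
  obtain ⟨u, hu⟩ : ∃ u : ι → F, u ≠ 0 := exists_ne 0
  obtain ⟨w, hw⟩ := (hG.isSymplectic.nondegenerate u hu).2
  exact hw (h u Submodule.mem_top w Submodule.mem_top)

theorem indep_of_orth {t : ℕ} {D : Fin t → Submodule F (ι → F)}
    (hn : ∀ i, IsNondegenerateOn (gramForm G) (D i))
    (ho : ∀ i j, i ≠ j → AreOrthogonalFor (gramForm G) (D i) (D j)) : iSupIndep D := by
  intro i
  have h1 : (⨆ j, ⨆ _ : j ≠ i, D j) ≤ perp G (D i) :=
    iSup₂_le fun j hj v hv => mem_perp.mpr fun w hw => ho i j (Ne.symm hj) w hw v hv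
  refine Submodule.disjoint_def.mpr fun v hv hv' => ?_
  by_contra h0
  obtain ⟨x, hx, hne⟩ := (hn i v hv h0).1
  exact hne (mem_perp.mp (h1 hv') x hx)

end basics

theorem subfield_ne_top {F₀ : Subfield F} {r : ℕ} (hr : r.Prime)
    (hq : Fintype.card F = Nat.card F₀ ^ r) : F₀ ≠ ⊤ := by
  rintro rfl
  have h1 : Nat.card (⊤ : Subfield F) = Fintype.card F := by
    rw [← Nat.card_eq_fintype_card]
    exact Nat.card_congr (Equiv.subtypeUnivEquiv fun x => Subfield.mem_top x)
  rw [h1] at hq
  have h2 := Fintype.one_lt_card (α := F)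
  have h3 : Fintype.card F ^ 1 < Fintype.card F ^ r := Nat.pow_lt_pow_right h2 hr.one_lt
  rw [pow_one] at h3
  exact h3.ne hq

section two

variable (hG : Alt G)
include hG

/-- Over the field with two elements a decomposition into planes fixes a quadratic form. -/
theorem of_planes_two (hq : Fintype.card F = 2) {t : ℕ} {D : Fin t → Submodule F (ι → F)}
    (hD : IsNondegenerateMDecomposition (gramForm G) 2 D) :
    ∃ Q : (ι → F) → F, IsNondegenerateQuadraticForm Q ∧ (∀ u v, QuadraticMap.polar Q u v = gramForm G u v) ∧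
      decompositionStabilizer D ⊓ Isom G ≤ quadSimilarityGroup Q := by
  classical
  have hF : ∀ x : F, x = 0 ∨ x = 1 := fun x => by
    have h := FiniteField.pow_card x
    rw [hq] at h
    rcases mul_eq_zero.mp (show x * (x - 1) = 0 by linear_combination h) with h | h
    · exact Or.inl h
    · exact Or.inr (sub_eq_zero.mp h)
  have h2 : (2 : F) = 0 := by
    rcases hF 2 with h | h
    · exact h
    · exact absurd (show (1 : F) = 0 by linear_combination h) one_ne_zero
  have hb := gramForm_bilinear G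
  let κ : (ι → F) → F := fun v => if v = 0 then 0 else 1
  have hκ : ∀ i, ∀ u ∈ D i, ∀ w ∈ D i, κ (u + w) - κ u - κ w = gramForm G u w := by
    intro i u hu w hw
    by_cases hu0 : u = 0
    · simp [hu0, κ, gramForm]
    by_cases hw0 : w = 0
    · simp [hw0, κ, gramForm]
    by_cases huw : u = w
    · rw [huw, hG.isSymplectic.alternating]
      have h0 : w + w = 0 := by rw [← two_smul F, h2, zero_smul]
      simp only [κ, h0, hw0, if_true, if_false]
      linear_combination -h2
    have hli : LinearIndependent F ![u, w] := by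
      rw [linearIndependent_fin2]
      refine ⟨by simpa using hw0, fun a ha => ?_⟩
      simp only [Matrix.cons_val_one, Matrix.cons_val_fin_one, Matrix.cons_val_zero] at ha
      rcases hF a with rfl | rfl
      · exact hu0 (by simpa using ha.symm)
      · exact huw (by simpa using ha.symm)
    have hspan : Submodule.span F (Set.range ![u, w]) = D i := by
      refine Submodule.eq_of_le_of_finrank_le (Submodule.span_le.mpr ?_) ?_
      · rintro _ ⟨j, rfl⟩
        fin_cases j <;> assumption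
      · rw [hD.decomp.finrank_eq, finrank_span_eq_card hli, Fintype.card_fin]
    have hne : gramForm G u w ≠ 0 := by
      intro h0
      obtain ⟨x, hx, hux⟩ := (hD.nondegenerate i u hu hu0).2
      rw [← hspan, Submodule.mem_span_range_iff_exists_fun] at hx
      obtain ⟨a, rfl⟩ := hx
      apply hux
      simp [Fin.sum_univ_two, hb.add_right, hb.smul_right, hG.isSymplectic.alternating, h0]
    have hsum : u + w ≠ 0 := by
      intro h0
      exact huw (by
        rw [eq_neg_of_add_eq_zero_left h0, ← neg_one_smul F w,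
          show (-1 : F) = 1 by linear_combination -h2, one_smul])
    rw [(hF _).resolve_left hne]
    simp only [κ, hu0, hw0, hsum, if_false]
    linear_combination -h2
  have hint := DirectSum.isInternal_submodule_of_iSupIndep_of_iSup_eq_top hD.decomp.indep hD.decomp.iSup_eq_top
  let L := LinearEquiv.ofBijective (DirectSum.coeLinearMap D) hint
  let π : Fin t → (ι → F) → (ι → F) := fun i v => ((L.symm v) i : ι → F)
  have hπm : ∀ i v, π i v ∈ D i := fun i v => ((L.symm v) i).2
  have hπa : ∀ i u v, π i (u + v) = π i u + π i v := fun i u v => by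
    simp only [π, map_add, DirectSum.add_apply, Submodule.coe_add]
  have hsum : ∀ v, ∑ i, π i v = v := fun v => by
    conv_rhs => rw [← L.apply_symm_apply v]
    show _ = DirectSum.coeLinearMap D (L.symm v)
    rw [DirectSum.coeLinearMap_eq_dfinsuppSum, DFinsupp.sum]
    refine (Finset.sum_subset (Finset.subset_univ _) fun i _ hi => ?_).symm
    have h0 := DFinsupp.notMem_support_iff.mp hi
    show ((L.symm v) i : ι → F) = 0
    rw [h0, Submodule.coe_zero]
  have huniq : ∀ (x : Π i, D i) (i : Fin t), π i (∑ j, (x j : ι → F)) = x i := fun x i => by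
    have h : L.symm (∑ j, (x j : ι → F)) = ∑ j, DirectSum.lof F (Fin t) (fun j => D j) j (x j) := by
      rw [LinearEquiv.symm_apply_eq, map_sum]
      refine Finset.sum_congr rfl fun j _ => ?_
      show _ = DirectSum.coeLinearMap D _
      rw [DirectSum.lof_eq_of, DirectSum.coeLinearMap_of]
    simp only [π, h]
    rw [DFinsupp.finsetSum_apply, Finset.sum_eq_single i (fun j _ hj => DirectSum.of_eq_of_ne j i _ (Ne.symm hj)) (by simp)]
    rw [DirectSum.lof_eq_of, DirectSum.of_eq_same]
  have hf : ∀ u v, gramForm G u v = ∑ i, gramForm G (π i u) (π i v) := fun u v => by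
    conv_lhs => rw [← hsum u, ← hsum v]
    rw [gramForm, Matrix.mulVec_sum, dotProduct_sum]
    refine Finset.sum_congr rfl fun j _ => ?_
    rw [sum_dotProduct]
    exact Finset.sum_eq_single j (fun i _ hij => hD.orthogonal i j hij _ (hπm i u) _ (hπm j v)) (by simp)
  let Q : (ι → F) → F := fun v => ∑ i, κ (π i v)
  have hpol : ∀ u v, QuadraticMap.polar Q u v = gramForm G u v := fun u v => by
    rw [hf u v]
    simp only [QuadraticMap.polar, Q, hπa, ← Finset.sum_sub_distrib]
    exact Finset.sum_congr rfl fun i _ => hκ i _ (hπm i u) _ (hπm i v)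
  have hbil : QuadraticMap.polar Q = gramForm G := funext fun u => funext fun v => hpol u v
  have hπ0 : ∀ i, π i 0 = 0 := fun i => by simp [π]
  refine ⟨Q, ⟨fun c v => ?_, hbil ▸ gramForm_bilinear G, hbil ▸ gramForm_nondegenerate hG.det_ne⟩, hpol,
    fun g hg => ⟨1, fun v => ?_⟩⟩
  · rcases hF c with rfl | rfl
    · simp [Q, hπ0, κ]
    · simp
  obtain ⟨σ, hσ⟩ := hg.1
  let y : Π i, D i := fun i => ⟨(g : Matrix ι ι F) *ᵥ π (σ.symm i) v, by
    have h := hσ (σ.symm i)
    rw [Equiv.apply_symm_apply] at h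
    rw [← h]
    exact Submodule.mem_map_of_mem (hπm (σ.symm i) v)⟩
  have hgv : (g : Matrix ι ι F) *ᵥ v = ∑ i, (y i : ι → F) := by
    conv_lhs => rw [← hsum v, Matrix.mulVec_sum, ← σ.symm.sum_comp]
  rw [Units.val_one, one_mul]
  rw [hgv]
  simp only [Q, huniq]
  show ∑ i, κ ((g : Matrix ι ι F) *ᵥ π (σ.symm i) v) = _
  rw [σ.symm.sum_comp fun j => κ ((g : Matrix ι ι F) *ᵥ π j v)]
  refine Finset.sum_congr rfl fun j _ => ?_
  have hinj : (g : Matrix ι ι F) *ᵥ π j v = 0 ↔ π j v = 0 :=
    ⟨fun h => by rw [← inv_mulVec_cancel g (π j v), h, Matrix.mulVec_zero], fun h => by rw [h, Matrix.mulVec_zero]⟩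
  simp only [κ, hinj]

end two

section three

theorem three_facts (hq : Fintype.card F = 3) :
    (3 : F) = 0 ∧ ∀ x : F, x = 0 ∨ x = 1 ∨ x = -1 := by
  have h : ∀ x : F, x = 0 ∨ x = 1 ∨ x = -1 := fun x => by
    have h := FiniteField.pow_card x
    rw [hq] at h
    rcases mul_eq_zero.mp (show x * ((x - 1) * (x + 1)) = 0 by linear_combination h) with h | h
    · exact Or.inl h
    rcases mul_eq_zero.mp h with h | h
    · exact Or.inr (Or.inl (sub_eq_zero.mp h))
    · exact Or.inr (Or.inr (eq_neg_of_add_eq_zero_left h))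
  exact ⟨(hq ▸ FiniteField.cast_card_eq_zero F : ((3 : ℕ) : F) = 0) |> fun h => by exact_mod_cast h, h⟩

/-- An orthogonal frame of equal norms. -/
theorem exists_frame (hq : Fintype.card F = 3) {G₂ : Matrix (Fin 3) (Fin 3) F} (hs : G₂ᵀ = G₂) (hd : G₂.det ≠ 0) :
    ∃ (M : Matrix (Fin 3) (Fin 3) F) (κ : F), κ ≠ 0 ∧ Mᵀ * G₂ * M = κ • 1 := by
  classical
  obtain ⟨h3, hF⟩ := three_facts hq
  have h2 : (2 : F) ≠ 0 := fun h => one_ne_zero (show (1 : F) = 0 by linear_combination h3 - h)
  letI : Invertible (2 : F) := invertibleOfNonzero h2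
  let B := Matrix.toBilin' G₂
  have hBv : ∀ x y, B x y = gramForm G₂ x y := fun x y => Matrix.toBilin'_apply' _ _ _
  have hsymm : LinearMap.IsSymm B := ⟨fun x y => by
    simp only [RingHom.id_apply, hBv]
    rw [gramForm_flip, hs]⟩
  obtain ⟨v, hv⟩ := LinearMap.BilinForm.exists_orthogonal_basis hsymm
  have hdim : Module.finrank F (Fin 3 → F) = 3 := by simp
  let b := v.reindex (finCongr hdim)
  have hb : ∀ i j, i ≠ j → gramForm G₂ (b i) (b j) = 0 := fun i j hij => by
    rw [← hBv]
    simp only [b, Module.Basis.reindex_apply]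
    exact hv fun h => hij ((finCongr hdim).symm.injective h)
  have hnz : ∀ i, gramForm G₂ (b i) (b i) ≠ 0 := fun i h => by
    obtain ⟨w, hw⟩ := (gramForm_nondegenerate hd (b i) (b.ne_zero i)).2
    apply hw
    rw [← b.sum_repr w, gramForm, Matrix.mulVec_sum, dotProduct_sum]
    refine Finset.sum_eq_zero fun j _ => ?_
    rw [Matrix.mulVec_smul, dotProduct_smul]
    show b.repr w j • gramForm G₂ (b i) (b j) = 0
    by_cases hij : i = j
    · subst hij; rw [h, smul_zero]
    · rw [hb i j hij, smul_zero]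
  -- three orthogonal vectors give the frame
  suffices h : ∃ (x : Fin 3 → (Fin 3 → F)) (κ : F), κ ≠ 0 ∧ (∀ i, gramForm G₂ (x i) (x i) = κ) ∧
      ∀ i j, i ≠ j → gramForm G₂ (x i) (x j) = 0 by
    obtain ⟨x, κ, hκ, h1, h0⟩ := h
    refine ⟨Matrix.of fun p i => x i p, κ, hκ, gramForm_ext fun u w => ?_⟩
    revert u w
    suffices hij : ∀ i j, ((Matrix.of fun p i => x i p)ᵀ * G₂ * Matrix.of fun p i => x i p) i j = (κ • (1 : Matrix (Fin 3) (Fin 3) F)) i j by
      intro u w; rw [Matrix.ext hij]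
    intro i j
    rw [← gramForm_single ((Matrix.of fun p i => x i p)ᵀ * G₂ * Matrix.of fun p i => x i p), ← gramForm_apply,
      Matrix.mulVec_single_one, Matrix.mulVec_single_one]
    show gramForm G₂ (x i) (x j) = _
    rcases eq_or_ne i j with rfl | hij
    · rw [h1]; simp
    · rw [h0 i j hij]; simp [hij]
  have hbil := gramForm_bilinear G₂
  have hflip : ∀ x y, gramForm G₂ x y = gramForm G₂ y x := fun x y => by rw [gramForm_flip, hs]
  have hnL : ∀ x y, gramForm G₂ (-x) y = -gramForm G₂ x y := fun x y => by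
    rw [← neg_one_smul F x, hbil.smul_left, neg_one_mul]
  have hnR : ∀ x y, gramForm G₂ x (-y) = -gramForm G₂ x y := fun x y => by
    rw [← neg_one_smul F y, hbil.smul_right, neg_one_mul]
  have key : ∀ i j k : Fin 3, i ≠ j → i ≠ k → j ≠ k → gramForm G₂ (b i) (b i) = gramForm G₂ (b j) (b j) →
      gramForm G₂ (b k) (b k) = -gramForm G₂ (b i) (b i) →
      ∃ (x : Fin 3 → (Fin 3 → F)) (κ : F), κ ≠ 0 ∧ (∀ i, gramForm G₂ (x i) (x i) = κ) ∧
        ∀ i j, i ≠ j → gramForm G₂ (x i) (x j) = 0 := by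
    intro i j k hij hik hjk e1 e2
    refine ⟨![b i + b j, b i + (-1 : F) • b j, b k], _, hnz k, fun l => ?_, fun l l' hll => ?_⟩
    · fin_cases l <;> simp [hbil.add_left, hbil.add_right, hnL, hnR, hb i j hij,
        hb j i (Ne.symm hij)] <;> linear_combination (gramForm G₂ (b i) (b i)) * h3 - e1 - e2
    · fin_cases l <;> fin_cases l' <;> first
        | exact absurd rfl hll
        | (simp [hbil.add_left, hbil.add_right, hnL, hnR, hb i j hij,
            hb j i (Ne.symm hij), hb i k hik, hb k i (Ne.symm hik), hb j k hjk, hb k j (Ne.symm hjk), e1])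
  set a := gramForm G₂ (b 0) (b 0)
  set c := gramForm G₂ (b 1) (b 1)
  set d := gramForm G₂ (b 2) (b 2)
  have ha := (hF a).resolve_left (hnz 0)
  have hc := (hF c).resolve_left (hnz 1)
  have hd := (hF d).resolve_left (hnz 2)
  have opp : ∀ x y : F, (x = 1 ∨ x = -1) → (y = 1 ∨ y = -1) → x ≠ y → y = -x := by
    rintro x y (rfl | rfl) (rfl | rfl) hne <;> first | exact absurd rfl hne | simp
  by_cases h01 : a = c
  · by_cases h02 : a = d
    · exact ⟨b, a, hnz 0, fun i => by fin_cases i <;> first | rfl | exact h01.symm | exact h02.symm, hb⟩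
    · refine key 0 1 2 (by decide) (by decide) (by decide) h01 ?_
      change d = -a
      exact opp a d ha hd h02
  · have hca : c = -a := opp a c ha hc h01
    by_cases h02 : a = d
    · exact key 0 2 1 (by decide) (by decide) (by decide) h02 hca
    · have hda : d = -a := opp a d ha hd h02
      refine key 1 2 0 (by decide) (by decide) (by decide) (hca.trans hda.symm) ?_
      change a = -c
      rw [hca, neg_neg]

/-- A pure tensor. -/
def pt {m l : ℕ} (u : Fin m → F) (w : Fin l → F) : Fin m × Fin l → F := fun p => u p.1 * w p.2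

theorem kron_mulVec_pt {m l : ℕ} (A : Matrix (Fin m) (Fin m) F) (B : Matrix (Fin l) (Fin l) F) (u : Fin m → F)
    (w : Fin l → F) : (A ⊗ₖ B) *ᵥ pt u w = pt (A *ᵥ u) (B *ᵥ w) := by
  funext p
  simp only [pt, Matrix.mulVec, dotProduct, Fintype.sum_prod_type, Matrix.kroneckerMap_apply, Finset.sum_mul,
    Finset.mul_sum]
  rw [Finset.sum_comm]
  exact Finset.sum_congr rfl fun a _ => Finset.sum_congr rfl fun b _ => by ring

theorem gramForm_pt {m l : ℕ} (A : Matrix (Fin m) (Fin m) F) (B : Matrix (Fin l) (Fin l) F) (u u' : Fin m → F)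
    (w w' : Fin l → F) :
    gramForm (A ⊗ₖ B) (pt u w) (pt u' w') = gramForm A u u' * gramForm B w w' := by
  simp only [gramForm, kron_mulVec_pt, dotProduct, pt, Fintype.sum_prod_type, Finset.sum_mul, Finset.mul_sum]
  rw [Finset.sum_comm]
  exact Finset.sum_congr rfl fun a _ => Finset.sum_congr rfl fun b _ => by ring

/-- Over the field with three elements a tensor product with a symmetric form on three dimensions has a frame. -/
theorem of_tensor_three (hG : Alt G) (hq : Fintype.card F = 3) {n : ℕ} (hn : 0 < n) {e : ι ≃ Fin n × Fin 3}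
    {P : GL ι F} {f₁ : (Fin n → F) → (Fin n → F) → F} {f₂ : (Fin 3 → F) → (Fin 3 → F) → F}
    (h1 : IsSymplecticForm f₁) (h2 : IsSymmetricForm f₂) (hf : IsTensorFormStructure id (gramForm G) f₁ f₂ e P) :
    ∃ D : Fin 3 → Submodule F (ι → F), IsNondegenerateMDecomposition (gramForm G) n D ∧
      tensorProductSubgroup n 3 e P ⊓ Isom G ≤ decompositionStabilizer D := by
  classical
  obtain ⟨h3, hF⟩ := three_facts hq
  obtain ⟨c, hc, hf⟩ := hf
  have hg1 := gramForm_gramMatrix h1.bilinear
  have hg2 := gramForm_gramMatrix h2.bilinear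
  set G₁ := gramMatrix f₁
  set G₂ := gramMatrix f₂
  have hG₁ : G₁.det ≠ 0 :=
    (Cfsg.Agent.Lib.PrimeDim.Fields.isSesqui_of_bilinear h1.bilinear).det_ne_zero Function.bijective_id h1.nondegenerate
  have hG₂ : G₂.det ≠ 0 :=
    (Cfsg.Agent.Lib.PrimeDim.Fields.isSesqui_of_bilinear h2.bilinear).det_ne_zero Function.bijective_id h2.nondegenerate
  have hs : G₂ᵀ = G₂ := by ext i j; exact h2.symm _ _
  have hin : gramIn G e P = c • (G₁ ⊗ₖ G₂) := gramForm_ext fun x y => by
    rw [← gramForm_in, hf]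
    simp [formOfGram, gramForm, dotProduct, Matrix.mulVec, Finset.mul_sum, mul_assoc, mul_left_comm]
  obtain ⟨M, κ, hκ, hM⟩ := exists_frame hq hs hG₂
  have hMd : M.det ≠ 0 := by
    intro h
    have := congrArg Matrix.det hM
    rw [Matrix.det_mul, Matrix.det_mul, h, mul_zero, Matrix.det_smul, Matrix.det_one, mul_one] at this
    exact pow_ne_zero _ hκ this.symm
  have hMu : IsUnit M.det := isUnit_iff_ne_zero.mpr hMd
  let fr : Fin 3 → (Fin 3 → F) := fun i => M *ᵥ Pi.single i 1
  have hfr : ∀ i j, gramForm G₂ (fr i) (fr j) = if i = j then κ else 0 := fun i j => by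
    simp only [fr, gramForm_apply, hM, gramForm_single]
    simp [Matrix.one_apply]
  let L : Fin 3 → (Fin n → F) →ₗ[F] (ι → F) := fun i =>
    { toFun := fun u => (P : Matrix ι ι F) *ᵥ (pt u (fr i) ∘ e)
      map_add' := fun u v => by
        rw [← Matrix.mulVec_add]; congr 1; funext a; simp [pt, add_mul]
      map_smul' := fun s u => by
        rw [RingHom.id_apply, ← Matrix.mulVec_smul]; congr 1; funext a; simp [pt, mul_assoc] }
  have hL : ∀ i j u v, gramForm G (L i u) (L j v) = c * (if i = j then κ else 0) * gramForm G₁ u v :=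
    fun i j u v => by
      show gramForm G ((P : Matrix ι ι F) *ᵥ (pt u (fr i) ∘ e)) ((P : Matrix ι ι F) *ᵥ (pt v (fr j) ∘ e)) = _
      rw [gramForm_in, hin, gramForm, Matrix.smul_mulVec, dotProduct_smul, smul_eq_mul,
        show pt u (fr i) ⬝ᵥ (G₁ ⊗ₖ G₂) *ᵥ pt v (fr j) = _ from gramForm_pt G₁ G₂ u v (fr i) (fr j), hfr]
      ring
  have hinj : ∀ i, Function.Injective (L i) := fun i u v h => by
    by_contra hne
    obtain ⟨w, hw⟩ := (gramForm_nondegenerate hG₁ (u - v) (sub_ne_zero.mpr hne)).2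
    have := hL i i (u - v) w
    rw [map_sub, h, sub_self, if_pos rfl] at this
    simp [gramForm, hc, hκ] at this hw
    exact hw this
  let D : Fin 3 → Submodule F (ι → F) := fun i => LinearMap.range (L i)
  have hn' : ∀ i, IsNondegenerateOn (gramForm G) (D i) := by
    rintro i _ ⟨u, rfl⟩ h0
    have hu : u ≠ 0 := fun h => h0 (by rw [h, map_zero])
    obtain ⟨⟨w, hw⟩, ⟨w', hw'⟩⟩ := gramForm_nondegenerate hG₁ u hu
    exact ⟨⟨L i w, ⟨w, rfl⟩, by rw [hL, if_pos rfl]; exact mul_ne_zero (mul_ne_zero hc hκ) hw⟩,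
      ⟨L i w', ⟨w', rfl⟩, by rw [hL, if_pos rfl]; exact mul_ne_zero (mul_ne_zero hc hκ) hw'⟩⟩
  have ho : ∀ i j, i ≠ j → AreOrthogonalFor (gramForm G) (D i) (D j) := by
    rintro i j hij _ ⟨u, rfl⟩ _ ⟨v, rfl⟩
    rw [hL, if_neg hij]; ring
  refine ⟨D, ⟨⟨by norm_num, hn, fun i => ?_, indep_of_orth hG hn' ho, ?_⟩, hn', ho⟩, ?_⟩
  · rw [LinearMap.finrank_range_of_inj (hinj i), Module.finrank_pi, Fintype.card_fin]
  · rw [eq_top_iff]
    intro v _
    let a : Fin 3 → Fin n → F := fun i x => (M⁻¹ *ᵥ fun y => toX e P v (x, y)) i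
    have hv : v = ∑ i, L i (a i) := by
      show v = ∑ i, (P : Matrix ι ι F) *ᵥ (pt (a i) (fr i) ∘ e)
      rw [← Matrix.mulVec_sum]
      conv_lhs => rw [← mk_toX e P v]
      congr 1
      funext k
      have h := congrFun (congrArg (· *ᵥ fun y => toX e P v ((e k).1, y)) (Matrix.mul_nonsing_inv M hMu)) (e k).2
      simp only [← Matrix.mulVec_mulVec, Matrix.one_mulVec] at h
      rw [Finset.sum_apply, Function.comp_apply, ← h, Matrix.mulVec, dotProduct]
      refine Finset.sum_congr rfl fun i _ => ?_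
      simp [pt, fr, a, Matrix.mulVec_single_one, mul_comm]
    rw [hv]
    exact Submodule.sum_mem _ fun i _ => Submodule.mem_iSup_of_mem i ⟨_, rfl⟩
  rintro g ⟨hgT, hgI⟩
  obtain ⟨_, ⟨g₀, ⟨A, B, hAB⟩, rfl⟩, rfl⟩ := hgT
  have hg0 : g₀ ∈ Isom (gramIn G e P) := by
    have := symm_isom hgI e P
    rwa [show ((MulAut.conj P).toMonoidHom ((glReindex e.symm).toMonoidHom g₀) : GL ι F) = coordGL e P g₀ from rfl,
      MulEquiv.symm_apply_apply] at this
  rw [mem_isom, hin, hAB] at hg0
  simp only [Matrix.mul_smul, Matrix.smul_mul, ← Matrix.kroneckerMap_transpose, ← Matrix.mul_kronecker_mul] at hg0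
  have heq := smul_right_injective _ hc hg0
  obtain ⟨i₀, j₀, hij₀⟩ : ∃ i j, G₁ i j ≠ 0 := by
    by_contra! h
    haveI : Nonempty (Fin n) := ⟨⟨0, hn⟩⟩
    exact hG₁ (by rw [show G₁ = 0 from Matrix.ext h, Matrix.det_zero])
  set ρ := ((A : Matrix (Fin n) (Fin n) F)ᵀ * G₁ * (A : Matrix (Fin n) (Fin n) F)) i₀ j₀
  have hBG : ρ • ((B : Matrix (Fin 3) (Fin 3) F)ᵀ * G₂ * (B : Matrix (Fin 3) (Fin 3) F)) = G₁ i₀ j₀ • G₂ := by
    ext a b
    simpa using congrFun (congrFun heq (i₀, a)) (j₀, b)
  have hρ : ρ ≠ 0 := fun h => by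
    rw [h, zero_smul] at hBG
    rcases smul_eq_zero.mp hBG.symm with h | h
    · exact hij₀ h
    · exact hG₂ (by rw [h, Matrix.det_zero])
  set γ := ρ⁻¹ * G₁ i₀ j₀
  have hB2 : (B : Matrix (Fin 3) (Fin 3) F)ᵀ * G₂ * (B : Matrix (Fin 3) (Fin 3) F) = γ • G₂ := by
    rw [show γ • G₂ = ρ⁻¹ • (G₁ i₀ j₀ • G₂) from mul_smul _ _ _, ← hBG, smul_smul, inv_mul_cancel₀ hρ, one_smul]
  set C := M⁻¹ * (B : Matrix (Fin 3) (Fin 3) F) * M with hC
  have hMC : M * C = (B : Matrix (Fin 3) (Fin 3) F) * M := by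
    rw [hC, ← mul_assoc, ← mul_assoc, Matrix.mul_nonsing_inv M hMu, one_mul]
  have hCC : κ • (Cᵀ * C) = (γ * κ) • (1 : Matrix (Fin 3) (Fin 3) F) := by
    calc κ • (Cᵀ * C) = Cᵀ * (Mᵀ * G₂ * M) * C := by rw [hM, Matrix.mul_smul, Matrix.smul_mul, mul_one]
      _ = (M * C)ᵀ * G₂ * (M * C) := by rw [Matrix.transpose_mul M C]; simp only [mul_assoc]
      _ = Mᵀ * ((B : Matrix (Fin 3) (Fin 3) F)ᵀ * G₂ * (B : Matrix (Fin 3) (Fin 3) F)) * M := by
          rw [hMC, Matrix.transpose_mul]; simp only [mul_assoc]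
      _ = _ := by rw [hB2, Matrix.mul_smul, Matrix.smul_mul, hM, smul_smul]
  have hCC' : Cᵀ * C = γ • (1 : Matrix (Fin 3) (Fin 3) F) := by
    apply smul_right_injective _ hκ
    simp only [hCC, smul_smul, mul_comm]
  have hγ : γ = 1 := by
    have h := congrArg Matrix.det hCC'
    rw [Matrix.det_mul, Matrix.det_transpose, Matrix.det_smul, Matrix.det_one, mul_one, Fintype.card_fin] at h
    have hd : C.det ≠ 0 := by
      rw [hC, Matrix.det_mul, Matrix.det_mul]
      exact mul_ne_zero (mul_ne_zero (Matrix.isUnit_nonsing_inv_det _ hMu).ne_zero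
        ((Matrix.isUnit_iff_isUnit_det _).mp B.isUnit).ne_zero) hMd
    rcases (hF C.det).resolve_left hd with e | e <;> rw [e] at h <;>
      rcases hF γ with r | r | r <;> rw [r] at h ⊢ <;>
      first
        | (exfalso; exact one_ne_zero (show (1 : F) = 0 by linear_combination h))
        | (exfalso; exact one_ne_zero (show (1 : F) = 0 by linear_combination h3 - h))
        | (exfalso; exact one_ne_zero (show (1 : F) = 0 by linear_combination h + h3))
  rw [hγ, one_smul] at hCC'
  have hcol : ∀ j, ∃ i, C i j ≠ 0 ∧ ∀ i', i' ≠ i → C i' j = 0 := fun j => by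
    have h := congrFun (congrFun hCC' j) j
    simp only [Matrix.mul_apply, Matrix.transpose_apply, Fin.sum_univ_three, Matrix.one_apply_eq] at h
    have hz : C 0 j = 0 ∨ C 0 j * C 0 j = 1 := by rcases hF (C 0 j) with e | e | e <;> simp [e]
    have ho' : C 1 j = 0 ∨ C 1 j * C 1 j = 1 := by rcases hF (C 1 j) with e | e | e <;> simp [e]
    have ht : C 2 j = 0 ∨ C 2 j * C 2 j = 1 := by rcases hF (C 2 j) with e | e | e <;> simp [e]
    rcases hz with z | z <;> rcases ho' with o | o <;> rcases ht with w | w <;>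
      simp only [z, o, w, mul_zero, zero_add, add_zero, zero_ne_one] at h
    · exact ⟨2, fun e => by simp [e] at w, fun i hi => by fin_cases i <;> simp_all⟩
    · exact ⟨1, fun e => by simp [e] at o, fun i hi => by fin_cases i <;> simp_all⟩
    · exact absurd (show (1 : F) = 0 by linear_combination h) one_ne_zero
    · exact ⟨0, fun e => by simp [e] at z, fun i hi => by fin_cases i <;> simp_all⟩
    · exact absurd (show (1 : F) = 0 by linear_combination h) one_ne_zero
    · exact absurd (show (1 : F) = 0 by linear_combination h) one_ne_zero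
    · exact absurd (show (1 : F) = 0 by linear_combination h3 - h) one_ne_zero
  choose s hs1 hs0 using hcol
  have hsinj : Function.Injective s := fun j j' h => by
    by_contra hne
    have h' := congrFun (congrFun hCC' j) j'
    rw [Matrix.mul_apply, Finset.sum_eq_single (s j) (fun i _ hi => by
      rw [Matrix.transpose_apply, hs0 j i hi, zero_mul]) (by simp), Matrix.one_apply_ne hne,
      Matrix.transpose_apply] at h'
    exact mul_ne_zero (hs1 j) (h ▸ hs1 j') h'
  refine ⟨Equiv.ofBijective s ⟨hsinj, Finite.surjective_of_injective hsinj⟩, fun j => ?_⟩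
  have hBfr : (B : Matrix (Fin 3) (Fin 3) F) *ᵥ fr j = C (s j) j • fr (s j) := by
    simp only [fr, Matrix.mulVec_mulVec, ← hMC, ← Matrix.mulVec_smul]
    rw [← Matrix.mulVec_mulVec]
    congr 1
    rw [Matrix.mulVec_single_one]
    funext i
    rcases eq_or_ne i (s j) with rfl | hi
    · simp
    · simp [hs0 j i hi, Pi.single_eq_of_ne hi]
  have himg : ∀ u, (((MulAut.conj P).toMonoidHom ((glReindex e.symm).toMonoidHom g₀) : GL ι F) : Matrix ι ι F) *ᵥ
      L j u = L (s j) (C (s j) j • ((A : Matrix (Fin n) (Fin n) F) *ᵥ u)) := fun u => by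
    show (coordGL e P g₀ : Matrix ι ι F) *ᵥ ((P : Matrix ι ι F) *ᵥ (pt u (fr j) ∘ e)) =
      (P : Matrix ι ι F) *ᵥ (pt (C (s j) j • ((A : Matrix (Fin n) (Fin n) F) *ᵥ u)) (fr (s j)) ∘ e)
    rw [← mk_toX e P ((coordGL e P g₀ : Matrix ι ι F) *ᵥ _), coordGL_val, toX_coord, toX_mk, hAB, kron_mulVec_pt,
      hBfr]
    congr 2
    funext p
    simp [pt]; ring
  refine Submodule.eq_of_le_of_finrank_le ?_ ?_
  · rintro _ ⟨_, ⟨u, rfl⟩, rfl⟩
    rw [Matrix.toLin'_apply, himg]
    exact ⟨_, rfl⟩
  · refine le_of_eq ?_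
    show Module.finrank F (LinearMap.range (L (s j))) = Module.finrank F ((LinearMap.range (L j)).map (Matrix.toLin' _))
    rw [← LinearMap.range_comp, LinearMap.finrank_range_of_inj (hinj _), LinearMap.finrank_range_of_inj]
    intro x y h
    simp only [LinearMap.comp_apply, Matrix.toLin'_apply] at h
    apply hinj j
    simpa only [inv_mulVec_cancel] using congrArg (fun w => ((((MulAut.conj P).toMonoidHom ((glReindex e.symm).toMonoidHom g₀))⁻¹ : GL ι F) : Matrix ι ι F) *ᵥ w) h

end three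

end Cfsg.Agent.Lib.AschbacherSp
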