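import Cfsg.Agent.Lib.AschbacherSp.TwoGroup

/-!
The group `2^(1+6)` of minus type over the field with three elements, as the third tensor power of the quaternion
group.
-/

set_option autoImplicit false
set_option linter.style.haveILetI false
set_option linter.unusedSectionVars false

namespace Cfsg.Agent.Lib.AschbacherSp.CubeGroup

open Cfsg.Geo Cfsg.Agent.Lib.PrimeDim.Basic Cfsg.Agent.Lib.Aschbacher
open Cfsg.Agent.Lib.AschbacherSp.TwoGroup (sgn qM sq' qM_mul qM_symp sgn_xor qM_span)
open scoped Matrix MatrixGroups Kronecker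

/-- The indices of the 128 elements. -/
abbrev Idx := Bool × Fin 4 × Fin 4 × Fin 4

/-- The index set of the coordinates. -/
abbrev Co := Fin 2 × (Fin 2 × Fin 2)

/-- The product of two indices. -/
def mulI (x y : Idx) : Idx :=
  ((x.1 ^^ y.1) ^^ (sq' x.2.1 y.2.1 ^^ (sq' x.2.2.1 y.2.2.1 ^^ sq' x.2.2.2 y.2.2.2)),
    x.2.1 ^^^ y.2.1, x.2.2.1 ^^^ y.2.2.1, x.2.2.2 ^^^ y.2.2.2)

/-- The neutral index. -/
def oneI : Idx := (false, 0, 0, 0)

/-- The inverse index. -/
def invI (x : Idx) : Idx := mulI (mulI x x) x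

/-- The three-cycle of the quaternion classes. -/
def cq : Fin 4 → Fin 4 := ![0, 2, 3, 1]

/-- The three automorphisms, one for each factor. -/
def cyc (n : Fin 3) (x : Idx) : Idx :=
  (x.1, if n = 0 then cq x.2.1 else x.2.1, if n = 1 then cq x.2.2.1 else x.2.2.1,
    if n = 2 then cq x.2.2.2 else x.2.2.2)

theorem cq_sq : ∀ a b, sq' (cq a) (cq b) = sq' a b ∧ cq (a ^^^ b) = cq a ^^^ cq b := by decide +kernel

theorem cyc_hom (n : Fin 3) (x y : Idx) : cyc n (mulI x y) = mulI (cyc n x) (cyc n y) := by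
  fin_cases n <;> simp [cyc, mulI, (cq_sq _ _).1, (cq_sq _ _).2]

theorem cyc_inj : ∀ n x, cyc n x = oneI → x = oneI := by decide +kernel

/-- The classes modulo the centre. -/
def central (x : Idx) : Prop := x.2.1 = 0 ∧ x.2.2.1 = 0 ∧ x.2.2.2 = 0

instance (x : Idx) : Decidable (central x) := by unfold central; infer_instance

theorem moves : ∀ x : Idx, central x ∨ ∃ n, mulI x (cyc n x) ≠ mulI (cyc n x) x := by decide +kernel

/-- Two classes commute. -/
def cl (a b : Fin 4 × Fin 4 × Fin 4) : Bool :=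
  mulI (false, a) (false, b) == mulI (false, b) (false, a)

/-- A class of involutions. -/
def sing (a : Fin 4 × Fin 4 × Fin 4) : Bool := mulI (false, a) (false, a) == oneI

theorem triples_check :
    ((List.finRange 64).all fun i =>
      let a : Fin 4 × Fin 4 × Fin 4 := (⟨i.val / 16, by omega⟩, ⟨i.val / 4 % 4, by omega⟩, ⟨i.val % 4, by omega⟩)
      !(sing a && a != 0) || (List.finRange 64).all fun j =>
        let b : Fin 4 × Fin 4 × Fin 4 := (⟨j.val / 16, by omega⟩, ⟨j.val / 4 % 4, by omega⟩, ⟨j.val % 4, by omega⟩)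
        !(sing b && b != 0 && b != a && cl a b) || (List.finRange 64).all fun k =>
          let c : Fin 4 × Fin 4 × Fin 4 := (⟨k.val / 16, by omega⟩, ⟨k.val / 4 % 4, by omega⟩, ⟨k.val % 4, by omega⟩)
          !(sing c && cl a c && cl b c) || c == 0 || c == a || c == b || c == (mulI (false, a) (false, b)).2) = true := by
  decide +kernel

theorem triples (a : Fin 4 × Fin 4 × Fin 4) (ha : sing a = true) (ha0 : a ≠ 0) (b : Fin 4 × Fin 4 × Fin 4)
    (hb : sing b = true) (hb0 : b ≠ 0) (hba : b ≠ a) (hab : cl a b = true) (c : Fin 4 × Fin 4 × Fin 4)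
    (hc : sing c = true) (hac : cl a c = true) (hbc : cl b c = true) :
    c = 0 ∨ c = a ∨ c = b ∨ c = (mulI (false, a) (false, b)).2 := by
  have enc : ∀ x : Fin 4 × Fin 4 × Fin 4, ∃ i : Fin 64,
      ((⟨i.val / 16, by omega⟩, ⟨i.val / 4 % 4, by omega⟩, ⟨i.val % 4, by omega⟩) : Fin 4 × Fin 4 × Fin 4) = x := by
    rintro ⟨p, q, r⟩
    exact ⟨⟨p.val * 16 + q.val * 4 + r.val, by omega⟩, Prod.ext (Fin.ext (by simp only; omega))
      (Prod.ext (Fin.ext (by simp only; omega)) (Fin.ext (by simp only; omega)))⟩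
  obtain ⟨i, rfl⟩ := enc a
  obtain ⟨j, rfl⟩ := enc b
  obtain ⟨k, rfl⟩ := enc c
  have h := triples_check
  simp only [List.all_eq_true, List.mem_finRange, forall_const] at h
  have h1 := h i
  simp only [ha, bne_iff_ne, ne_eq, ha0, not_false_eq_true, Bool.true_and, Bool.or_eq_true, Bool.not_eq_true',
    Bool.and_eq_true, decide_eq_true_eq, List.all_eq_true, List.mem_finRange, forall_const, Bool.and_eq_false_imp] at h1
  have h2 : ∀ {p : Bool}, p = true → ¬ p = false := fun h => by simp [h]
  rcases h1 with h1 | h1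
  · simp_all
  have h3 := h1 j
  rcases h3 with h3 | h3
  · simp_all
  have h4 := h3 k
  simp_all [or_assoc]

theorem pair_comm : ∀ (s t : Bool) (a b : Fin 4 × Fin 4 × Fin 4),
    mulI (s, a) (t, b) = mulI (t, b) (s, a) → cl a b = true := by
  intro s t a b h
  have h1 := congrArg (fun z : Idx => (z.1, z.2)) h
  simp only [mulI, cl, beq_iff_eq] at h1 ⊢
  simp only [Prod.mk.injEq] at h1 ⊢
  obtain ⟨h1, h2⟩ := h1
  refine ⟨?_, h2⟩
  revert h1
  cases s <;> cases t <;> simp

theorem pair_sing : ∀ (s : Bool) (a : Fin 4 × Fin 4 × Fin 4), mulI (s, a) (s, a) = oneI → sing a = true := by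
  decide +kernel

theorem centre_iff : ∀ x : Idx, (∀ y, mulI x y = mulI y x) ↔ central x := by decide +kernel

theorem pow_four : ∀ x : Idx, mulI (mulI (mulI x x) x) x = oneI := by decide +kernel

theorem sq_ne : mulI (false, 0, 0, 1) (false, 0, 0, 1) ≠ oneI := by decide +kernel

theorem mul_inv' : ∀ x : Idx, mulI x (invI x) = oneI ∧ mulI (invI x) x = oneI := by decide +kernel

/-- The matrix of an index. -/
def mat (x : Idx) : Matrix Co Co (ZMod 3) := sgn x.1 • (qM x.2.1 ⊗ₖ (qM x.2.2.1 ⊗ₖ qM x.2.2.2))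

theorem mat_inj : ∀ x, mat x = 1 → x = oneI := by decide +kernel
theorem mat_one : mat oneI = 1 := by decide +kernel

theorem mat_mul (x y : Idx) : mat (mulI x y) = mat x * mat y := by
  simp only [mat, mulI, Matrix.smul_mul, Matrix.mul_smul, ← Matrix.mul_kronecker_mul, qM_mul,
    Matrix.smul_kronecker, Matrix.kronecker_smul, smul_smul, sgn_xor]
  congr 1
  ring

theorem eq_of_inv : ∀ x y : Idx, mulI x (invI y) = oneI → x = y := by decide +kernel

theorem q_conj : ∀ (a b c d : ZMod 3) (k : Fin 4), a * d - b * c ≠ 0 →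
    ∃ s k', !![a, b; c, d] * qM k = (sgn s • qM k') * !![a, b; c, d] := by decide +kernel

variable {ι : Type} [Fintype ι] [DecidableEq ι] {F : Type*} [Field F] [Fintype F]
variable (φ : ZMod 3 →+* F) (ε : ι ≃ Co) (P : GL ι F)

/-- The element of an index in coordinates. -/
noncomputable def elt (x : Idx) : GL Co F where
  val := (mat x).map φ
  inv := (mat (invI x)).map φ
  val_inv := by
    rw [← Matrix.map_mul, ← mat_mul, (mul_inv' x).1, mat_one, Matrix.map_one φ (map_zero φ) (map_one φ)]
  inv_val := by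
    rw [← Matrix.map_mul, ← mat_mul, (mul_inv' x).2, mat_one, Matrix.map_one φ (map_zero φ) (map_one φ)]

theorem elt_mul (x y : Idx) : elt φ (mulI x y) = elt φ x * elt φ y :=
  Units.ext (by show (mat (mulI x y)).map φ = (mat x).map φ * (mat y).map φ; rw [mat_mul, Matrix.map_mul])

theorem elt_one : elt φ oneI = 1 :=
  Units.ext (by show (mat oneI).map φ = 1; rw [mat_one, Matrix.map_one φ (map_zero φ) (map_one φ)])

theorem elt_inj : Function.Injective (elt φ) := by
  intro x y h
  have h1 : elt φ (mulI x (invI y)) = 1 := by rw [elt_mul, h, ← elt_mul, (mul_inv' y).1, elt_one]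
  exact eq_of_inv x y (mat_inj _ (Matrix.map_injective φ.injective (by
    show (mat (mulI x (invI y))).map φ = (1 : Matrix Co Co (ZMod 3)).map φ
    rw [Matrix.map_one φ (map_zero φ) (map_one φ)]
    exact congrArg Units.val h1)))

/-- The group. -/
noncomputable def group : Subgroup (GL ι F) where
  carrier := Set.range fun x => coordGL ε P (elt φ x)
  one_mem' := ⟨oneI, by show coordGL ε P (elt φ oneI) = 1; rw [elt_one, map_one]⟩
  mul_mem' := by
    rintro _ _ ⟨x, rfl⟩ ⟨y, rfl⟩
    exact ⟨mulI x y, by show coordGL ε P (elt φ (mulI x y)) = _; rw [elt_mul, map_mul]⟩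
  inv_mem' := by
    rintro _ ⟨x, rfl⟩
    refine ⟨invI x, eq_inv_of_mul_eq_one_left ?_⟩
    show coordGL ε P (elt φ (invI x)) * coordGL ε P (elt φ x) = 1
    rw [← map_mul, ← elt_mul, (mul_inv' x).2, elt_one, map_one]

/-- The indices are the elements. -/
noncomputable def equiv : Idx ≃ group φ ε P :=
  Equiv.ofBijective (fun x => ⟨coordGL ε P (elt φ x), x, rfl⟩)
    ⟨fun _ _ h => elt_inj φ ((coordGL ε P).injective (congrArg Subtype.val h)),
      fun ⟨_, x, hx⟩ => ⟨x, Subtype.ext hx⟩⟩

theorem equiv_mul (x y : Idx) : equiv φ ε P (mulI x y) = equiv φ ε P x * equiv φ ε P y :=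
  Subtype.ext (by show coordGL ε P (elt φ (mulI x y)) = _; rw [elt_mul, map_mul]; rfl)

theorem equiv_one : equiv φ ε P oneI = 1 :=
  Subtype.ext (by show coordGL ε P (elt φ oneI) = 1; rw [elt_one, map_one])

/-- An automorphism of the table gives one of the group. -/
noncomputable def autOf (n : Fin 3) : group φ ε P ≃* group φ ε P :=
  MulEquiv.ofBijective
    (MonoidHom.mk' (fun g => equiv φ ε P (cyc n ((equiv φ ε P).symm g))) fun a b => by
      obtain ⟨x, rfl⟩ := (equiv φ ε P).surjective a
      obtain ⟨y, rfl⟩ := (equiv φ ε P).surjective b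
      show equiv φ ε P (cyc n ((equiv φ ε P).symm (equiv φ ε P x * equiv φ ε P y))) =
        equiv φ ε P (cyc n ((equiv φ ε P).symm (equiv φ ε P x))) * equiv φ ε P (cyc n ((equiv φ ε P).symm (equiv φ ε P y)))
      rw [(equiv φ ε P).symm_apply_apply x, (equiv φ ε P).symm_apply_apply y,
        (Equiv.symm_apply_eq _).mpr (equiv_mul φ ε P x y).symm, cyc_hom, equiv_mul])
    (Finite.injective_iff_bijective.mp ((injective_iff_map_eq_one _).mpr fun a ha => by
      obtain ⟨x, rfl⟩ := (equiv φ ε P).surjective a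
      simp only [MonoidHom.mk'_apply, Equiv.symm_apply_apply, ← equiv_one φ ε P] at ha
      rw [cyc_inj n x ((equiv φ ε P).injective ha), equiv_one]))

theorem card_group : Nat.card (group φ ε P) = 128 := by
  rw [← Nat.card_congr (equiv φ ε P), Nat.card_eq_fintype_card]
  rfl

theorem mem_centre (x : Idx) : equiv φ ε P x ∈ Subgroup.center (group φ ε P) ↔ central x := by
  rw [Subgroup.mem_center_iff, ← centre_iff]
  constructor
  · intro h y
    apply (equiv φ ε P).injective
    rw [equiv_mul, equiv_mul]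
    exact (h _).symm
  · intro h g
    obtain ⟨y, rfl⟩ := (equiv φ ε P).surjective g
    rw [← equiv_mul, ← equiv_mul, h y]

theorem card_centre : Nat.card (Subgroup.center (group φ ε P)) = 2 := by
  have h : Function.Bijective fun s : Bool =>
      (⟨equiv φ ε P (s, 0, 0, 0), (mem_centre φ ε P _).mpr ⟨rfl, rfl, rfl⟩⟩ : Subgroup.center (group φ ε P)) := by
    refine ⟨fun s t hst => ?_, ?_⟩
    · exact (Prod.ext_iff.mp ((equiv φ ε P).injective (congrArg Subtype.val hst))).1
    · rintro ⟨g, hg⟩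
      obtain ⟨⟨s, a, b, c⟩, rfl⟩ := (equiv φ ε P).surjective g
      obtain ⟨ha, hb, hc⟩ := (mem_centre φ ε P _).mp hg
      simp only at ha hb hc
      subst ha hb hc
      exact ⟨s, rfl⟩
  rw [← Nat.card_congr (Equiv.ofBijective _ h), Nat.card_eq_fintype_card, Fintype.card_bool]

theorem pow_four' (g : group φ ε P) : g ^ 4 = 1 := by
  obtain ⟨x, rfl⟩ := (equiv φ ε P).surjective g
  rw [← equiv_one φ ε P, ← pow_four x]
  simp only [equiv_mul, pow_succ, pow_zero, one_mul]

theorem symplecticTypeGroup : IsSymplecticTypeGroup 2 (group φ ε P) where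
  prime := Nat.prime_two
  pGroup := IsPGroup.of_card (n := 7) (by rw [card_group]; norm_num)
  exponent_eq := by
    refine Nat.dvd_antisymm (Monoid.exponent_dvd_of_forall_pow_eq_one fun g => by simpa using pow_four' φ ε P g) ?_
    have ho : orderOf (equiv φ ε P (false, 0, 0, 1)) = 4 := by
      refine orderOf_eq_prime_pow (p := 2) (n := 1) (fun h => sq_ne ?_) (pow_four' φ ε P _)
      apply (equiv φ ε P).injective
      rw [equiv_mul, equiv_one, ← h, pow_one, pow_two]
    have h1 := Monoid.order_dvd_exponent (equiv φ ε P (false, 0, 0, 1))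
    rw [ho] at h1
    simpa using h1
  cyclic_of_characteristic A hA hAc := by
    have hle : A ≤ Subgroup.center (group φ ε P) := fun g hg => by
      obtain ⟨x, rfl⟩ := (equiv φ ε P).surjective g
      rw [mem_centre]
      rcases moves x with h | ⟨n, h⟩
      · exact h
      · exfalso
        have h1 := hA.fixed (autOf φ ε P n)
        have hg' := hg
        rw [← h1] at hg'
        have hy : equiv φ ε P (cyc n x) ∈ A := by simpa [autOf] using hg'
        apply h
        apply (equiv φ ε P).injective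
        rw [equiv_mul, equiv_mul]
        exact congrArg Subtype.val (hAc.is_comm.comm (⟨_, hg⟩ : A) ⟨_, hy⟩)
    haveI : IsCyclic (Subgroup.center (group φ ε P)) := by
      haveI := Fact.mk Nat.prime_two
      exact isCyclic_of_prime_card (card_centre φ ε P)
    exact isCyclic_of_injective (Subgroup.inclusion hle) (Subgroup.inclusion_injective hle)

theorem minusType : IsOfMinusType 3 (group φ ε P) := by
  classical
  intro A hAc hA2
  let cls : A → Fin 4 × Fin 4 × Fin 4 := fun g => ((equiv φ ε P).symm g.1).2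
  have hsing : ∀ g : A, sing (cls g) = true := fun g => by
    apply pair_sing ((equiv φ ε P).symm g.1).1
    apply (equiv φ ε P).injective
    rw [equiv_mul, equiv_one, Prod.mk.eta, Equiv.apply_symm_apply]
    exact hA2 _ g.2
  have hcl : ∀ g h : A, cl (cls g) (cls h) = true := fun g h => by
    apply pair_comm ((equiv φ ε P).symm g.1).1 ((equiv φ ε P).symm h.1).1
    apply (equiv φ ε P).injective
    rw [equiv_mul, equiv_mul, Prod.mk.eta, Prod.mk.eta, Equiv.apply_symm_apply, Equiv.apply_symm_apply]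
    exact congrArg Subtype.val (hAc.is_comm.comm g h)
  obtain ⟨T, hT, hmem⟩ : ∃ T : Finset (Fin 4 × Fin 4 × Fin 4), T.card ≤ 4 ∧ ∀ g : A, cls g ∈ T := by
    by_cases h0 : ∀ g, cls g = 0
    · exact ⟨{0}, by simp, fun g => by simp [h0 g]⟩
    push Not at h0
    obtain ⟨g, hg⟩ := h0
    by_cases h1 : ∀ h, cls h = 0 ∨ cls h = cls g
    · exact ⟨{0, cls g}, Finset.card_le_two.trans (by norm_num), fun h => by rcases h1 h with e | e <;> simp [e]⟩
    push Not at h1
    obtain ⟨h, hh0, hhg⟩ := h1
    refine ⟨{0, cls g, cls h, (mulI (false, cls g) (false, cls h)).2}, Finset.card_le_four, fun x => ?_⟩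
    rcases triples _ (hsing g) hg _ (hsing h) hh0 hhg (hcl g h) _ (hsing x) (hcl g x) (hcl h x) with e | e | e | e <;>
      simp [e]
  let f : A → Bool × T := fun g => (((equiv φ ε P).symm g.1).1, ⟨cls g, hmem g⟩)
  have hf : Function.Injective f := fun a b h => by
    apply Subtype.ext
    apply (equiv φ ε P).symm.injective
    exact Prod.ext (Prod.ext_iff.mp h).1 (congrArg Subtype.val (Prod.ext_iff.mp h).2)
  have := Nat.card_le_card_of_injective f hf
  simp only [Nat.card_eq_fintype_card, Fintype.card_prod, Fintype.card_bool, Fintype.card_coe] at this ⊢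
  omega

theorem mem_group_of (x : Idx) : coordGL ε P (elt φ x) ∈ group φ ε P := ⟨x, rfl⟩

theorem absIrred [Nonempty ι] : ActsAbsolutelyIrreducibly (matrixSet (group φ ε P)) := by
  set S := Submodule.span F (matrixSet (group φ ε P)) with hS
  have hmem : ∀ (a b c : Fin 4),
      coordAlg ε P ((qM a).map φ ⊗ₖ ((qM b).map φ ⊗ₖ (qM c).map φ)) ∈ S := fun a b c => by
    refine Submodule.subset_span (mem_matrixSet.mpr ⟨_, mem_group_of φ ε P (false, a, b, c), ?_⟩)
    rw [coordGL_val]
    congr 1
    show (mat (false, a, b, c)).map φ = _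
    ext p r
    simp [mat, sgn, Matrix.kroneckerMap_apply]
  have hunit : ∀ a c : Fin 2, Matrix.single a c (1 : F) = ∑ k : Fin 4,
      φ (2 * sgn (sq' k k) * (qM k * Matrix.single a c (1 : ZMod 3)).trace) • (qM k).map φ := fun a c => by
    have := congrArg (fun M : Matrix (Fin 2) (Fin 2) (ZMod 3) => φ.mapMatrix M) (qM_span a c)
    simp only [map_sum, RingHom.mapMatrix_apply] at this
    rw [Matrix.map_single, map_one] at this
    rw [this]
    exact Finset.sum_congr rfl fun k _ => by ext i j; simp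
  have hstd : ∀ (x y : Co), coordAlg ε P (Matrix.single x y (1 : F)) ∈ S := fun x y => by
    have hk : Matrix.single x y (1 : F) = Matrix.single x.1 y.1 (1 : F) ⊗ₖ
        (Matrix.single x.2.1 y.2.1 (1 : F) ⊗ₖ Matrix.single x.2.2 y.2.2 (1 : F)) := by
      ext p r
      simp only [Matrix.kroneckerMap_apply, Matrix.single_apply, Prod.ext_iff]
      split_ifs <;> simp_all
    rw [hk, hunit x.1, hunit x.2.1, hunit x.2.2]
    have hsum : ∀ {κ μ : Type} [Fintype κ] [DecidableEq κ] [Fintype μ] [DecidableEq μ]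
        (f : Fin 4 → Matrix κ κ F) (g : Fin 4 → Matrix μ μ F),
        (∑ k, f k) ⊗ₖ (∑ l, g l) = ∑ k, ∑ l, f k ⊗ₖ g l := fun f g => by
      ext p r
      simp only [Matrix.kroneckerMap_apply, Matrix.sum_apply, Finset.sum_mul_sum]
    rw [hsum, hsum]
    simp only [Matrix.smul_kronecker, Matrix.kronecker_smul, map_sum, map_smul, Finset.smul_sum]
    refine Submodule.sum_mem _ fun k _ => Submodule.sum_mem _ fun l _ => ?_
    rw [show ∀ (A : Matrix (Fin 2) (Fin 2) F) (B : Fin 4 → Matrix (Fin 2 × Fin 2) (Fin 2 × Fin 2) F),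
      A ⊗ₖ (∑ n, B n) = ∑ n, A ⊗ₖ B n from fun A B => by
        ext p r; simp only [Matrix.kroneckerMap_apply, Matrix.sum_apply, Finset.mul_sum]]
    simp only [Matrix.smul_kronecker, Matrix.kronecker_smul, map_sum, map_smul, Finset.smul_sum]
    exact Submodule.sum_mem _ fun n _ =>
      Submodule.smul_mem _ _ (Submodule.smul_mem _ _ (Submodule.smul_mem _ _ (hmem _ _ _)))
  have htop : ∀ M, M ∈ S := fun M => by
    rw [← (coordAlg ε P).apply_symm_apply M, Matrix.matrix_eq_sum_single ((coordAlg ε P).symm M), map_sum]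
    refine Submodule.sum_mem _ fun p _ => ?_
    rw [map_sum]
    refine Submodule.sum_mem _ fun r _ => ?_
    rw [← mul_one (((coordAlg ε P).symm M) p r), ← smul_eq_mul, ← Matrix.smul_single, map_smul]
    exact Submodule.smul_mem _ _ (hstd p r)
  refine ⟨irred_iff.mpr fun W hW => ?_, fun M hM => ?_⟩
  · by_cases hb : W = ⊥
    · exact Or.inl hb
    obtain ⟨w, hw, hw0⟩ := Submodule.exists_mem_ne_zero_of_ne_bot hb
    refine Or.inr (eq_top_iff.mpr fun v _ => ?_)
    obtain ⟨i, hi⟩ : ∃ i, w i ≠ 0 := by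
      by_contra! h; exact hw0 (funext h)
    have hK : ∀ N, N ∈ S → N *ᵥ w ∈ W := fun N hN => by
      induction hN using Submodule.span_induction with
      | mem s hs => obtain ⟨x, hx, rfl⟩ := mem_matrixSet.mp hs; exact hW x hx w hw
      | zero => rw [Matrix.zero_mulVec]; exact zero_mem _
      | add a b _ _ ha hb => rw [Matrix.add_mulVec]; exact add_mem ha hb
      | smul c a _ ha => rw [Matrix.smul_mulVec]; exact Submodule.smul_mem _ _ ha
    have h := hK (Matrix.vecMulVec v (Pi.single i (w i)⁻¹)) (htop _)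
    rw [Matrix.vecMulVec_mulVec, single_dotProduct, inv_mul_cancel₀ hi] at h
    simpa using h
  · refine scalar_of_eigen fun v => ?_
    by_cases hv : v = 0
    · exact ⟨0, by simp [hv]⟩
    obtain ⟨i, hi⟩ : ∃ i, v i ≠ 0 := by
      by_contra! h; exact hv (funext h)
    have hK : ∀ N, N ∈ S → M * N = N * M := fun N hN => by
      induction hN using Submodule.span_induction with
      | mem s hs => exact hM s hs
      | zero => rw [mul_zero, zero_mul]
      | add a b _ _ ha hb => rw [mul_add, add_mul, ha, hb]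
      | smul c a _ ha => rw [Matrix.mul_smul, Matrix.smul_mul, ha]
    have h := congrArg (· *ᵥ (Pi.single i 1 : ι → F)) (hK (Matrix.vecMulVec v (Pi.single i (1 : F))) (htop _))
    simp only [← Matrix.mulVec_mulVec, Matrix.vecMulVec_mulVec, single_dotProduct, Pi.single_eq_same, one_mul,
      op_smul_eq_smul, one_smul] at h
    exact ⟨_, h⟩

theorem le_isom {G : Matrix ι ι F} {c : F}
    (hgram : gramIn G ε P = c • ((qM 1).map φ ⊗ₖ ((qM 1).map φ ⊗ₖ (qM 1).map φ))) :
    group φ ε P ≤ Isom G := by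
  rintro _ ⟨x, rfl⟩
  show coordGL ε P (elt φ x) ∈ Isom G
  rw [mem_isom]
  refine gramForm_ext fun u v => ?_
  rw [← gramForm_apply, gramForm_toX G ε P, coordGL_val, toX_coord, toX_coord, gramForm_toX G ε P u v, hgram,
    gramForm_apply]
  congr 1
  have h : (mat x)ᵀ * (qM 1 ⊗ₖ (qM 1 ⊗ₖ qM 1)) * mat x = qM 1 ⊗ₖ (qM 1 ⊗ₖ qM 1) := by
    simp only [mat, Matrix.transpose_smul, ← Matrix.kroneckerMap_transpose, Matrix.smul_mul, Matrix.mul_smul,
      ← Matrix.mul_kronecker_mul, qM_symp, smul_smul]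
    rw [show sgn x.1 * sgn x.1 = 1 by cases x.1 <;> decide, one_smul]
  have hk : (qM 1).map φ ⊗ₖ ((qM 1).map φ ⊗ₖ (qM 1).map φ) = (qM 1 ⊗ₖ (qM 1 ⊗ₖ qM 1)).map φ := by
    ext p r
    simp
  show ((mat x).map φ)ᵀ * _ * (mat x).map φ = _
  rw [hk, Matrix.mul_smul, Matrix.smul_mul, ← Matrix.transpose_map, ← Matrix.map_mul, ← Matrix.map_mul, h]

end Cfsg.Agent.Lib.AschbacherSp.CubeGroup
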