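import Cfsg.Agent.Lib.AschbacherSp.FourDim
import Cfsg.Agent.Lib.AschbacherSp.CubeGroup

/-!
A tensor product of a symplectic plane with an orthogonal space of plus type in dimension four is a tensor cube;
over the field with three elements it normalises `2^(1+6)`.
-/

set_option autoImplicit false
set_option linter.style.haveILetI false
set_option linter.unusedSectionVars false

namespace Cfsg.Agent.Lib.AschbacherSp

open Cfsg.Geo Cfsg.Agent.Lib.PrimeDim.Basic Cfsg.Agent.Lib.Aschbacher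
open scoped Matrix MatrixGroups Kronecker

variable {ι : Type} [Fintype ι] [DecidableEq ι] {F : Type*} [Field F] [Fintype F] {G : Matrix ι ι F}

local notation "Four" => Fin 2 × Fin 2
local notation "Co" => Fin 2 × (Fin 2 × Fin 2)

/-- The standard alternating plane. -/
def om (F : Type*) [Field F] : Matrix (Fin 2) (Fin 2) F := !![0, 1; -1, 0]

/-- The exchange of the two factors. -/
def sw (F : Type*) [Field F] : Matrix (Fin 2 × Fin 2) (Fin 2 × Fin 2) F :=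
  Matrix.of fun x y => if y = x.swap then 1 else 0

theorem om_det : (om F).det ≠ 0 := by simp [om, Matrix.det_fin_two]

theorem similitude_two (A : Matrix (Fin 2) (Fin 2) F) : Aᵀ * om F * A = A.det • om F := by
  ext i j
  fin_cases i <;> fin_cases j <;> simp [om, Matrix.mul_apply, Fin.sum_univ_two, Matrix.det_fin_two] <;> ring

theorem similitude_pair (A B : Matrix (Fin 2) (Fin 2) F) :
    (A ⊗ₖ B)ᵀ * (om F ⊗ₖ om F) * (A ⊗ₖ B) = (A.det * B.det) • (om F ⊗ₖ om F) := by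
  rw [← Matrix.kroneckerMap_transpose, ← Matrix.mul_kronecker_mul, ← Matrix.mul_kronecker_mul, similitude_two,
    similitude_two, Matrix.smul_kronecker, Matrix.kronecker_smul, smul_smul]

theorem kron_sw (A B : Matrix (Fin 2) (Fin 2) F) : (A ⊗ₖ B) * sw F = sw F * (B ⊗ₖ A) := by
  ext ⟨p, p'⟩ ⟨r, r'⟩
  simp [sw, Matrix.mul_apply, Fintype.sum_prod_type, Fin.sum_univ_two]
  fin_cases p <;> fin_cases p' <;> fin_cases r <;> fin_cases r' <;> simp <;> ring

theorem sw_sq : sw F * sw F = 1 := by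
  ext ⟨p, p'⟩ ⟨r, r'⟩
  fin_cases p <;> fin_cases p' <;> fin_cases r <;> fin_cases r' <;>
    simp [sw, Matrix.mul_apply, Fintype.sum_prod_type, Fin.sum_univ_two]

theorem form_four (x y : Fin 2 × Fin 2 → F) : gramForm (om F ⊗ₖ om F) x y =
    x (0, 0) * y (1, 1) - x (0, 1) * y (1, 0) - x (1, 0) * y (0, 1) + x (1, 1) * y (0, 0) := by
  simp [gramForm, om, dotProduct, Matrix.mulVec, Fintype.sum_prod_type, Fin.sum_univ_two]
  ring

/-- Elements of `GL 2` with a given first column. -/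
theorem exists_col {a : Fin 2 → F} (ha : a ≠ 0) : ∃ A : Matrix (Fin 2) (Fin 2) F, A.det ≠ 0 ∧ ∀ i, A i 0 = a i := by
  by_cases h0 : a 0 = 0
  · have h1 : a 1 ≠ 0 := fun h => ha (funext fun i => by fin_cases i <;> simpa)
    exact ⟨!![0, 1; a 1, 0], by simp [Matrix.det_fin_two, h1], fun i => by fin_cases i <;> simp [h0]⟩
  · exact ⟨!![a 0, 0; a 1, 1], by simp [Matrix.det_fin_two, h0], fun i => by fin_cases i <;> simp⟩

/-- An isotropic vector is a pure tensor. -/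
theorem pure_of_isotropic (h20 : (2 : F) ≠ 0) {x : Fin 2 × Fin 2 → F} (h : gramForm (om F ⊗ₖ om F) x x = 0) :
    ∃ a b : Fin 2 → F, ∀ p, x p = a p.1 * b p.2 := by
  rw [form_four] at h
  have hx : x (0, 0) * x (1, 1) = x (0, 1) * x (1, 0) := mul_left_cancel₀ h20 (by linear_combination h)
  by_cases h00 : x (0, 0) = 0
  · by_cases h01 : x (0, 1) = 0
    · refine ⟨![0, 1], ![x (1, 0), x (1, 1)], fun ⟨p, p'⟩ => ?_⟩
      fin_cases p <;> fin_cases p' <;> simp [h00, h01]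
    · have h10 : x (1, 0) = 0 := by
        rw [h00, zero_mul] at hx
        exact (mul_eq_zero.mp hx.symm).resolve_left h01
      refine ⟨![x (0, 1), x (1, 1)], ![0, 1], fun ⟨p, p'⟩ => ?_⟩
      fin_cases p <;> fin_cases p' <;> simp [h00, h10]
  · refine ⟨![1, x (1, 0) / x (0, 0)], ![x (0, 0), x (0, 1)], fun ⟨p, p'⟩ => ?_⟩
    fin_cases p <;> fin_cases p' <;> simp <;> field_simp
    linear_combination hx

/-- The similitudes of the plus-type form in dimension four. -/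
theorem similitudes (h20 : (2 : F) ≠ 0) {T : Matrix (Fin 2 × Fin 2) (Fin 2 × Fin 2) F} {γ : F} (hγ : γ ≠ 0)
    (hT : Tᵀ * (om F ⊗ₖ om F) * T = γ • (om F ⊗ₖ om F)) :
    ∃ A B : GL (Fin 2) F, T = (A : Matrix (Fin 2) (Fin 2) F) ⊗ₖ (B : Matrix (Fin 2) (Fin 2) F) ∨
      T = sw F * ((A : Matrix (Fin 2) (Fin 2) F) ⊗ₖ (B : Matrix (Fin 2) (Fin 2) F)) := by
  classical
  have hform : ∀ (S : Matrix Four Four F) (δ : F), Sᵀ * (om F ⊗ₖ om F) * S = δ • (om F ⊗ₖ om F) → ∀ p r,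
      gramForm (om F ⊗ₖ om F) (fun x => S x p) (fun x => S x r) = δ * (om F ⊗ₖ om F) p r := fun S δ hS p r => by
    have := congrFun (congrFun hS p) r
    rw [← gramForm_single (Sᵀ * (om F ⊗ₖ om F) * S), ← gramForm_apply, Matrix.mulVec_single_one,
      Matrix.mulVec_single_one] at this
    simp only [Matrix.smul_apply, smul_eq_mul] at this
    exact this
  have hdiv : ∀ (S : Matrix Four Four F) (δ : F) (A B : Matrix (Fin 2) (Fin 2) F), A.det ≠ 0 → B.det ≠ 0 →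
      Sᵀ * (om F ⊗ₖ om F) * S = δ • (om F ⊗ₖ om F) →
      ((A⁻¹ ⊗ₖ B⁻¹) * S)ᵀ * (om F ⊗ₖ om F) * ((A⁻¹ ⊗ₖ B⁻¹) * S) = ((A⁻¹.det * B⁻¹.det) * δ) • (om F ⊗ₖ om F) ∧
        (A ⊗ₖ B) * ((A⁻¹ ⊗ₖ B⁻¹) * S) = S := fun S δ A B hA hB hS => by
    refine ⟨?_, ?_⟩
    · calc _ = Sᵀ * ((A⁻¹ ⊗ₖ B⁻¹)ᵀ * (om F ⊗ₖ om F) * (A⁻¹ ⊗ₖ B⁻¹)) * S := by
            rw [Matrix.transpose_mul]; simp only [mul_assoc]
        _ = _ := by rw [similitude_pair, Matrix.mul_smul, Matrix.smul_mul, hS, smul_smul]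
    · rw [← mul_assoc, ← Matrix.mul_kronecker_mul, Matrix.mul_nonsing_inv A (isUnit_iff_ne_zero.mpr hA),
        Matrix.mul_nonsing_inv B (isUnit_iff_ne_zero.mpr hB), Matrix.one_kronecker_one, one_mul]
  -- move the first vector
  obtain ⟨a, b, hab⟩ := pure_of_isotropic h20 (x := fun x => T x (0, 0)) (by
    rw [hform T γ hT]; simp [om])
  have hne : ∀ p, γ * (om F ⊗ₖ om F) p p.swap.swap = γ * (om F ⊗ₖ om F) p p := fun p => by simp
  have hcol0 : a ≠ 0 ∧ b ≠ 0 := by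
    constructor <;>
    · intro h
      have h1 := hform T γ hT (0, 0) (1, 1)
      rw [form_four] at h1
      simp only [hab, h, Pi.zero_apply, zero_mul, mul_zero] at h1
      simp [om, eq_comm, hγ] at h1
  obtain ⟨A₀, hA₀, hA₀c⟩ := exists_col hcol0.1
  obtain ⟨B₀, hB₀, hB₀c⟩ := exists_col hcol0.2
  obtain ⟨hT₁, hT₁e⟩ := hdiv T γ A₀ B₀ hA₀ hB₀ hT
  set T₁ := (A₀⁻¹ ⊗ₖ B₀⁻¹) * T
  set γ₁ := A₀⁻¹.det * B₀⁻¹.det * γ
  have hγ₁ : γ₁ ≠ 0 := mul_ne_zero (mul_ne_zero (Matrix.isUnit_nonsing_inv_det _ (isUnit_iff_ne_zero.mpr hA₀)).ne_zero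
    (Matrix.isUnit_nonsing_inv_det _ (isUnit_iff_ne_zero.mpr hB₀)).ne_zero) hγ
  have h00 : ∀ x, T₁ x (0, 0) = if x = (0, 0) then 1 else 0 := by
    intro x
    have hcol : ∀ y : Four, T y (0, 0) = (A₀ ⊗ₖ B₀) y (0, 0) := fun y => by
      rw [hab y, Matrix.kroneckerMap_apply, hA₀c, hB₀c]
    have h1 : T₁ x (0, 0) = ((A₀⁻¹ ⊗ₖ B₀⁻¹) * (A₀ ⊗ₖ B₀)) x (0, 0) := by
      simp only [T₁, Matrix.mul_apply, hcol]
    rw [h1, ← Matrix.mul_kronecker_mul, Matrix.nonsing_inv_mul A₀ (isUnit_iff_ne_zero.mpr hA₀),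
      Matrix.nonsing_inv_mul B₀ (isUnit_iff_ne_zero.mpr hB₀), Matrix.one_kronecker_one, Matrix.one_apply]
  -- move the opposite vector
  obtain ⟨u, v, huv⟩ := pure_of_isotropic h20 (x := fun x => T₁ x (1, 1)) (by
    rw [hform T₁ γ₁ hT₁]; simp [om])
  have huv1 : u 1 * v 1 = γ₁ := by
    have h1 := hform T₁ γ₁ hT₁ (0, 0) (1, 1)
    rw [form_four] at h1
    simp [h00, huv, om] at h1
    exact h1
  have hu1 : u 1 ≠ 0 := fun h => hγ₁ (by rw [← huv1, h, zero_mul])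
  have hv1 : v 1 ≠ 0 := fun h => hγ₁ (by rw [← huv1, h, mul_zero])
  let A₁ : Matrix (Fin 2) (Fin 2) F := !![1, u 0; 0, u 1]
  let B₁ : Matrix (Fin 2) (Fin 2) F := !![1, v 0; 0, v 1]
  have hA₁ : A₁.det ≠ 0 := by simp [A₁, Matrix.det_fin_two, hu1]
  have hB₁ : B₁.det ≠ 0 := by simp [B₁, Matrix.det_fin_two, hv1]
  obtain ⟨hT₂, hT₂e⟩ := hdiv T₁ γ₁ A₁ B₁ hA₁ hB₁ hT₁
  set T₂ := (A₁⁻¹ ⊗ₖ B₁⁻¹) * T₁
  set γ₂ := A₁⁻¹.det * B₁⁻¹.det * γ₁
  have hid : ∀ x y : Four, ((A₁⁻¹ ⊗ₖ B₁⁻¹) * (A₁ ⊗ₖ B₁)) x y = if x = y then 1 else 0 := fun x y => by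
    rw [← Matrix.mul_kronecker_mul, Matrix.nonsing_inv_mul A₁ (isUnit_iff_ne_zero.mpr hA₁),
      Matrix.nonsing_inv_mul B₁ (isUnit_iff_ne_zero.mpr hB₁), Matrix.one_kronecker_one, Matrix.one_apply]
  have g00 : ∀ x, T₂ x (0, 0) = if x = (0, 0) then 1 else 0 := fun x => by
    have hcol : ∀ y : Four, T₁ y (0, 0) = (A₁ ⊗ₖ B₁) y (0, 0) := fun y => by
      obtain ⟨p, p'⟩ := y
      rw [h00]; fin_cases p <;> fin_cases p' <;> simp [A₁, B₁]
    rw [← hid x (0, 0)]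
    simp only [T₂, Matrix.mul_apply, hcol]
  have g11 : ∀ x, T₂ x (1, 1) = if x = (1, 1) then 1 else 0 := fun x => by
    have hcol : ∀ y : Four, T₁ y (1, 1) = (A₁ ⊗ₖ B₁) y (1, 1) := fun y => by
      obtain ⟨p, p'⟩ := y
      rw [huv]; fin_cases p <;> fin_cases p' <;> simp [A₁, B₁]
    rw [← hid x (1, 1)]
    simp only [T₂, Matrix.mul_apply, hcol]
  have hf := hform T₂ γ₂ hT₂
  simp only [form_four] at hf
  have hγ₂ : γ₂ = 1 := by
    have h := hf (0, 0) (1, 1)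
    simp [g00, g11, om] at h
    exact h.symm
  set x01 := T₂ (0, 1) (0, 1)
  set x10 := T₂ (1, 0) (0, 1)
  set y01 := T₂ (0, 1) (1, 0)
  set y10 := T₂ (1, 0) (1, 0)
  have a1 : T₂ (1, 1) (0, 1) = 0 := by
    have h := hf (0, 0) (0, 1); simp [g00, om] at h; exact h
  have a2 : T₂ (0, 0) (0, 1) = 0 := by
    have h := hf (1, 1) (0, 1); simp [g11, om] at h; exact h
  have a3 : T₂ (1, 1) (1, 0) = 0 := by
    have h := hf (0, 0) (1, 0); simp [g00, om] at h; exact h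
  have a4 : T₂ (0, 0) (1, 0) = 0 := by
    have h := hf (1, 1) (1, 0); simp [g11, om] at h; exact h
  have hxx : x01 * x10 = 0 := by
    have h := hf (0, 1) (0, 1)
    simp [a1, a2, om] at h
    exact mul_left_cancel₀ h20 (by linear_combination -h)
  have hyy : y01 * y10 = 0 := by
    have h := hf (1, 0) (1, 0)
    simp [a3, a4, om] at h
    exact mul_left_cancel₀ h20 (by linear_combination -h)
  have hxy : x01 * y10 + x10 * y01 = 1 := by
    have h := hf (0, 1) (1, 0)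
    simp [a1, a2, om, hγ₂] at h
    linear_combination -h
  have hsol : ∃ A B : Matrix (Fin 2) (Fin 2) F, A.det ≠ 0 ∧ B.det ≠ 0 ∧ (T₂ = A ⊗ₖ B ∨ T₂ = sw F * (A ⊗ₖ B)) := by
    rcases mul_eq_zero.mp hxx with h | h
    · rw [h, zero_mul, zero_add] at hxy
      have hy : y10 = 0 := (mul_eq_zero.mp hyy).resolve_left fun e => by rw [e, mul_zero] at hxy; exact zero_ne_one hxy
      have h10 : x10 ≠ 0 := fun e => by rw [e, zero_mul] at hxy; exact zero_ne_one hxy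
      refine ⟨!![1, 0; 0, x10⁻¹], !![1, 0; 0, x10], by simp [Matrix.det_fin_two, h10],
        by simp [Matrix.det_fin_two, h10], Or.inr ?_⟩
      ext ⟨p, p'⟩ ⟨r, r'⟩
      have hinv : x10⁻¹ = y01 := inv_eq_of_mul_eq_one_right hxy
      fin_cases p <;> fin_cases p' <;> fin_cases r <;> fin_cases r' <;>
        simp [sw, Matrix.mul_apply, Fintype.sum_prod_type, Fin.sum_univ_two, g00, g11, a1, a2, a3, a4] <;>
        first
          | exact h
          | exact hy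
          | (field_simp; linear_combination hxy)
          | exact hinv.symm
          | exact (inv_mul_cancel₀ h10).symm
          | rfl
    · rw [h, zero_mul, add_zero] at hxy
      have hy : y01 = 0 := (mul_eq_zero.mp hyy).resolve_right fun e => by rw [e, mul_zero] at hxy; exact zero_ne_one hxy
      have h01 : x01 ≠ 0 := fun e => by rw [e, zero_mul] at hxy; exact zero_ne_one hxy
      refine ⟨!![1, 0; 0, x01⁻¹], !![1, 0; 0, x01], by simp [Matrix.det_fin_two, h01],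
        by simp [Matrix.det_fin_two, h01], Or.inl ?_⟩
      ext ⟨p, p'⟩ ⟨r, r'⟩
      have hinv : x01⁻¹ = y10 := inv_eq_of_mul_eq_one_right hxy
      fin_cases p <;> fin_cases p' <;> fin_cases r <;> fin_cases r' <;>
        simp [g00, g11, a1, a2, a3, a4] <;>
        first
          | exact h
          | exact hy
          | exact hinv.symm
          | exact (inv_mul_cancel₀ h01).symm
          | (field_simp; linear_combination hxy)
          | rfl
  obtain ⟨A₂, B₂, hA₂, hB₂, hT₂v⟩ := hsol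
  have hTT : T = (A₀ * A₁) ⊗ₖ (B₀ * B₁) * T₂ := by
    rw [← hT₁e, ← hT₂e, ← mul_assoc, ← Matrix.mul_kronecker_mul]
  rcases hT₂v with e | e
  · refine ⟨Matrix.GeneralLinearGroup.mkOfDetNeZero (A₀ * A₁ * A₂) (by simp [Matrix.det_mul, hA₀, hA₁, hA₂]),
      Matrix.GeneralLinearGroup.mkOfDetNeZero (B₀ * B₁ * B₂) (by simp [Matrix.det_mul, hB₀, hB₁, hB₂]), Or.inl ?_⟩
    show T = (A₀ * A₁ * A₂) ⊗ₖ (B₀ * B₁ * B₂)
    rw [hTT, e]
    simp only [← Matrix.mul_kronecker_mul]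
  · refine ⟨Matrix.GeneralLinearGroup.mkOfDetNeZero (B₀ * B₁ * A₂) (by simp [Matrix.det_mul, hB₀, hB₁, hA₂]),
      Matrix.GeneralLinearGroup.mkOfDetNeZero (A₀ * A₁ * B₂) (by simp [Matrix.det_mul, hA₀, hA₁, hB₂]), Or.inr ?_⟩
    show T = sw F * ((B₀ * B₁ * A₂) ⊗ₖ (A₀ * A₁ * B₂))
    rw [hTT, e, ← mul_assoc, kron_sw, mul_assoc, ← Matrix.mul_kronecker_mul]

/-- A hyperbolic basis. -/
theorem exists_hyperbolic (h20 : (2 : F) ≠ 0) {G₂ : Matrix (Fin 4) (Fin 4) F} (hs : G₂ᵀ = G₂) (hd : G₂.det ≠ 0)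
    (hplus : IsPlusTypeOn (fun v => gramForm G₂ v v) ⊤) :
    ∃ (ψ : Fin 4 ≃ Fin 2 × Fin 2) (M : GL (Fin 4) F), gramIn G₂ ψ M = om F ⊗ₖ om F := by
  classical
  obtain ⟨U, -, hU0, hdim⟩ := hplus
  rw [finrank_top, Module.finrank_pi, Fintype.card_fin] at hdim
  have hb := gramForm_bilinear G₂
  have hflip : ∀ x y, gramForm G₂ x y = gramForm G₂ y x := fun x y => by rw [gramForm_flip, hs]
  have hU : ∀ x ∈ U, ∀ y ∈ U, gramForm G₂ x y = 0 := fun x hx y hy => by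
    have h := hU0 _ (U.add_mem hx hy)
    simp only [hb.add_left, hb.add_right] at h
    exact mul_left_cancel₀ h20 (by linear_combination h - hU0 x hx - hU0 y hy - hflip y x)
  let bU := Module.finBasisOfFinrankEq F U (show Module.finrank F U = 2 by omega)
  let u : Fin 2 → Fin 4 → F := fun i => bU i
  have hdual : ∀ j, ∃ w, ∀ i, gramForm G₂ (u i) w = if i = j then 1 else 0 := by
    intro j
    obtain ⟨g, hg⟩ := LinearMap.exists_extend (bU.coord j)
    let z : Fin 4 → F := fun k => g (Pi.single k 1)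
    refine ⟨G₂⁻¹ *ᵥ z, fun i => ?_⟩
    rw [gramForm, Matrix.mulVec_mulVec, Matrix.mul_nonsing_inv _ (isUnit_iff_ne_zero.mpr hd), Matrix.one_mulVec]
    have h1 : g (u i) = if i = j then 1 else 0 := by
      rw [show g (u i) = (g.comp U.subtype) (bU i) from rfl, hg, Module.Basis.coord_apply, Module.Basis.repr_self,
        Finsupp.single_apply]
    rw [← h1]
    conv_rhs => rw [pi_eq_sum_univ' (u i), map_sum]
    simp [dotProduct, z]
  choose w hw using hdual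
  have hnL : ∀ x y, gramForm G₂ (-x) y = -gramForm G₂ x y := fun x y => by
    rw [← neg_one_smul F x, hb.smul_left, neg_one_mul]
  have hnR : ∀ x y, gramForm G₂ x (-y) = -gramForm G₂ x y := fun x y => by
    rw [← neg_one_smul F y, hb.smul_right, neg_one_mul]
  let t : F := (2 : F)⁻¹
  let w' : Fin 2 → Fin 4 → F := fun j =>
    w j + (-(t * gramForm G₂ (w j) (w 0))) • u 0 + (-(t * gramForm G₂ (w j) (w 1))) • u 1
  have huu : ∀ i j, gramForm G₂ (u i) (u j) = 0 := fun i j => hU _ (bU i).2 _ (bU j).2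
  have hwu : ∀ i j, gramForm G₂ (w j) (u i) = if i = j then 1 else 0 := fun i j => by rw [hflip, hw]
  have huw' : ∀ i j, gramForm G₂ (u i) (w' j) = if i = j then 1 else 0 := fun i j => by
    simp [w', hnR, hb.add_right, hb.smul_right, huu, hw]
  have hww' : ∀ i j, gramForm G₂ (w' i) (w' j) = 0 := fun i j => by
    have h01 := hflip (w 1) (w 0)
    fin_cases i <;> fin_cases j <;>
      simp [w', t, hnL, hnR, hb.add_left, hb.add_right, hb.smul_left, hb.smul_right, huu, hw, hwu, h01] <;> field_simp <;> ring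
  let v : Four → Fin 4 → F := fun x =>
    if x.1 = 0 then (if x.2 = 0 then u 0 else u 1) else (if x.2 = 0 then -w' 1 else w' 0)
  obtain ⟨ψ, M, hgram, -⟩ := exists_coords (G := G₂) (v := v) (G₀ := om F ⊗ₖ om F) (by simp)
    (by simp [om, Matrix.det_kronecker, Matrix.det_fin_two]) (fun x y => by
      obtain ⟨x₁, x₂⟩ := x
      obtain ⟨y₁, y₂⟩ := y
      fin_cases x₁ <;> fin_cases x₂ <;> fin_cases y₁ <;> fin_cases y₂ <;>
        simp [v, om, hnL, hnR, huu, huw', hww', hflip (w' _) (u _)])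
  exact ⟨ψ, M, hgram⟩

theorem coord_change {X Y : Type} [Fintype X] [DecidableEq X] [Fintype Y] [DecidableEq Y] (ε : ι ≃ X) (ψ : X ≃ Y)
    (P : GL ι F) (K : GL X F) (N : Matrix Y Y F) :
    coordAlg (ε.trans ψ) (P * glReindex ε.symm K) N =
      coordAlg ε P ((K : Matrix X X F) * N.submatrix ψ ψ * ((K⁻¹ : GL X F) : Matrix X X F)) := by
  rw [coordAlg_apply, coordAlg_apply, map_mul, map_mul, Units.val_mul, mul_inv_rev, Units.val_mul, ← map_inv]
  simp only [mul_assoc]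
  congr 3
  all_goals first
    | rfl
    | (ext i j; simp)

theorem gram_change {X Y : Type} [Fintype X] [DecidableEq X] [Fintype Y] [DecidableEq Y] (G : Matrix ι ι F) (ε : ι ≃ X)
    (ψ : X ≃ Y) (P : GL ι F) (K : GL X F) :
    gramIn G (ε.trans ψ) (P * glReindex ε.symm K) =
      ((K : Matrix X X F)ᵀ * gramIn G ε P * (K : Matrix X X F)).submatrix ψ.symm ψ.symm := by
  refine gramForm_ext fun x y => ?_
  rw [← gramForm_in]
  have hx : ∀ x : Y → F, ((P * glReindex ε.symm K : GL ι F) : Matrix ι ι F) *ᵥ (x ∘ ε.trans ψ) =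
      (P : Matrix ι ι F) *ᵥ (((K : Matrix X X F) *ᵥ (x ∘ ψ)) ∘ ε) := fun x => by
    rw [Units.val_mul, ← Matrix.mulVec_mulVec]
    congr 1
    show (Matrix.reindexAlgEquiv F F ε.symm (K : Matrix X X F)) *ᵥ _ = _
    rw [Matrix.reindexAlgEquiv_apply, Matrix.reindex_apply, Matrix.submatrix_mulVec_equiv]
    funext i
    simp [Function.comp_def]
  rw [hx, hx, gramForm_in, gramForm_apply, gramForm, gramForm, Matrix.submatrix_mulVec_equiv, Equiv.symm_symm,
    dotProduct, dotProduct, ← Equiv.sum_comp ψ]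
  simp

/-- The coordinates of a plus-type tensor product as a tensor cube. -/
theorem plus_coords (hG : Alt G) (hodd : Odd (Fintype.card F)) {e : ι ≃ Fin 2 × Fin 4} {P : GL ι F}
    {f₁ : (Fin 2 → F) → (Fin 2 → F) → F} {f₂ : (Fin 4 → F) → (Fin 4 → F) → F} (h1 : IsSymplecticForm f₁)
    (h2 : IsSymmetricForm f₂) (hplus : IsPlusTypeOn (fun v => f₂ v v) ⊤)
    (hf : IsTensorFormStructure id (gramForm G) f₁ f₂ e P) :
    ∃ (ε : ι ≃ Co) (P' : GL ι F) (κ : F), κ ≠ 0 ∧ gramIn G ε P' = κ • (om F ⊗ₖ (om F ⊗ₖ om F)) ∧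
      ∀ g ∈ tensorProductSubgroup 2 4 e P ⊓ Isom G, ∃ A B C : GL (Fin 2) F,
        (g : Matrix ι ι F) = coordAlg ε P' ((A : Matrix (Fin 2) (Fin 2) F) ⊗ₖ
            ((B : Matrix (Fin 2) (Fin 2) F) ⊗ₖ (C : Matrix (Fin 2) (Fin 2) F))) ∨
        (g : Matrix ι ι F) = coordAlg ε P' (((1 : Matrix (Fin 2) (Fin 2) F) ⊗ₖ sw F) *
          ((A : Matrix (Fin 2) (Fin 2) F) ⊗ₖ ((B : Matrix (Fin 2) (Fin 2) F) ⊗ₖ (C : Matrix (Fin 2) (Fin 2) F)))) := by
  classical
  have h20 : (2 : F) ≠ 0 := two_ne_zero' hodd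
  obtain ⟨c, hc, hf⟩ := hf
  have hg2 := gramForm_gramMatrix h2.bilinear
  set G₁ := gramMatrix f₁
  set G₂ := gramMatrix f₂
  have hG₁ : G₁.det ≠ 0 :=
    (Cfsg.Agent.Lib.PrimeDim.Fields.isSesqui_of_bilinear h1.bilinear).det_ne_zero Function.bijective_id h1.nondegenerate
  have hG₂ : G₂.det ≠ 0 :=
    (Cfsg.Agent.Lib.PrimeDim.Fields.isSesqui_of_bilinear h2.bilinear).det_ne_zero Function.bijective_id h2.nondegenerate
  have hs : G₂ᵀ = G₂ := by ext i j; exact h2.symm _ _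
  have hG1 : G₁ = G₁ 0 1 • om F := by
    ext i j
    fin_cases i <;> fin_cases j
    · simpa [om, G₁, gramMatrix] using h1.alternating (Pi.single 0 1)
    · simp [om]
    · simpa [om, G₁, gramMatrix] using h1.skew (Pi.single 1 1) (Pi.single 0 1)
    · simpa [om, G₁, gramMatrix] using h1.alternating (Pi.single 1 1)
  have hg1 : G₁ 0 1 ≠ 0 := fun h => hG₁ (by rw [hG1, h, zero_smul, Matrix.det_zero])
  have hin : gramIn G e P = c • (G₁ ⊗ₖ G₂) := gramForm_ext fun x y => by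
    rw [← gramForm_in, hf]
    simp [formOfGram, gramForm, dotProduct, Matrix.mulVec, Finset.mul_sum, mul_assoc, mul_left_comm]
  obtain ⟨ψ, M, hM⟩ := exists_hyperbolic h20 hs hG₂ (by
    convert hplus using 2
    rename_i v
    exact hg2 v v)
  set Mv : Matrix (Fin 4) (Fin 4) F := (M : Matrix (Fin 4) (Fin 4) F)
  set Mi : Matrix (Fin 4) (Fin 4) F := ((M⁻¹ : GL (Fin 4) F) : Matrix (Fin 4) (Fin 4) F)
  let K : GL (Fin 2 × Fin 4) F :=
    ⟨(1 : Matrix (Fin 2) (Fin 2) F) ⊗ₖ Mv, (1 : Matrix (Fin 2) (Fin 2) F) ⊗ₖ Mi,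
      by rw [← Matrix.mul_kronecker_mul, one_mul, Units.mul_inv, Matrix.one_kronecker_one],
      by rw [← Matrix.mul_kronecker_mul, one_mul, Units.inv_mul, Matrix.one_kronecker_one]⟩
  let Ψ : Fin 2 × Fin 4 ≃ Co := (Equiv.refl (Fin 2)).prodCongr ψ
  have hMψ : (Mvᵀ * G₂ * Mv).submatrix ψ.symm ψ.symm = om F ⊗ₖ om F := hM
  refine ⟨e.trans Ψ, P * glReindex e.symm K, c * G₁ 0 1, mul_ne_zero hc hg1, ?_, ?_⟩
  · rw [gram_change, hin]
    show (((1 : Matrix (Fin 2) (Fin 2) F) ⊗ₖ Mv)ᵀ * (c • (G₁ ⊗ₖ G₂)) *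
      ((1 : Matrix (Fin 2) (Fin 2) F) ⊗ₖ Mv)).submatrix Ψ.symm Ψ.symm = _
    rw [← Matrix.kroneckerMap_transpose, Matrix.mul_smul, Matrix.smul_mul, ← Matrix.mul_kronecker_mul,
      ← Matrix.mul_kronecker_mul, Matrix.transpose_one, one_mul, mul_one, hG1]
    ext ⟨a, x⟩ ⟨b, y⟩
    have h := congrFun (congrFun hMψ x) y
    simp only [Matrix.submatrix_apply] at h
    have h01 : om F 0 1 = 1 := by simp [om]
    simp [Ψ, h, h01]
    ring
  rintro g ⟨hgT, hgI⟩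
  obtain ⟨_, ⟨g₀, ⟨A, B, hAB⟩, rfl⟩, rfl⟩ := hgT
  have hg0 : g₀ ∈ Isom (gramIn G e P) := by
    have := symm_isom hgI e P
    rwa [show ((MulAut.conj P).toMonoidHom ((glReindex e.symm).toMonoidHom g₀) : GL ι F) = coordGL e P g₀ from rfl,
      MulEquiv.symm_apply_apply] at this
  rw [mem_isom, hin, hAB] at hg0
  simp only [Matrix.mul_smul, Matrix.smul_mul, ← Matrix.kroneckerMap_transpose, ← Matrix.mul_kronecker_mul] at hg0
  have heq := smul_right_injective _ hc hg0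
  set d := (A : Matrix (Fin 2) (Fin 2) F).det
  have hd : d ≠ 0 := ((Matrix.isUnit_iff_isUnit_det _).mp A.isUnit).ne_zero
  rw [show (A : Matrix (Fin 2) (Fin 2) F)ᵀ * G₁ * (A : Matrix (Fin 2) (Fin 2) F) = (G₁ 0 1 * d) • om F by
    rw [hG1, Matrix.mul_smul, Matrix.smul_mul, similitude_two, smul_smul]; simp [om, d]] at heq
  have hB2 : (B : Matrix (Fin 4) (Fin 4) F)ᵀ * G₂ * (B : Matrix (Fin 4) (Fin 4) F) = d⁻¹ • G₂ := by
    ext a b
    have h := congrFun (congrFun heq (0, a)) (1, b)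
    simp [om] at h
    rw [Matrix.smul_apply, smul_eq_mul]
    field_simp
    exact mul_left_cancel₀ hg1 (by linear_combination h)
  set T := (Mi * (B : Matrix (Fin 4) (Fin 4) F) * Mv).submatrix ψ.symm ψ.symm with hTdef
  have hTs : Tᵀ * (om F ⊗ₖ om F) * T = d⁻¹ • (om F ⊗ₖ om F) := by
    rw [← hMψ, hTdef, Matrix.transpose_submatrix, Matrix.submatrix_mul_equiv, Matrix.submatrix_mul_equiv]
    rw [show (Mi * (B : Matrix (Fin 4) (Fin 4) F) * Mv)ᵀ * (Mvᵀ * G₂ * Mv) *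
      (Mi * (B : Matrix (Fin 4) (Fin 4) F) * Mv) = d⁻¹ • (Mvᵀ * G₂ * Mv) from ?_]
    · rfl
    calc _ = Mvᵀ * ((B : Matrix (Fin 4) (Fin 4) F)ᵀ * ((Mv * Mi)ᵀ * G₂ * (Mv * Mi)) *
          (B : Matrix (Fin 4) (Fin 4) F)) * Mv := by simp only [Matrix.transpose_mul, mul_assoc]
      _ = _ := by
        rw [Units.mul_inv, Matrix.transpose_one, one_mul, mul_one, hB2, Matrix.mul_smul, Matrix.smul_mul]
  have hgv : ((MulAut.conj P).toMonoidHom ((glReindex e.symm).toMonoidHom g₀) : GL ι F).val =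
      coordAlg (e.trans Ψ) (P * glReindex e.symm K) ((A : Matrix (Fin 2) (Fin 2) F) ⊗ₖ T) := by
    rw [coord_change, show ((MulAut.conj P).toMonoidHom ((glReindex e.symm).toMonoidHom g₀) : GL ι F) = coordGL e P g₀
      from rfl, coordGL_val, hAB]
    congr 1
    have hsub : ((A : Matrix (Fin 2) (Fin 2) F) ⊗ₖ T).submatrix Ψ Ψ =
        (A : Matrix (Fin 2) (Fin 2) F) ⊗ₖ (Mi * (B : Matrix (Fin 4) (Fin 4) F) * Mv) := by
      ext ⟨a, x⟩ ⟨b, y⟩
      simp [Ψ, hTdef]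
    rw [hsub]
    show _ = ((1 : Matrix (Fin 2) (Fin 2) F) ⊗ₖ Mv) * _ * ((1 : Matrix (Fin 2) (Fin 2) F) ⊗ₖ Mi)
    rw [← Matrix.mul_kronecker_mul, ← Matrix.mul_kronecker_mul, one_mul, mul_one]
    congr 1
    rw [← mul_assoc, ← mul_assoc, Units.mul_inv, one_mul, mul_assoc, Units.mul_inv, mul_one]
  obtain ⟨B', C', hT | hT⟩ := similitudes h20 (inv_ne_zero hd) hTs
  · exact ⟨A, B', C', Or.inl (by rw [hgv, hT])⟩
  · exact ⟨A, B', C', Or.inr (by rw [hgv, hT, ← Matrix.mul_kronecker_mul, one_mul])⟩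

/-- The index of a triple. -/
def co3 : Fin 2 × (Fin 2 × Fin 2) ≃ (Fin 3 → Fin 2) where
  toFun x := ![x.1, x.2.1, x.2.2]
  invFun y := (y 0, y 1, y 2)
  left_inv x := by simp
  right_inv y := funext fun i => by fin_cases i <;> simp

/-- A plus-type tensor product lies in a tensor-wreath subgroup. -/
theorem plus_wreath (hG : Alt G) (hodd : Odd (Fintype.card F)) {e : ι ≃ Fin 2 × Fin 4} {P : GL ι F}
    {f₁ : (Fin 2 → F) → (Fin 2 → F) → F} {f₂ : (Fin 4 → F) → (Fin 4 → F) → F} (h1 : IsSymplecticForm f₁)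
    (h2 : IsSymmetricForm f₂) (hplus : IsPlusTypeOn (fun v => f₂ v v) ⊤)
    (hf : IsTensorFormStructure id (gramForm G) f₁ f₂ e P) :
    ∃ (e' : ι ≃ (Fin 3 → Fin 2)) (P' : GL ι F) (g₁ : (Fin 2 → F) → (Fin 2 → F) → F), IsSymplecticForm g₁ ∧
      IsTensorPowerFormStructure id (gramForm G) g₁ e' P' ∧
      tensorProductSubgroup 2 4 e P ⊓ Isom G ≤ tensorWreathSubgroup 2 3 e' P' := by
  classical
  obtain ⟨ε, Q, κ, hκ, hgram, hel⟩ := plus_coords hG hodd h1 h2 hplus hf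
  have hom : (om F)ᵀ = -om F := by ext i j; fin_cases i <;> fin_cases j <;> simp [om]
  have homd : ∀ a, om F a a = 0 := fun a => by fin_cases a <;> simp [om]
  refine ⟨ε.trans co3, Q, gramForm (om F), isSymplectic_gram hom (gramForm_self_eq_zero hom homd) om_det,
    ⟨κ, hκ, fun x y => ?_⟩, ?_⟩
  · have hgram' : gramIn G (ε.trans co3) Q = (κ • (om F ⊗ₖ (om F ⊗ₖ om F))).submatrix co3.symm co3.symm := by
      rw [← hgram]; rfl
    rw [gramForm_in, hgram', gramMatrix_gramForm, gramForm, dotProduct]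
    simp only [Matrix.mulVec, dotProduct, Matrix.submatrix_apply, Finset.mul_sum, id]
    refine Finset.sum_congr rfl fun a _ => Finset.sum_congr rfl fun b _ => ?_
    simp [co3, Fin.prod_univ_three]
    ring
  intro g hg
  have hstd : ∃ g₀ ∈ tensorWreathStandard 2 3 F, coordAlg (ε.trans co3) Q (g₀ : Matrix _ _ F) = (g : Matrix ι ι F) := by
    have hsub : ∀ N : Matrix Co Co F, coordAlg (ε.trans co3) Q (N.submatrix co3.symm co3.symm) = coordAlg ε Q N :=
      fun N => by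
        rw [coordAlg_apply, coordAlg_apply]
        congr 2
    have hpure : ∀ A B C : GL (Fin 2) F, ∃ g₁ ∈ tensorWreathStandard 2 3 F, (g₁ : Matrix _ _ F) =
        ((A : Matrix (Fin 2) (Fin 2) F) ⊗ₖ ((B : Matrix (Fin 2) (Fin 2) F) ⊗ₖ (C : Matrix (Fin 2) (Fin 2) F))).submatrix
          co3.symm co3.symm := fun A B C => by
      let u : GL (Fin 3 → Fin 2) F := ⟨tens (fun i => ((![A, B, C] i : GL (Fin 2) F) : Matrix (Fin 2) (Fin 2) F)),
        tens (fun i => (((![A, B, C] i)⁻¹ : GL (Fin 2) F) : Matrix (Fin 2) (Fin 2) F)), tens_inv _,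
        mul_eq_one_comm.mp (tens_inv _)⟩
      refine ⟨u, Subgroup.subset_closure (Or.inl ⟨![A, B, C], fun x y => rfl⟩), ?_⟩
      ext x y
      show tens _ x y = _
      rw [tens_apply]
      simp [co3, Fin.prod_univ_three, mul_assoc]
    have hswap : ∃ g₁ ∈ tensorWreathStandard 2 3 F, (g₁ : Matrix _ _ F) =
        ((1 : Matrix (Fin 2) (Fin 2) F) ⊗ₖ sw F).submatrix co3.symm co3.symm := by
      have hmul : pm (Equiv.swap (1 : Fin 3) 2) * pm (Equiv.swap (1 : Fin 3) 2) =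
          (1 : Matrix (Fin 3 → Fin 2) (Fin 3 → Fin 2) F) := by
        ext x y
        rw [pm_mul, Matrix.one_apply, pm, Matrix.of_apply]
        simp [Function.comp_assoc, show (⇑(Equiv.swap (1 : Fin 3) 2) ∘ ⇑(Equiv.swap (1 : Fin 3) 2)) = id by
          funext i; simp, eq_comm]
      refine ⟨⟨_, _, hmul, hmul⟩, Subgroup.subset_closure (Or.inr ⟨Equiv.swap 1 2, fun x y => rfl⟩), ?_⟩
      ext x y
      obtain ⟨⟨a, b, c⟩, rfl⟩ := co3.surjective x
      obtain ⟨⟨a', b', c'⟩, rfl⟩ := co3.surjective y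
      have e3 : co3 (a, b, c) ∘ (Equiv.swap (1 : Fin 3) 2) = co3 (a, c, b) := by
        funext i; fin_cases i <;> simp [co3, Equiv.swap_apply_of_ne_of_ne]
      show pm (Equiv.swap (1 : Fin 3) 2) (co3 (a, b, c)) (co3 (a', b', c')) = _
      rw [pm, Matrix.of_apply, e3, Matrix.submatrix_apply, Equiv.symm_apply_apply, Equiv.symm_apply_apply,
        Matrix.kroneckerMap_apply]
      simp only [co3.injective.eq_iff, sw, Matrix.of_apply, Matrix.one_apply, Prod.swap_prod_mk, Prod.mk.injEq]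
      by_cases ha : a = a'
      · subst ha; simp
      · simp [ha, Ne.symm ha]
    obtain ⟨A, B, C, h | h⟩ := hel g hg
    · obtain ⟨g₁, hg₁, e₁⟩ := hpure A B C
      exact ⟨g₁, hg₁, by rw [e₁, hsub, h]⟩
    · obtain ⟨g₁, hg₁, e₁⟩ := hpure A B C
      obtain ⟨g₂, hg₂, e₂⟩ := hswap
      refine ⟨g₂ * g₁, mul_mem hg₂ hg₁, ?_⟩
      rw [Units.val_mul, e₁, e₂, Matrix.submatrix_mul_equiv, hsub, h]
  obtain ⟨g₀, hg₀, he⟩ := hstd
  exact ⟨_, ⟨g₀, hg₀, rfl⟩, Units.ext he⟩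

/-- Over the field with three elements a plus-type tensor product normalises a two-group. -/
theorem plus_three (hG : Alt G) (hq : Fintype.card F = 3) {e : ι ≃ Fin 2 × Fin 4} {P : GL ι F}
    {f₁ : (Fin 2 → F) → (Fin 2 → F) → F} {f₂ : (Fin 4 → F) → (Fin 4 → F) → F} (h1 : IsSymplecticForm f₁)
    (h2 : IsSymmetricForm f₂) (hplus : IsPlusTypeOn (fun v => f₂ v v) ⊤)
    (hf : IsTensorFormStructure id (gramForm G) f₁ f₂ e P) :
    ∃ R : Subgroup (GL ι F), IsSymplecticTypeGroup 2 R ∧ ActsAbsolutelyIrreducibly (matrixSet R) ∧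
      R ≤ Isom G ∧ Nat.card R = 128 ∧ Nat.card (Subgroup.center R) = 2 ∧ IsOfMinusType 3 R ∧
      tensorProductSubgroup 2 4 e P ⊓ Isom G ≤ subgroupNormalizer R := by
  classical
  obtain ⟨h3, hF⟩ := three_facts hq
  haveI : Nonempty ι := ⟨e.symm (0, 0)⟩
  obtain ⟨ε, Q, κ, hκ, hgram, hel⟩ := plus_coords hG (by rw [hq]; decide) h1 h2 hplus hf
  haveI : Fact (Nat.Prime 3) := ⟨Nat.prime_three⟩
  haveI : CharP F 3 := (CharP.charP_iff_prime_eq_zero Nat.prime_three).mpr (by exact_mod_cast h3)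
  let φ : ZMod 3 →+* F := ZMod.castHom dvd_rfl F
  have hφ : Function.Surjective φ :=
    ((Fintype.bijective_iff_injective_and_card φ).mpr ⟨φ.injective, by simp [hq]⟩).2
  have hom : (TwoGroup.qM 1).map φ = om F := by
    ext i j; fin_cases i <;> fin_cases j <;> simp [TwoGroup.qM, om]
  refine ⟨CubeGroup.group φ ε Q, CubeGroup.symplecticTypeGroup φ ε Q, CubeGroup.absIrred φ ε Q,
    CubeGroup.le_isom φ ε Q (by rw [hgram, hom]), CubeGroup.card_group φ ε Q, CubeGroup.card_centre φ ε Q,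
    CubeGroup.minusType φ ε Q, Cfsg.Agent.Lib.PrimeDim.Main.le_normalizer fun g hg r hr => ?_⟩
  obtain ⟨x, rfl⟩ := hr
  obtain ⟨s, a, b, c⟩ := x
  -- conjugation inside one factor
  have hone : ∀ (A : GL (Fin 2) F) (k : Fin 4), ∃ t k', (A : Matrix (Fin 2) (Fin 2) F) * (TwoGroup.qM k).map φ =
      (φ (TwoGroup.sgn t) • (TwoGroup.qM k').map φ) * (A : Matrix (Fin 2) (Fin 2) F) := by
    intro A k
    set M : Matrix (Fin 2) (Fin 2) F := (A : Matrix (Fin 2) (Fin 2) F)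
    obtain ⟨p00, h00⟩ := hφ (M 0 0)
    obtain ⟨p01, h01⟩ := hφ (M 0 1)
    obtain ⟨p10, h10⟩ := hφ (M 1 0)
    obtain ⟨p11, h11⟩ := hφ (M 1 1)
    have hMmap : M = (!![p00, p01; p10, p11]).map φ := by
      ext i j; fin_cases i <;> fin_cases j <;> simp [h00, h01, h10, h11]
    have hd : p00 * p11 - p01 * p10 ≠ 0 := fun h => by
      have h' := congrArg φ h
      simp only [map_sub, map_mul, map_zero, h00, h01, h10, h11] at h'
      exact ((Matrix.isUnit_iff_isUnit_det _).mp A.isUnit).ne_zero (by rw [Matrix.det_fin_two]; exact h')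
    obtain ⟨t, k', h⟩ := CubeGroup.q_conj p00 p01 p10 p11 k hd
    refine ⟨t, k', ?_⟩
    rw [hMmap, ← Matrix.map_mul, h, Matrix.map_mul]
    congr 1
    ext i j; simp
  -- a general element
  obtain ⟨y, hy⟩ : ∃ y, (g : Matrix ι ι F) * coordAlg ε Q ((CubeGroup.mat (s, a, b, c)).map φ) =
      coordAlg ε Q ((CubeGroup.mat y).map φ) * (g : Matrix ι ι F) := by
    have hmat : ∀ s a b c, (CubeGroup.mat (s, a, b, c)).map φ = φ (TwoGroup.sgn s) •
        ((TwoGroup.qM a).map φ ⊗ₖ ((TwoGroup.qM b).map φ ⊗ₖ (TwoGroup.qM c).map φ)) := fun s a b c => by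
      ext p r
      simp [CubeGroup.mat]
    have hsgn : ∀ s t u v : Bool, φ (TwoGroup.sgn (((s ^^ t) ^^ u) ^^ v)) =
        φ (TwoGroup.sgn s) * φ (TwoGroup.sgn t) * φ (TwoGroup.sgn u) * φ (TwoGroup.sgn v) := fun s t u v => by
      simp only [TwoGroup.sgn_xor, map_mul]
    obtain ⟨A, B, C, h | h⟩ := hel g hg
    all_goals
      obtain ⟨t, a', ha⟩ := hone A a
      obtain ⟨u, b', hb⟩ := hone B b
      obtain ⟨v, c', hc⟩ := hone C c
    · refine ⟨(((s ^^ t) ^^ u) ^^ v, a', b', c'), ?_⟩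
      rw [h, ← map_mul, ← map_mul, hmat, hmat, hsgn]
      congr 1
      simp only [Matrix.mul_smul, Matrix.smul_mul, ← Matrix.mul_kronecker_mul, ha, hb, hc, Matrix.smul_kronecker,
        Matrix.kronecker_smul, smul_smul]
      congr 1
      ring
    · refine ⟨(((s ^^ t) ^^ u) ^^ v, a', c', b'), ?_⟩
      rw [h, ← map_mul, ← map_mul, hmat, hmat, hsgn]
      congr 1
      have hsw : ∀ (M N R : Matrix (Fin 2) (Fin 2) F), (M ⊗ₖ (N ⊗ₖ R)) * ((1 : Matrix (Fin 2) (Fin 2) F) ⊗ₖ sw F) =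
          ((1 : Matrix (Fin 2) (Fin 2) F) ⊗ₖ sw F) * (M ⊗ₖ (R ⊗ₖ N)) := fun M N R => by
        rw [← Matrix.mul_kronecker_mul, ← Matrix.mul_kronecker_mul, kron_sw, one_mul, mul_one]
      have e1 : (A : Matrix (Fin 2) (Fin 2) F) ⊗ₖ ((B : Matrix (Fin 2) (Fin 2) F) ⊗ₖ (C : Matrix (Fin 2) (Fin 2) F)) *
          φ (TwoGroup.sgn s) • ((TwoGroup.qM a).map φ ⊗ₖ ((TwoGroup.qM b).map φ ⊗ₖ (TwoGroup.qM c).map φ)) =
          (φ (TwoGroup.sgn s) * φ (TwoGroup.sgn t) * φ (TwoGroup.sgn u) * φ (TwoGroup.sgn v)) •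
            ((TwoGroup.qM a').map φ ⊗ₖ ((TwoGroup.qM b').map φ ⊗ₖ (TwoGroup.qM c').map φ) *
            ((A : Matrix (Fin 2) (Fin 2) F) ⊗ₖ ((B : Matrix (Fin 2) (Fin 2) F) ⊗ₖ (C : Matrix (Fin 2) (Fin 2) F)))) := by
        simp only [Matrix.mul_smul, Matrix.smul_mul, ← Matrix.mul_kronecker_mul, ha, hb, hc, Matrix.smul_kronecker,
          Matrix.kronecker_smul, smul_smul]
        congr 1
        ring
      rw [mul_assoc, e1, Matrix.mul_smul, Matrix.smul_mul, ← mul_assoc, ← mul_assoc, hsw]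
  refine ⟨y, ?_⟩
  show coordGL ε Q (CubeGroup.elt φ y) = g * coordGL ε Q (CubeGroup.elt φ (s, a, b, c)) * g⁻¹
  rw [eq_mul_inv_iff_mul_eq]
  exact Units.ext (by
    rw [Units.val_mul, Units.val_mul, coordGL_val, coordGL_val]
    exact hy.symm)

end Cfsg.Agent.Lib.AschbacherSp
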