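import Cfsg.Agent.Lib.AschbacherSp.Coords
import Cfsg.Agent.Lib.Aschbacher.Components

/-!
Tensor factors of a perfect minimal normalised subgroup, with their coordinates.
-/

set_option autoImplicit false
set_option linter.style.haveILetI false
set_option linter.unusedSectionVars false

namespace Cfsg.Agent.Lib.AschbacherSp

open Cfsg.Geo Cfsg.Agent.Lib.PrimeDim.Basic Cfsg.Agent.Lib.PrimeDim.Symplectic Cfsg.Agent.Lib.PrimeDim.Main
open Cfsg.Agent.Lib.Aschbacher
open scoped Matrix MatrixGroups Kronecker commutatorElement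

variable {ι : Type} [Fintype ι] [DecidableEq ι] {F : Type*} [Field F]

/-- A group permuting the spans of commuting unit systems lies in a tensor wreath subgroup. -/
theorem le_wreathCoords [Nonempty ι] {m k : ℕ} (hm : 0 < m) (hk : 0 < k)
    {e : Fin k → Fin m → Fin m → Matrix ι ι F} (he : ∀ i, IsUnitSys (e i))
    (hc : ∀ i j, i ≠ j → ∀ a b c d, e i a b * e j c d = e j c d * e i a b)
    (hscal : ∀ M : Matrix ι ι F, (∀ i a c, M * e i a c = e i a c * M) → ∃ s : F, M = s • 1)
    {H : Subgroup (GL ι F)}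
    (hH : ∀ g ∈ H, ∃ π : Equiv.Perm (Fin k), ∀ i a c,
      (g : Matrix ι ι F) * e i a c * ((g⁻¹ : GL ι F) : Matrix ι ι F) ∈ unitSpan (e (π i))) :
    ∃ (ε : ι ≃ (Fin k → Fin m)) (P : GL ι F), H ≤ tensorWreathSubgroup m k ε P ∧
      ∀ i M, M ∈ unitSpan (e i) ↔ ∃ A, coordAlg ε P (injL i A) = M := by
  classical
  obtain ⟨E, hE, hact, -⟩ := exists_product_units e he hc
  obtain ⟨l, ε', P, hl, hco⟩ := exists_coords hE
  have hco' : ∀ x y, coordAlg ε' P (Matrix.single x y 1 ⊗ₖ (1 : Matrix (Fin l) (Fin l) F)) = E x y := by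
    intro x y
    rw [coordAlg_apply, ← hco x y]
    simp [mul_assoc]
  have hexp : ∀ i a c, e i a c = ∑ y ∈ Finset.univ.filter (fun y : Fin k → Fin m => y i = c),
      E (Function.update y i a) y := by
    intro i a c
    rw [Finset.sum_filter, ← mul_one (e i a c), ← hE.sum, Finset.mul_sum]
    exact Finset.sum_congr rfl fun y _ => hact i a c y y
  -- `l = 1`
  have hl1 : l = 1 := by
    by_contra hne
    let T : Matrix (Fin l) (Fin l) F := Matrix.single ⟨0, hl⟩ ⟨0, hl⟩ 1
    set M := coordAlg ε' P ((1 : Matrix (Fin k → Fin m) (Fin k → Fin m) F) ⊗ₖ T) with hM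
    obtain ⟨s, hs⟩ := hscal M fun i a c => by
      rw [hexp, Finset.mul_sum, Finset.sum_mul]
      refine Finset.sum_congr rfl fun y _ => ?_
      rw [← hco', hM, ← map_mul, ← map_mul, ← Matrix.mul_kronecker_mul, ← Matrix.mul_kronecker_mul,
        one_mul, mul_one, one_mul, mul_one]
    have h1 : (1 : Matrix (Fin k → Fin m) (Fin k → Fin m) F) ⊗ₖ T = s • 1 :=
      (coordAlg ε' P).injective (by rw [← hM, hs, map_smul, map_one])
    let z : Fin k → Fin m := fun _ => ⟨0, hm⟩
    have h2 := congrFun (congrFun h1 (z, ⟨0, hl⟩)) (z, ⟨0, hl⟩)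
    have h3 := congrFun (congrFun h1 (z, ⟨1, by omega⟩)) (z, ⟨1, by omega⟩)
    simp [T, Matrix.kroneckerMap_apply] at h2 h3
    simp [← h2] at h3
  subst hl1
  let ε : ι ≃ (Fin k → Fin m) := ε'.trans (Equiv.prodUnique _ _)
  have hsingle : ∀ x y, coordAlg ε P (Matrix.single x y 1) = E x y := by
    intro x y
    rw [← hco', coordAlg_apply, coordAlg_apply]
    congr 2
    ext i j
    simp [ε, Matrix.single_apply, Matrix.kroneckerMap_apply]
    rw [Subsingleton.elim (ε' i).2 (ε' j).2, Matrix.one_apply_eq]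
  have hinj : ∀ i a c, coordAlg ε P (injL i (Matrix.single a c 1)) = e i a c := by
    intro i a c
    rw [injL_single, map_sum, hexp]
    simp only [hsingle]
  have hspan : ∀ j, unitSpan (e j) ≤ Submodule.map ((coordAlg ε P).toLinearMap ∘ₗ injL j) ⊤ := by
    intro j
    refine Submodule.span_le.mpr ?_
    rintro _ ⟨ab, rfl⟩
    exact ⟨Matrix.single ab.1 ab.2 1, trivial, hinj _ _ _⟩
  have hscal' : ∀ M : Matrix (Fin k → Fin m) (Fin k → Fin m) F,
      (∀ i a c, M * injL i (Matrix.single a c 1) = injL i (Matrix.single a c 1) * M) → ∃ s : F, M = s • 1 := by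
    intro M hM
    obtain ⟨s, hs⟩ := hscal (coordAlg ε P M) fun i a c => by rw [← hinj, ← map_mul, ← map_mul, hM]
    exact ⟨s, (coordAlg ε P).injective (by rw [hs, map_smul, map_one])⟩
  refine ⟨ε, P, fun g hg => ?_, fun i M => ⟨fun hM => ?_, ?_⟩⟩
  rotate_left
  · obtain ⟨A, -, hA⟩ := hspan i hM
    exact ⟨A, hA⟩
  · rintro ⟨A, rfl⟩
    rw [Matrix.matrix_eq_sum_single A, map_sum, map_sum]
    refine sum_mem fun a _ => ?_
    rw [map_sum, map_sum]
    refine sum_mem fun c _ => ?_
    rw [show Matrix.single a c (A a c) = A a c • Matrix.single a c 1 by simp, map_smul, map_smul, hinj]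
    exact Submodule.smul_mem _ _ (Submodule.subset_span ⟨(a, c), rfl⟩)
  obtain ⟨π, hπ⟩ := hH g hg
  set G := (coordGL ε P).symm g with hG
  let Q : GL (Fin k → Fin m) F :=
    ⟨pm π.symm, pm π, by simpa using pm_mul_pm_symm (F := F) (m := m) π.symm, pm_mul_pm_symm π⟩
  set G2 := G * Q with hG2
  have hnorm : ∀ i a c, ∃ M,
      (G2 : Matrix (Fin k → Fin m) (Fin k → Fin m) F) * injL i (Matrix.single a c 1) *
        ((G2⁻¹ : GL (Fin k → Fin m) F) : Matrix (Fin k → Fin m) (Fin k → Fin m) F) = injL i M := by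
    intro i a c
    have h1 : (Q : Matrix (Fin k → Fin m) (Fin k → Fin m) F) * injL i (Matrix.single a c 1) *
        ((Q⁻¹ : GL (Fin k → Fin m) F) : Matrix (Fin k → Fin m) (Fin k → Fin m) F) =
        injL (π.symm i) (Matrix.single a c 1) := by
      show pm π.symm * _ * pm π = _
      rw [pm_injL, mul_assoc]
      conv_lhs => arg 2; rw [show (pm π.symm : Matrix (Fin k → Fin m) (Fin k → Fin m) F) * pm π = 1 by
        simpa using pm_mul_pm_symm (F := F) (m := m) π.symm]
      rw [mul_one]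
    obtain ⟨M, -, hM⟩ := hspan _ (hπ (π.symm i) a c)
    rw [Equiv.apply_symm_apply] at hM
    refine ⟨M, ?_⟩
    rw [hG2, mul_inv_rev, Units.val_mul, Units.val_mul]
    calc _ = (G : Matrix (Fin k → Fin m) (Fin k → Fin m) F) *
          ((Q : Matrix (Fin k → Fin m) (Fin k → Fin m) F) * injL i (Matrix.single a c 1) *
            ((Q⁻¹ : GL (Fin k → Fin m) F) : Matrix (Fin k → Fin m) (Fin k → Fin m) F)) *
          ((G⁻¹ : GL (Fin k → Fin m) F) : Matrix (Fin k → Fin m) (Fin k → Fin m) F) := by simp [mul_assoc]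
      _ = injL i M := by
        rw [h1]
        refine (coordAlg ε P).injective ?_
        rw [hG, coordGL_symm_conj, hinj]
        exact hM.symm
  choose U hU using hnorm
  have hA : ∀ i, ∃ A : GL (Fin m) F, ∀ a c,
      (A : Matrix (Fin m) (Fin m) F) * Matrix.single a c 1 = U i a c * (A : Matrix (Fin m) (Fin m) F) := by
    intro i
    refine exists_conj_units hm (U i) (fun a b c d => injL_injective hm i ?_) (injL_injective hm i ?_)
    · rw [injL_mul, ← hU, ← hU]
      calc _ = (G2 : Matrix (Fin k → Fin m) (Fin k → Fin m) F) *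
            (injL i (Matrix.single a b 1) * injL i (Matrix.single c d 1)) *
            ((G2⁻¹ : GL (Fin k → Fin m) F) : Matrix (Fin k → Fin m) (Fin k → Fin m) F) := by simp [mul_assoc]
        _ = _ := by
          rw [← injL_mul]
          split_ifs with h
          · subst h; rw [Matrix.single_mul_single_same, mul_one, hU]
          · rw [Matrix.single_mul_single_of_ne _ _ _ _ h, map_zero, mul_zero, zero_mul]
    · rw [map_sum]
      simp only [← hU]
      rw [← Finset.sum_mul, ← Finset.mul_sum, ← map_sum, Matrix.sum_single_eq_diagonal, Matrix.diagonal_one,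
        injL_one, mul_one, Units.mul_inv]
  choose A hA using hA
  have htens : ∀ C D : Fin k → GL (Fin m) F, (∀ i, C i * D i = 1) →
      tens (fun i => (C i : Matrix (Fin m) (Fin m) F)) * tens (fun i => (D i : Matrix (Fin m) (Fin m) F)) = 1 := by
    intro C D h
    rw [tens_mul, ← tens_one]
    congr 1
    funext i
    rw [← Units.val_mul, h, Units.val_one]
  set T' := tens (fun i => ((A i)⁻¹ : GL (Fin m) F).1) with hT'
  obtain ⟨s, hs⟩ := hscal' (T' * (G2 : Matrix (Fin k → Fin m) (Fin k → Fin m) F)) fun i a c => by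
    have h1 : (G2 : Matrix (Fin k → Fin m) (Fin k → Fin m) F) * injL i (Matrix.single a c 1) =
        injL i (U i a c) * (G2 : Matrix (Fin k → Fin m) (Fin k → Fin m) F) := by
      rw [← hU, Units.inv_mul_cancel_right]
    rw [mul_assoc, h1, ← mul_assoc, ← mul_assoc]
    congr 1
    rw [hT', injL_apply, injL_apply, tens_mul, tens_mul]
    congr 1
    funext j
    rcases eq_or_ne j i with rfl | h
    · simp only [Function.update_self]
      have h2 := hA j a c
      calc ((A j)⁻¹ : GL (Fin m) F).1 * U j a c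
          = ((A j)⁻¹ : GL (Fin m) F).1 * (U j a c * (A j : Matrix (Fin m) (Fin m) F)) *
              ((A j)⁻¹ : GL (Fin m) F).1 := by simp [mul_assoc]
        _ = _ := by rw [← h2, Units.inv_mul_cancel_left]
    · simp [Function.update_of_ne h]
  have hs0 : s ≠ 0 := by
    rintro rfl
    rw [zero_smul] at hs
    have h1 : (G2 : Matrix (Fin k → Fin m) (Fin k → Fin m) F) = 0 := by
      rw [← one_mul (G2 : Matrix (Fin k → Fin m) (Fin k → Fin m) F), ← htens A (fun i => (A i)⁻¹) (fun i => mul_inv_cancel _),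
        mul_assoc, ← hT', hs, mul_zero]
    haveI : Nonempty (Fin k → Fin m) := ⟨fun _ => ⟨0, hm⟩⟩
    exact G2.ne_zero h1
  let i₀ : Fin k := ⟨0, hk⟩
  let S : GL (Fin m) F := Units.map (Matrix.scalar (Fin m) : F →+* Matrix (Fin m) (Fin m) F).toMonoidHom (Units.mk0 s hs0)
  let A' : Fin k → GL (Fin m) F := Function.update A i₀ (A i₀ * S)
  have hpure : IsPureTensor m k G2 := by
    refine ⟨A', fun x y => ?_⟩
    have h1 : (G2 : Matrix (Fin k → Fin m) (Fin k → Fin m) F) = s • tens (fun i => (A i : Matrix (Fin m) (Fin m) F)) := by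
      rw [← one_mul (G2 : Matrix (Fin k → Fin m) (Fin k → Fin m) F), ← htens A (fun i => (A i)⁻¹) (fun i => mul_inv_cancel _),
        mul_assoc, ← hT', hs, Matrix.mul_smul, mul_one]
    have h2 : (fun i => (A' i : Matrix (Fin m) (Fin m) F)) =
        Function.update (fun i => (A i : Matrix (Fin m) (Fin m) F)) i₀ (s • (A i₀ : Matrix (Fin m) (Fin m) F)) := by
      funext i
      rcases eq_or_ne i i₀ with rfl | h
      · rw [Function.update_self]
        simp [A', S, ← Matrix.smul_one_eq_diagonal]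
      · simp [A', Function.update_of_ne h]
    show _ = tens (fun i => (A' i : Matrix (Fin m) (Fin m) F)) x y
    rw [h1, h2, tens_update, Matrix.smul_apply, Matrix.smul_apply, tens_apply,
      ← Finset.mul_prod_erase _ _ (Finset.mem_univ i₀), smul_eq_mul, smul_eq_mul, mul_assoc]
  have hperm : IsFactorPermutation m k Q⁻¹ := ⟨π, fun x y => rfl⟩
  refine ⟨glReindex ε.symm G, ⟨G, ?_, rfl⟩, ?_⟩
  · rw [show G = G2 * Q⁻¹ by rw [hG2, mul_inv_cancel_right]]
    exact mul_mem (Subgroup.subset_closure (Or.inl hpure)) (Subgroup.subset_closure (Or.inr hperm))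
  · show coordGL ε P G = g
    rw [hG, MulEquiv.apply_symm_apply]

variable [Fintype F]

set_option maxHeartbeats 1600000 in
/-- A perfect minimal normalised subgroup is simple modulo scalars, or gives a tensor wreath structure. -/
theorem perfect_cases_sp [Nonempty ι] {H N : Subgroup (GL ι F)} (hNn : NormalizedBy H N)
    (hNs : ¬ N ≤ scalars ι F) (habs : ActsAbsolutelyIrreducibly (matrixSet N)) (hperf : ⁅N, N⁆ = N)
    (hmin : ∀ M : Subgroup (GL ι F), M ≤ N → NormalizedBy H M → M ≤ scalars ι F ∨ M = N) :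
    (IsSimpleGroup (N ⧸ (scalars ι F).subgroupOf N) ∧ ¬ IsMulCommutative (N ⧸ (scalars ι F).subgroupOf N)) ∨
    (∃ (m k : ℕ) (ε : ι ≃ (Fin k → Fin m)) (P : GL ι F) (T : Fin k → Subgroup (GL ι F)), 2 ≤ m ∧ 2 ≤ k ∧
      H ≤ tensorWreathSubgroup m k ε P ∧ (∀ i, T i ≤ N ∧ ⁅T i, T i⁆ = T i ∧ ¬ T i ≤ scalars ι F) ∧
      (∀ i M, M ∈ algOf (T i) ↔ ∃ A, coordAlg ε P (injL i A) = M) ∧
      ∀ i j, ∃ g ∈ H, ∀ x ∈ T i, g * x * g⁻¹ ∈ T j) := by
  classical
  have hZc : ∀ z ∈ scalars ι F, ∀ x : GL ι F, z * x = x * z := fun z hz x => scalar_comm hz x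
  have hNN : NormalizedBy N N := fun a ha x hx => mul_mem (mul_mem ha hx) (inv_mem ha)
  obtain ⟨S, ⟨hSN, hSn, hSs⟩, hSmin⟩ := WellFounded.has_min (wellFounded_lt (α := Subgroup (GL ι F)))
    {S | S ≤ N ∧ NormalizedBy N S ∧ ¬ S ≤ scalars ι F} ⟨N, le_rfl, hNN, hNs⟩
  have hSmin' : ∀ M : Subgroup (GL ι F), M ≤ S → NormalizedBy N M → M ≤ scalars ι F ∨ M = S := by
    intro M hM hMn
    by_contra! hc
    exact hSmin M ⟨hM.trans hSN, hMn, hc.1⟩ (lt_of_le_of_ne hM hc.2)
  by_cases hSeq : S = N
  · subst hSeq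
    left
    refine ⟨?_, ?_⟩
    · haveI : Nontrivial (S ⧸ (scalars ι F).subgroupOf S) := by
        obtain ⟨x, hx, hxs⟩ := Set.not_subset.mp (hNs : ¬ (S : Set (GL ι F)) ⊆ scalars ι F)
        exact ⟨⟨(⟨x, hx⟩ : S), 1, fun h => hxs (by simpa [QuotientGroup.eq_one_iff, Subgroup.mem_subgroupOf] using h)⟩⟩
      constructor
      intro M hM
      let M' := M.comap (QuotientGroup.mk' ((scalars ι F).subgroupOf S))
      have hM'n : M'.Normal := Subgroup.Normal.comap hM _
      have hnorm : NormalizedBy S (M'.map S.subtype) := by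
        rintro a ha _ ⟨x, hx, rfl⟩
        exact ⟨⟨a, ha⟩ * x * (⟨a, ha⟩ : S)⁻¹, hM'n.conj_mem x hx _, rfl⟩
      rcases hSmin' (M'.map S.subtype) (Subgroup.map_subtype_le M') hnorm with h1 | h1
      · left
        rw [eq_bot_iff]
        intro q hq
        obtain ⟨x, rfl⟩ := QuotientGroup.mk'_surjective _ q
        rw [Subgroup.mem_bot]
        exact (QuotientGroup.eq_one_iff x).mpr (h1 ⟨x, hq, rfl⟩)
      · right
        rw [eq_top_iff]
        intro q _
        obtain ⟨x, rfl⟩ := QuotientGroup.mk'_surjective _ q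
        have : (x : GL ι F) ∈ M'.map S.subtype := h1.symm ▸ x.2
        obtain ⟨y, hy, hyx⟩ := this
        exact (Subtype.ext hyx : y = x) ▸ hy
    · intro hcomm
      apply hNs
      conv_lhs => rw [← hperf]
      rw [Subgroup.commutator_le]
      intro a ha b hb
      have h1 : QuotientGroup.mk' ((scalars ι F).subgroupOf S) ⁅(⟨a, ha⟩ : S), ⟨b, hb⟩⁆ = 1 := by
        rw [map_commutatorElement, commutatorElement_eq_one_iff_mul_comm]
        exact hcomm.is_comm.comm _ _
      exact (QuotientGroup.eq_one_iff (N := (scalars ι F).subgroupOf S) _).mp h1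
  right
  -- conjugates
  let C : H → Subgroup (GL ι F) := fun h => S.map (MulAut.conj (h : GL ι F)).toMonoidHom
  have hmemC : ∀ (h : H) x, x ∈ C h ↔ (h : GL ι F)⁻¹ * x * h ∈ S := by
    intro h x
    constructor
    · rintro ⟨s, hs, rfl⟩
      simpa [mul_assoc] using hs
    · intro hs
      exact ⟨_, hs, by simp [mul_assoc]⟩
  have hCN : ∀ h, C h ≤ N := by
    intro h x hx
    simpa [mul_assoc] using hNn _ h.2 _ (hSN ((hmemC h x).mp hx))
  have hCn : ∀ h, NormalizedBy N (C h) := by
    intro h a ha x hx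
    rw [hmemC] at hx ⊢
    have := hSn _ (by simpa using hNn _ (inv_mem h.2) a ha) _ hx
    simpa [mul_assoc] using this
  have hCs : ∀ h, ¬ C h ≤ scalars ι F := by
    intro h hle
    apply hSs
    intro s hs
    have h1 : (h : GL ι F) * s * (h : GL ι F)⁻¹ ∈ scalars ι F :=
      hle ((hmemC h _).mpr (by simpa [mul_assoc] using hs))
    have h2 := hZc _ h1 (h : GL ι F)
    have h3 : (h : GL ι F) * s * (h : GL ι F)⁻¹ = s := by
      calc (h : GL ι F) * s * (h : GL ι F)⁻¹
          = (h : GL ι F)⁻¹ * ((h : GL ι F) * ((h : GL ι F) * s * (h : GL ι F)⁻¹)) := by group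
        _ = s := by rw [← h2]; group
    rwa [h3] at h1
  have hCgen : ⨆ h, C h = N := by
    have hnorm : NormalizedBy H (⨆ h, C h) := by
      intro g hg x hx
      have hle : (⨆ h, C h).map (MulAut.conj g).toMonoidHom ≤ ⨆ h, C h := by
        rw [Subgroup.map_iSup]
        refine iSup_le fun h => le_trans ?_ (le_iSup C (⟨g, hg⟩ * h))
        rintro _ ⟨y, hy, rfl⟩
        rw [hmemC]
        simpa [mul_assoc] using (hmemC h y).mp hy
      exact hle ⟨x, hx, by simp⟩
    rcases hmin (⨆ h, C h) (iSup_le hCN) hnorm with h | h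
    · exact absurd ((le_iSup C 1).trans h) (hCs 1)
    · exact h
  have hCmin : ∀ (h : H) (M : Subgroup (GL ι F)), M ≤ C h → NormalizedBy N M → M ≤ scalars ι F ∨ M = C h := by
    intro h M hM hMn
    have hn1 : M.map (MulAut.conj (h : GL ι F)⁻¹).toMonoidHom ≤ S := by
      rintro _ ⟨x, hx, rfl⟩
      simpa using (hmemC h x).mp (hM hx)
    have hn2 : NormalizedBy N (M.map (MulAut.conj (h : GL ι F)⁻¹).toMonoidHom) := by
      rintro a ha _ ⟨x, hx, rfl⟩
      refine ⟨(h : GL ι F) * a * (h : GL ι F)⁻¹ * x * ((h : GL ι F) * a * (h : GL ι F)⁻¹)⁻¹,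
        hMn _ (hNn _ h.2 a ha) x hx, ?_⟩
      simp [mul_assoc]
    rcases hSmin' (M.map (MulAut.conj (h : GL ι F)⁻¹).toMonoidHom) hn1 hn2 with h1 | h1
    · left
      intro x hx
      have h2 := h1 ⟨x, hx, rfl⟩
      have h3 := hZc _ h2 (h : GL ι F)⁻¹
      simp only [MulEquiv.coe_toMonoidHom, MulAut.conj_apply, inv_inv] at h2 h3
      have h4 : (h : GL ι F)⁻¹ * x * (h : GL ι F) = x := by
        calc (h : GL ι F)⁻¹ * x * (h : GL ι F)
            = (h : GL ι F) * ((h : GL ι F)⁻¹ * ((h : GL ι F)⁻¹ * x * (h : GL ι F))) := by group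
          _ = x := by rw [← h3]; group
      rwa [h4] at h2
    · right
      refine le_antisymm hM fun x hx => ?_
      rw [hmemC, ← h1] at hx
      obtain ⟨y, hy, hyx⟩ := hx
      have : y = x := by simpa [mul_assoc] using hyx
      exact this ▸ hy
  have hinter : ∀ h k, C h ≠ C k → C h ⊓ C k ≤ scalars ι F := by
    intro h k hhk
    rcases hCmin h (C h ⊓ C k) inf_le_left (fun a ha x hx => ⟨hCn h a ha x hx.1, hCn k a ha x hx.2⟩) with h1 | h1
    · exact h1
    · exfalso
      apply hhk
      refine SetLike.coe_injective (Set.eq_of_subset_of_ncard_le (fun x hx => ((h1.symm ▸ hx : x ∈ C h ⊓ C k)).2) ?_)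
      rw [← Nat.card_coe_set_eq, ← Nat.card_coe_set_eq]
      exact le_of_eq ((Subgroup.card_map_of_injective (MulEquiv.injective _)).trans
        (Subgroup.card_map_of_injective (MulEquiv.injective _)).symm)
  obtain ⟨h₁, hh₁⟩ : ∃ h, C h ≠ C 1 := by
    by_contra! hall
    apply hSeq
    rw [← hCgen, iSup_congr hall, iSup_const]
    ext x
    rw [hmemC]
    simp
  have hSperf : ⁅S, S⁆ = S := by
    rcases hSmin' ⁅S, S⁆ (Subgroup.commutator_le_self S) (fun a ha => commutator_map_le (hSn a ha)) with hab | h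
    · exfalso
      apply hNs
      rw [← hperf]
      set π := QuotientGroup.mk' (scalars ι F) with hπ
      have hker : ∀ A B : Subgroup (GL ι F), ⁅A, B⁆ ≤ scalars ι F ↔ ∀ a ∈ A, ∀ b ∈ B, π a * π b = π b * π a := by
        intro A B
        rw [Subgroup.commutator_le]
        refine forall₂_congr fun a _ => forall₂_congr fun b _ => ?_
        rw [← QuotientGroup.eq_one_iff]
        show π ⁅a, b⁆ = 1 ↔ _
        rw [map_commutatorElement, commutatorElement_eq_one_iff_mul_comm]
      have hpair : ∀ h k, ⁅C h, C k⁆ ≤ scalars ι F := by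
        intro h k
        by_cases hhk : C h = C k
        · rw [← hhk, ← Subgroup.map_commutator]
          rintro _ ⟨x, hx, rfl⟩
          rw [show (MulAut.conj (h : GL ι F)).toMonoidHom x = x from by
            simp [← hZc x (hab hx) (h : GL ι F), mul_assoc]]
          exact hab hx
        · refine le_trans ?_ (hinter h k hhk)
          rw [Subgroup.commutator_le]
          intro a ha b hb
          refine ⟨?_, ?_⟩
          · have := mul_mem ha (hCn h b (hCN k hb) _ (inv_mem ha))
            simpa [commutatorElement_def, mul_assoc] using this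
          · have := mul_mem (hCn k a (hCN h ha) b hb) (inv_mem hb)
            simpa [commutatorElement_def, mul_assoc] using this
      rw [hker]
      intro a ha b hb
      have h1 : ∀ k, C k ≤ (Subgroup.centralizer (π '' (N : Set (GL ι F)))).comap π := by
        intro k
        have h2 : N ≤ (Subgroup.centralizer (π '' (C k : Set (GL ι F)))).comap π := by
          rw [← hCgen]
          refine iSup_le fun j x hx => ?_
          rw [Subgroup.mem_comap, Subgroup.mem_centralizer_iff]
          rintro _ ⟨y, hy, rfl⟩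
          exact (hker _ _).mp (hpair k j) y hy x hx
        intro x hx
        rw [Subgroup.mem_comap, Subgroup.mem_centralizer_iff]
        rintro _ ⟨y, hy, rfl⟩
        exact (Subgroup.mem_centralizer_iff.mp (h2 hy) _ ⟨x, hx, rfl⟩).symm
      have h3 : a ∈ (Subgroup.centralizer (π '' (N : Set (GL ι F)))).comap π := by
        rw [← hCgen] at ha
        exact (iSup_le h1) ha
      exact (Subgroup.mem_centralizer_iff.mp h3 _ ⟨b, hb, rfl⟩).symm
    · exact h
  have hcs : ∀ h k, C h ≠ C k → ∀ b ∈ C k, ∀ x ∈ C h, b * x = x * b := by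
    intro h k hhk b hb
    refine perfect_centralizes (P := C h) (by rw [← Subgroup.map_commutator, hSperf]) hZc fun x hx => ?_
    refine hinter h k hhk (Subgroup.mem_inf.mpr
      ⟨mul_mem (hCn h b (hCN k hb) x hx) (inv_mem hx), ?_⟩)
    have := mul_mem hb (hCn k x (hCN h hx) b⁻¹ ((C k).inv_mem hb))
    simpa [mul_assoc] using this
  -- the distinct conjugates
  let 𝒞 := Set.range C
  haveI : Fintype 𝒞 := Fintype.ofFinite _
  set k := Fintype.card 𝒞 with hk
  let en : Fin k ≃ 𝒞 := (Fintype.equivFin 𝒞).symm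
  have hk2 : 2 ≤ k := by
    show 2 ≤ Fintype.card 𝒞
    exact Fintype.one_lt_card_iff.mpr ⟨⟨C 1, 1, rfl⟩, ⟨C h₁, h₁, rfl⟩, fun h => hh₁ (congrArg Subtype.val h).symm⟩
  choose hi hhi using fun i => (en i).2
  let T : Fin k → Subgroup (GL ι F) := fun i => C (hi i)
  have hTne : ∀ i j, i ≠ j → T i ≠ T j := fun i j hij h =>
    hij (en.injective (Subtype.ext (by rw [← hhi i, ← hhi j]; exact h)))
  have hirrN : Irred N := irred_iff.mp habs.1
  have hgenT : ∀ (M : Matrix ι ι F), (∀ i, ∀ x ∈ T i, (x : Matrix ι ι F) * M = M * (x : Matrix ι ι F)) →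
      ∀ x ∈ N, (x : Matrix ι ι F) * M = M * (x : Matrix ι ι F) := by
    intro M hM x hx
    rw [← hCgen] at hx
    refine Subgroup.iSup_induction C (C := fun x => (x : Matrix ι ι F) * M = M * (x : Matrix ι ι F)) hx ?_ ?_ ?_
    · intro h y hy
      refine hM (en.symm ⟨C h, h, rfl⟩) y ?_
      show y ∈ C (hi _)
      rw [hhi, Equiv.apply_symm_apply]
      exact hy
    · simp
    · intro a b ha hb
      rw [Units.val_mul, mul_assoc, hb, ← mul_assoc, ha, mul_assoc]
  have hcentre : CentreScalar S := by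
    intro z hz
    obtain ⟨hz1, hz2⟩ := mem_centre.mp hz
    have hzN : ∀ x ∈ N, (x : Matrix ι ι F) * z = z * (x : Matrix ι ι F) := by
      have hS1 : C 1 = S := by ext x; rw [hmemC]; simp
      intro x hx
      rw [← hCgen] at hx
      refine Subgroup.iSup_induction C (C := fun x => (x : Matrix ι ι F) * z = z * (x : Matrix ι ι F)) hx ?_ ?_ ?_
      · intro h y hy
        by_cases hh : C h = C 1
        · exact mem_commutant.mp hz1 y (by rw [← hS1, ← hh]; exact hy)
        · refine hz2 _ (mem_commutant.mpr fun s hs => ?_)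
          exact congrArg Units.val (hcs 1 h (Ne.symm hh) y hy s (by rw [hS1]; exact hs)).symm
      · simp
      · intro a b ha hb
        rw [Units.val_mul, mul_assoc, hb, ← mul_assoc, ha, mul_assoc]
    obtain ⟨c, hc⟩ := habs.2 z fun s hs => by
      obtain ⟨x, hx, rfl⟩ := mem_matrixSet.mp hs
      exact (hzN x hx).symm
    exact ⟨c, hc⟩
  rcases exists_unitSys hirrN hSn hcentre with h | ⟨m, e₀, hm2, he₀, he₀mem, he₀span⟩
  · exact absurd h hSs
  let e : Fin k → Fin m → Fin m → Matrix ι ι F := fun i a b =>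
    ((hi i : GL ι F) : Matrix ι ι F) * e₀ a b * (((hi i : GL ι F)⁻¹ : GL ι F) : Matrix ι ι F)
  have hemem : ∀ i a b, e i a b ∈ algOf (T i) := fun i a b =>
    conj_mem_algOf (fun x hx => (hmemC _ _).mpr (by simpa [mul_assoc] using hx)) (he₀mem a b)
  have hespan : ∀ i, ∀ x ∈ algOf (T i), x ∈ unitSpan (e i) := by
    intro i x hx
    have h1 : (((hi i : GL ι F)⁻¹ : GL ι F) : Matrix ι ι F) * x * ((hi i : GL ι F) : Matrix ι ι F) ∈ algOf S := by
      have := conj_mem_algOf (g := (hi i : GL ι F)⁻¹) (T := S)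
        (fun y hy => by rw [inv_inv]; exact (hmemC (hi i) y).mp hy) hx
      rwa [inv_inv] at this
    have h2 := he₀span _ h1
    let L : Matrix ι ι F →ₗ[F] Matrix ι ι F :=
      (LinearMap.mulLeft F ((hi i : GL ι F) : Matrix ι ι F)).comp
        (LinearMap.mulRight F (((hi i : GL ι F)⁻¹ : GL ι F) : Matrix ι ι F))
    have h3 := Submodule.mem_map_of_mem (f := L) h2
    rw [Submodule.map_span, ← Set.range_comp] at h3
    have hLe : (L ∘ fun ab : Fin m × Fin m => e₀ ab.1 ab.2) = fun ab => e i ab.1 ab.2 := by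
      funext ab; simp [L, e, mul_assoc]
    rw [hLe] at h3
    simpa [L, mul_assoc] using! h3
  have hunits : ∀ i, IsUnitSys (e i) := by
    intro i
    refine ⟨fun a b c d => ?_, ?_⟩
    · calc e i a b * e i c d = ((hi i : GL ι F) : Matrix ι ι F) * (e₀ a b * e₀ c d) *
            (((hi i : GL ι F)⁻¹ : GL ι F) : Matrix ι ι F) := by simp [e, mul_assoc]
        _ = _ := by rw [he₀.mul]; split_ifs <;> simp [e]
    · simp only [e, ← Finset.sum_mul, ← Finset.mul_sum, he₀.sum, mul_one, Units.mul_inv]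
  have hce : ∀ i j, i ≠ j → ∀ a b c d, e i a b * e j c d = e j c d * e i a b := by
    intro i j hij a b c d
    refine commute_algOf (N := T j) (fun y hy => ?_) (hemem j c d)
    exact (commute_algOf (N := T i) (M := (y : Matrix ι ι F))
      (fun x hx => congrArg Units.val (hcs (hi i) (hi j) (hTne i j hij) y hy x hx).symm) (hemem i a b))
  have hscal : ∀ M : Matrix ι ι F, (∀ i a c, M * e i a c = e i a c * M) → ∃ s : F, M = s • 1 := by
    intro M hM
    refine habs.2 M fun s hs => ?_
    obtain ⟨x, hx, rfl⟩ := mem_matrixSet.mp hs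
    refine (hgenT M (fun i y hy => ?_) x hx).symm
    have h1 := hespan i _ (Algebra.subset_adjoin (mem_matrixSet.mpr ⟨y, hy, rfl⟩) : (y : Matrix ι ι F) ∈ algOf (T i))
    refine Submodule.span_induction (p := fun t _ => t * M = M * t) ?_ (by simp)
      (fun u v _ _ hu hv => by rw [add_mul, mul_add, hu, hv])
      (fun c u _ hu => by rw [Matrix.smul_mul, Matrix.mul_smul, hu]) h1
    rintro _ ⟨ab, rfl⟩
    exact (hM i _ _).symm
  suffices hH : ∀ g ∈ H, ∃ π : Equiv.Perm (Fin k), ∀ i a c,
      (g : Matrix ι ι F) * e i a c * ((g⁻¹ : GL ι F) : Matrix ι ι F) ∈ unitSpan (e (π i)) by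
    obtain ⟨ε, P, hle, hiff⟩ := le_wreathCoords (H := H) (by omega : 0 < m) (by omega : 0 < k) hunits hce hscal hH
    refine ⟨m, k, ε, P, T, hm2, hk2, hle, fun i => ⟨hCN _, ?_, hCs _⟩, fun i M => ?_, fun i j => ?_⟩
    · show ⁅S.map _, S.map _⁆ = S.map _
      rw [← Subgroup.map_commutator, hSperf]
    · rw [← hiff i M]
      exact ⟨hespan i M, fun hM => (Submodule.span_le (p := Subalgebra.toSubmodule (algOf (T i)))).mpr
        (by rintro _ ⟨ab, rfl⟩; exact hemem _ _ _) hM⟩
    · refine ⟨(hi j : GL ι F) * (hi i : GL ι F)⁻¹, mul_mem (hi j).2 (inv_mem (hi i).2), fun x hx => ?_⟩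
      rw [hmemC] at hx ⊢
      simpa [mul_assoc] using hx
  intro g hg
  let π : Fin k → Fin k := fun i => en.symm ⟨C (⟨g, hg⟩ * hi i), _, rfl⟩
  have hTπ : ∀ i, T (π i) = C (⟨g, hg⟩ * hi i) := fun i => by
    show C (hi _) = _
    rw [hhi, Equiv.apply_symm_apply]
  have hπ : Function.Injective π := by
    intro i j hij
    by_contra hne
    apply hTne i j hne
    have h1 : C (⟨g, hg⟩ * hi i) = C (⟨g, hg⟩ * hi j) := by rw [← hTπ, ← hTπ, hij]
    ext x
    have h2 := SetLike.ext_iff.mp h1 (g * x * g⁻¹)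
    simpa [T, hmemC, mul_assoc] using h2
  refine ⟨Equiv.ofBijective π (Finite.injective_iff_bijective.mp hπ), fun i a c => ?_⟩
  refine hespan (π i) _ (conj_mem_algOf (fun x hx => ?_) (hemem i a c))
  rw [hTπ, hmemC]
  simpa [T, hmemC, mul_assoc] using hx

end Cfsg.Agent.Lib.AschbacherSp
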