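import Cfsg.Agent.Lib.AschbacherSp.Outcome

/-!
The centre of the commutant of a normalised subgroup of an irreducible group of isometries: scalar, or a geometric
structure.
-/

set_option autoImplicit false
set_option linter.style.haveILetI false
set_option linter.unusedSectionVars false

namespace Cfsg.Agent.Lib.AschbacherSp

open Cfsg.Geo Cfsg.Agent.Lib.PrimeDim.Basic Cfsg.Agent.Lib.Aschbacher
open scoped Matrix MatrixGroups

variable {ι : Type} [Fintype ι] [DecidableEq ι] {F : Type*} [Field F] [Fintype F]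

/-- The range of an idempotent. -/
abbrev rng (e : Matrix ι ι F) : Submodule F (ι → F) := LinearMap.range (Matrix.toLin' e)

theorem rng_fix {e : Matrix ι ι F} (he : e * e = e) {v : ι → F} (hv : v ∈ rng e) : e *ᵥ v = v := by
  obtain ⟨w, rfl⟩ := hv
  rw [Matrix.toLin'_apply, Matrix.mulVec_mulVec, he]

theorem rng_kill {e e' : Matrix ι ι F} (he : e * e' = 0) {v : ι → F} (hv : v ∈ rng e') : e *ᵥ v = 0 := by
  obtain ⟨w, rfl⟩ := hv
  rw [Matrix.toLin'_apply, Matrix.mulVec_mulVec, he, Matrix.zero_mulVec]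

theorem translate_rng (g : GL ι F) (e : Matrix ι ι F) :
    translate g (rng e) = rng ((g : Matrix ι ι F) * e * ((g⁻¹ : GL ι F) : Matrix ι ι F)) := by
  refine le_antisymm ?_ ?_
  · rintro _ ⟨_, ⟨w, rfl⟩, rfl⟩
    refine ⟨(g : Matrix ι ι F) *ᵥ w, ?_⟩
    simp only [Matrix.toLin'_apply, ← Matrix.mulVec_mulVec, inv_mulVec_cancel]
  · rintro _ ⟨w, rfl⟩
    refine ⟨_, ⟨((g⁻¹ : GL ι F) : Matrix ι ι F) *ᵥ w, rfl⟩, ?_⟩
    simp only [Matrix.toLin'_apply, ← Matrix.mulVec_mulVec]

/-- Orthogonal idempotents summing to one give a decomposition. -/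
theorem mdec_of_idem {t m : ℕ} (ht : 2 ≤ t) (hm : 0 < m) {E : Fin t → Matrix ι ι F}
    (hidem : ∀ i, E i * E i = E i) (horth : ∀ i j, i ≠ j → E i * E j = 0) (hsum : ∑ i, E i = 1)
    (hrk : ∀ i, Module.finrank F (rng (E i)) = m) : IsMDecomposition m (fun i => rng (E i)) where
  two_le := ht
  pos := hm
  finrank_eq := hrk
  indep := by
    rw [iSupIndep_def]
    intro i
    rw [Submodule.disjoint_def]
    intro v hv hv'
    rw [iSup_subtype'] at hv'
    have hz : E i *ᵥ v = 0 := by
      refine Submodule.iSup_induction _ (motive := fun w => E i *ᵥ w = 0) hv' ?_ ?_ ?_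
      · intro j w hw
        exact rng_kill (horth i j.1 (Ne.symm j.2)) hw
      · simp
      · intro a b ha hb
        rw [Matrix.mulVec_add, ha, hb, add_zero]
    rw [← rng_fix (hidem i) hv, hz]
  iSup_eq_top := by
    rw [eq_top_iff]
    intro v _
    rw [← Matrix.one_mulVec v, ← hsum, Matrix.sum_mulVec]
    exact sum_mem fun i _ => Submodule.mem_iSup_of_mem i ⟨v, Matrix.toLin'_apply _ _⟩

variable {G : Matrix ι ι F} (hG : Alt G)
include hG

/-- A transitively permuted system of self-adjoint idempotents. -/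
theorem of_selfadj_idem {H : Subgroup (GL ι F)} {P : Finset (Matrix ι ι F)} (hP : 2 ≤ P.card)
    (hidem : ∀ e ∈ P, e * e = e) (horth : ∀ e ∈ P, ∀ e' ∈ P, e ≠ e' → e * e' = 0) (hsum : ∑ e ∈ P, e = 1)
    (h0 : ∀ e ∈ P, e ≠ 0) (hadj : ∀ e ∈ P, adj G e = e)
    (hconj : ∀ h ∈ H, ∀ e ∈ P, (h : Matrix ι ι F) * e * ((h⁻¹ : GL ι F) : Matrix ι ι F) ∈ P)
    (htr : ∀ e ∈ P, ∀ e' ∈ P, ∃ h ∈ H, (h : Matrix ι ι F) * e * ((h⁻¹ : GL ι F) : Matrix ι ι F) = e') :
    InGeometric G H := by
  classical
  set t := P.card with ht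
  let en : Fin t ≃ P := P.equivFin.symm
  let E : Fin t → Matrix ι ι F := fun i => (en i : Matrix ι ι F)
  have hEP : ∀ i, E i ∈ P := fun i => (en i).2
  have hEinj : Function.Injective E := fun a b h => en.injective (Subtype.ext h)
  have hi : ∀ i, E i * E i = E i := fun i => hidem _ (hEP i)
  have ho : ∀ i j, i ≠ j → E i * E j = 0 := fun i j h => horth _ (hEP i) _ (hEP j) fun e => h (hEinj e)
  haveI : Nonempty (Fin t) := ⟨⟨0, by omega⟩⟩
  let i₀ : Fin t := Classical.arbitrary _
  have hfix : ∀ i, ∀ v ∈ rng (E i), E i *ᵥ v = v := fun i v hv => rng_fix (hi i) hv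
  refine InGeometric.decomposition (t := t) (k := Module.finrank F (rng (E i₀))) (D := fun i => rng (E i))
    ⟨mdec_of_idem hP ?_ hi ho ?_ fun i => ?_, fun i => ?_, fun i j hij u hu v hv => ?_⟩ fun h hh => ?_
  · exact Nat.pos_of_ne_zero fun h => h0 _ (hEP i₀)
      (Matrix.toLin'.injective (by rw [map_zero]; exact LinearMap.range_eq_bot.mp (Submodule.finrank_eq_zero.mp h)))
  · rw [show (fun i => E i) = fun i => ((en i : P) : Matrix ι ι F) from rfl, Equiv.sum_comp en (fun e : P => (e : Matrix ι ι F)),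
      Finset.sum_coe_sort P (fun e => e), hsum]
  · obtain ⟨g, -, hg⟩ := htr _ (hEP i₀) _ (hEP i)
    rw [← hg, ← translate_rng, finrank_translate]
  · intro w hw hw0
    have key : ∃ x ∈ rng (E i), gramForm G x w ≠ 0 := by
      obtain ⟨x, hx⟩ := (hG.isSymplectic.nondegenerate w hw0).1
      refine ⟨E i *ᵥ x, ⟨x, Matrix.toLin'_apply _ _⟩, ?_⟩
      rwa [gramForm_adj hG, hadj _ (hEP i), hfix i w hw]
    refine ⟨key, ?_⟩
    obtain ⟨x, hx, hne⟩ := key
    exact ⟨x, hx, by rw [hG.isSymplectic.skew]; exact neg_ne_zero.mpr hne⟩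
  · rw [← hfix i u hu, gramForm_adj hG, hadj _ (hEP i), rng_kill (ho i j hij) hv]
    simp [gramForm]
  · let σ : Fin t → Fin t := fun i => en.symm ⟨_, hconj h hh _ (hEP i)⟩
    have hσ : ∀ i, E (σ i) = (h : Matrix ι ι F) * E i * ((h⁻¹ : GL ι F) : Matrix ι ι F) := fun i => by
      simp [E, σ]
    have hinj : Function.Injective σ := fun a b hab => by
      have h2 := (hσ a).symm.trans ((congrArg E hab).trans (hσ b))
      have h3 := congrArg (fun M => ((h⁻¹ : GL ι F) : Matrix ι ι F) * M * (h : Matrix ι ι F)) h2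
      simp [mul_assoc] at h3
      exact hEinj h3
    refine ⟨Equiv.ofBijective σ (Finite.injective_iff_bijective.mp hinj), fun i => ?_⟩
    show translate h (rng (E i)) = rng (E (σ i))
    rw [translate_rng, hσ]

/-- In characteristic two an element `ω` with `ω + ω* = 1` gives a quadratic form. -/
theorem of_omega {H : Subgroup (GL ι F)} (heven : ¬ Odd (Fintype.card F)) (hH : H ≤ Isom G) {ω : Matrix ι ι F}
    (hω : ω + adj G ω = 1)
    (hfix : ∀ h ∈ H, ∀ v, gramForm G ((((h⁻¹ : GL ι F) : Matrix ι ι F) * ω * (h : Matrix ι ι F)) *ᵥ v) v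
      = gramForm G (ω *ᵥ v) v) : InGeometric G H := by
  have h2 : (2 : F) = 0 := two_eq_zero heven
  have hb := gramForm_bilinear G
  have hsy : ∀ u v, gramForm G u v = gramForm G v u := fun u v => by
    rw [hG.isSymplectic.skew u v]
    linear_combination (-gramForm G v u) * h2
  let Q : (ι → F) → F := fun v => gramForm G (ω *ᵥ v) v
  have hpol : ∀ u v, QuadraticMap.polar Q u v = gramForm G u v := fun u v => by
    have e1 : gramForm G (ω *ᵥ v) u = gramForm G (adj G ω *ᵥ u) v := by
      rw [gramForm_adj hG ω v u, hsy]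
    simp only [QuadraticMap.polar, Q, Matrix.mulVec_add, hb.add_left, hb.add_right, e1]
    calc _ = gramForm G (ω *ᵥ u) v + gramForm G (adj G ω *ᵥ u) v := by ring
      _ = gramForm G u v := by rw [← hb.add_left, ← Matrix.add_mulVec, hω, Matrix.one_mulVec]
  have hbil : QuadraticMap.polar Q = gramForm G := funext fun u => funext fun v => hpol u v
  refine InGeometric.quadratic heven (Q := Q) ⟨fun a v => ?_, hbil ▸ hb, hbil ▸ gramForm_nondegenerate hG.det_ne⟩
    hpol fun h hh => ⟨1, fun v => ?_⟩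
  · simp only [Q, Matrix.mulVec_smul, hb.smul_left, hb.smul_right]
    ring
  · rw [Units.val_one, one_mul]
    show gramForm G (ω *ᵥ ((h : Matrix ι ι F) *ᵥ v)) ((h : Matrix ι ι F) *ᵥ v) = gramForm G (ω *ᵥ v) v
    rw [← hfix h hh v, ← gramForm_apply_isom (hH hh) ((((h⁻¹ : GL ι F) : Matrix ι ι F) * ω * _) *ᵥ v) v]
    simp only [← Matrix.mulVec_mulVec, mulVec_inv_cancel]

variable {H N : Subgroup (GL ι F)}

/-- A centre which is not a field. -/
theorem of_idempotents (hH : Irred H) (hHI : H ≤ Isom G) (hNH : NormalizedBy H N) (hN : N ≤ Isom G)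
    (hnf : ¬ ∀ z ∈ centre N, z ≠ 0 → ∃ y ∈ centre N, z * y = 1) : InGeometric G H := by
  classical
  push Not at hnf
  obtain ⟨z, hz, hz0, hzinv⟩ := hnf
  obtain ⟨k, hk, hkk⟩ := exists_idempotent_pow z
  set g := z ^ k with hg
  have hgc : g ∈ centre N := pow_mem hz _
  have hg0 : g ≠ 0 := fun h => hz0 (centre_pow_zero hH hNH hz h)
  have hg1 : g ≠ 1 := fun h => hzinv (z ^ (k - 1)) (pow_mem hz _)
    (by rw [← pow_succ', Nat.sub_add_cancel hk]; exact h)
  haveI : Finite (Matrix ι ι F) := inferInstanceAs (Finite (ι → ι → F))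
  haveI := Fintype.ofFinite (Matrix ι ι F)
  set P := (Finset.univ : Finset (Matrix ι ι F)).filter (fun e => IsPrimIdem N e) with hP
  have hmemP : ∀ e, e ∈ P ↔ IsPrimIdem N e := fun e => by simp [hP]
  have hidem : ∀ e ∈ P, e * e = e := fun e he => ((hmemP e).mp he).2.1
  have horth : ∀ e ∈ P, ∀ e' ∈ P, e ≠ e' → e * e' = 0 := fun e he e' he' =>
    prim_orth ((hmemP e).mp he) ((hmemP e').mp he')
  have h0 : ∀ e ∈ P, e ≠ 0 := fun e he => ((hmemP e).mp he).2.2.1
  have hsum : ∑ e ∈ P, e = 1 := by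
    by_contra hne
    set s := ∑ e ∈ P, e with hs
    have hsc : s ∈ centre N := sum_mem fun e he => ((hmemP e).mp he).1
    have hes : ∀ e ∈ P, e * s = e := fun e he => by
      rw [hs, Finset.mul_sum, Finset.sum_eq_single e (fun f hf hfe => horth e he f hf (Ne.symm hfe))
        (fun h => absurd he h), hidem e he]
    have hss : s * s = s := by
      nth_rw 1 [hs]
      rw [Finset.sum_mul]
      exact Finset.sum_congr rfl hes
    obtain ⟨e, he, hle⟩ := exists_prim_le (sub_mem (one_mem _) hsc)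
      (by simp [sub_mul, mul_sub, hss]) (sub_ne_zero.mpr (Ne.symm hne))
    rw [sub_mul, one_mul, centre_comm s hsc e he.1, hes e ((hmemP e).mpr he), sub_self] at hle
    exact he.2.2.1 hle.symm
  have hP2 : 2 ≤ P.card := by
    obtain ⟨e₁, he₁, hge₁⟩ := exists_prim_le hgc hkk hg0
    obtain ⟨e₂, he₂, hge₂⟩ := exists_prim_le (sub_mem (one_mem _) hgc)
      (by simp [sub_mul, mul_sub, hkk]) (sub_ne_zero.mpr (Ne.symm hg1))
    refine Finset.one_lt_card.mpr ⟨e₁, (hmemP _).mpr he₁, e₂, (hmemP _).mpr he₂, ?_⟩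
    rintro rfl
    rw [sub_mul, one_mul, hge₁, sub_self] at hge₂
    exact he₁.2.2.1 hge₂.symm
  let c : GL ι F → Matrix ι ι F → Matrix ι ι F := fun h e =>
    (h : Matrix ι ι F) * e * ((h⁻¹ : GL ι F) : Matrix ι ι F)
  have hcc : ∀ a b e, c a (c b e) = c (a * b) e := fun a b e => by simp only [c, Units.val_mul, mul_inv_rev, mul_assoc]
  have hc1 : ∀ e, c 1 e = e := fun e => by simp [c]
  have hcm : ∀ a e e', c a (e * e') = c a e * c a e' := fun a e e' => by simp [c, mul_assoc]
  have hc0 : ∀ a, c a 0 = 0 := fun a => by simp [c]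
  have hconj : ∀ h ∈ H, ∀ e ∈ P, c h e ∈ P := by
    intro h hh e he
    rw [hmemP] at he ⊢
    obtain ⟨h1, h2, h3, h4⟩ := he
    refine ⟨conj_mem_centre hNH hh h1, by rw [← hcm, h2], fun h0' => h3 ?_, fun u hu huu => ?_⟩
    · rw [← hc1 e, ← inv_mul_cancel h, ← hcc, h0', hc0]
    · have hu' : c h (c h⁻¹ u) = u := by rw [hcc, mul_inv_cancel, hc1]
      have h5 := h4 (c h⁻¹ u) (conj_mem_centre hNH (inv_mem hh) hu) (by rw [← hcm, huu])
      rcases h5 with h5 | h5
      · left; rw [← hu', ← hcm, h5, hc0]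
      · right; rw [← hu', ← hcm, h5]
  have hadjP : ∀ e ∈ P, adj G e ∈ P := by
    intro e he
    rw [hmemP] at he ⊢
    obtain ⟨h1, h2, h3, h4⟩ := he
    refine ⟨adj_mem_centre hG hN h1, by rw [← adj_mul hG, h2], fun h0' => h3 ?_, fun u hu huu => ?_⟩
    · rw [← adj_adj hG e, h0']; simp [adj]
    · have hu' := adj_mem_centre hG hN hu
      rcases h4 (adj G u) hu' (by rw [← adj_mul hG, huu]) with h5 | h5
      · left
        have h6 := congrArg (adj G) h5
        rw [adj_mul hG, adj_adj hG] at h6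
        rw [centre_comm u hu _ (adj_mem_centre hG hN h1), h6]
        simp [adj]
      · right
        have h6 := congrArg (adj G) h5
        rw [adj_mul hG, adj_adj hG] at h6
        rw [centre_comm u hu _ (adj_mem_centre hG hN h1), h6]
  have htr : ∀ e ∈ P, ∀ e' ∈ P, ∃ h ∈ H, c h e = e' := by
    intro e he e' he'
    by_contra! hno
    have htop : LinearMap.ker (Matrix.toLin' e') = ⊤ := by
      refine eq_bot_or_top_of_invariant_span hH (W := rng e) (fun h => h0 e he
        (Matrix.toLin'.injective (by rw [map_zero]; exact LinearMap.range_eq_bot.mp h))) fun h hh v hv => ?_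
      rw [translate_rng] at hv
      rw [LinearMap.mem_ker, Matrix.toLin'_apply]
      exact rng_kill (horth e' he' _ (hconj h hh e he) (Ne.symm (hno h hh))) hv
    exact h0 e' he' (Matrix.toLin'.injective (by rw [map_zero]; exact LinearMap.ker_eq_top.mp htop))
  have hadjc : ∀ h ∈ H, ∀ e, adj G (c h e) = c h (adj G e) := fun h hh e => adj_conj hG (hHI hh) e
  by_cases hfx : ∃ e ∈ P, adj G e = e
  · obtain ⟨e, he, hee⟩ := hfx
    refine of_selfadj_idem hG hP2 hidem horth hsum h0 (fun e' he' => ?_) hconj htr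
    obtain ⟨h, hh, rfl⟩ := htr e he e' he'
    rw [hadjc h hh, hee]
  push Not at hfx
  -- blocks
  let φ : Matrix ι ι F → Matrix ι ι F := fun e => e + adj G e
  have hφadj : ∀ e, adj G (φ e) = φ e := fun e => by simp only [φ, adj_add hG, adj_adj hG, add_comm]
  have hφmul : ∀ e ∈ P, e * φ e = e := fun e he => by
    simp only [φ, mul_add, hidem e he, horth e he _ (hadjP e he) (Ne.symm (hfx e he)), add_zero]
  have hfib : ∀ e ∈ P, ∀ g ∈ P, φ g = φ e → g = e ∨ g = adj G e := by
    intro e he g hg heq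
    by_contra! hne
    have h3 : g * φ g = 0 := by
      rw [heq]
      simp only [φ, mul_add, horth g hg e he hne.1, horth g hg _ (hadjP e he) hne.2, add_zero]
    exact h0 g hg (by rw [← hφmul g hg, h3])
  set B := P.image φ with hB
  by_cases hB2 : 2 ≤ B.card
  · refine of_selfadj_idem hG hB2 (fun b hb => ?_) (fun b hb b' hb' hne => ?_) ?_ (fun b hb => ?_)
      (fun b hb => ?_) (fun h hh b hb => ?_) (fun b hb b' hb' => ?_)
    · obtain ⟨e, he, rfl⟩ := Finset.mem_image.mp hb
      simp only [φ, mul_add, add_mul, hidem e he, hidem _ (hadjP e he),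
        horth e he _ (hadjP e he) (Ne.symm (hfx e he)), horth _ (hadjP e he) e he (hfx e he), add_zero, zero_add]
    · obtain ⟨e, he, rfl⟩ := Finset.mem_image.mp hb
      obtain ⟨e', he', rfl⟩ := Finset.mem_image.mp hb'
      have h4 : ∀ u ∈ P, φ u = φ e → ∀ w ∈ P, φ w = φ e' → u * w = 0 := fun u hu hu' w hw hw' =>
        horth u hu w hw fun h => hne (by rw [← hu', ← hw', h])
      have hsw : ∀ e, φ (adj G e) = φ e := fun e => by simp only [φ, adj_adj hG, add_comm]
      simp only [φ, mul_add, add_mul]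
      rw [h4 e he rfl e' he' rfl, h4 _ (hadjP e he) (hsw e) e' he' rfl, h4 e he rfl _ (hadjP e' he') (hsw e'),
        h4 _ (hadjP e he) (hsw e) _ (hadjP e' he') (hsw e')]
      simp
    · refine Eq.trans ?_ ((Finset.sum_fiberwise_of_maps_to (s := P) (t := B) (g := φ)
        (fun e he => Finset.mem_image_of_mem φ he) (fun e => e)).trans hsum)
      refine Finset.sum_congr rfl fun b hb => ?_
      obtain ⟨e, he, rfl⟩ := Finset.mem_image.mp hb
      have hset : P.filter (fun g => φ g = φ e) = {e, adj G e} := by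
        ext g
        simp only [Finset.mem_filter, Finset.mem_insert, Finset.mem_singleton]
        constructor
        · exact fun hg => hfib e he g hg.1 hg.2
        · rintro (rfl | rfl)
          · exact ⟨he, rfl⟩
          · exact ⟨hadjP e he, by simp only [φ, adj_adj hG, add_comm]⟩
      rw [hset, Finset.sum_pair (Ne.symm (hfx e he))]
    · obtain ⟨e, he, rfl⟩ := Finset.mem_image.mp hb
      intro h
      exact h0 e he (by rw [← hφmul e he, h, mul_zero])
    · obtain ⟨e, -, rfl⟩ := Finset.mem_image.mp hb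
      exact hφadj e
    · obtain ⟨e, he, rfl⟩ := Finset.mem_image.mp hb
      refine Finset.mem_image.mpr ⟨c h e, hconj h hh e he, ?_⟩
      simp only [φ, hadjc h hh, c, mul_add, add_mul]
    · obtain ⟨e, he, rfl⟩ := Finset.mem_image.mp hb
      obtain ⟨e', he', rfl⟩ := Finset.mem_image.mp hb'
      obtain ⟨h, hh, rfl⟩ := htr e he e' he'
      exact ⟨h, hh, by simp only [φ, hadjc h hh, c, mul_add, add_mul]⟩
  -- one block: a pair
  obtain ⟨e, he⟩ : P.Nonempty := Finset.card_pos.mp (by omega)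
  have hall : ∀ g ∈ P, g = e ∨ g = adj G e := fun g hg => hfib e he g hg
    (Finset.card_le_one.mp (by omega : B.card ≤ 1) _ (Finset.mem_image_of_mem φ hg) _ (Finset.mem_image_of_mem φ he))
  set e' := adj G e with he'
  have hne : e ≠ e' := Ne.symm (hfx e he)
  have hPeq : P = {e, e'} := by
    ext g
    simp only [Finset.mem_insert, Finset.mem_singleton]
    exact ⟨hall g, by rintro (rfl | rfl); exacts [he, hadjP e he]⟩
  have hone : e + e' = 1 := by rw [← hsum, hPeq, Finset.sum_pair hne]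
  by_cases heven : ¬ Odd (Fintype.card F)
  · refine of_omega hG heven hHI (ω := e) hone fun h hh v => ?_
    have h5 := hconj h⁻¹ (inv_mem hh) e he
    simp only [c, inv_inv] at h5
    rcases hall _ h5 with h6 | h6
    · rw [h6]
    · rw [h6, he', hG.isSymplectic.skew, gramForm_adj hG e v v]
      linear_combination (-gramForm G v (adj G e *ᵥ v) + 0) * two_eq_zero heven
  push Not at heven
  have hcompl : IsCompl (rng e) (rng e') := by
    refine ⟨Submodule.disjoint_def.mpr fun v hv hv' => ?_, codisjoint_iff.mpr (eq_top_iff.mpr fun v _ => ?_)⟩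
    · rw [← rng_fix (hidem e he) hv, rng_kill (horth e he e' (hadjP e he) hne) hv']
    · rw [← Matrix.one_mulVec v, ← hone, Matrix.add_mulVec]
      exact Submodule.add_mem_sup ⟨v, Matrix.toLin'_apply _ _⟩ ⟨v, Matrix.toLin'_apply _ _⟩
  have hts : ∀ g ∈ P, IsTotallySingularFor (gramForm G) (rng g) := fun g hg u hu v hv => by
    rw [← rng_fix (hidem g hg) hu, gramForm_adj hG, rng_kill (horth _ (hadjP g hg) g hg (hfx g hg)) hv]
    simp [gramForm]
  obtain ⟨h, hh, hhe⟩ := htr e he e' (hadjP e he)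
  have hrk : Module.finrank F (rng e') = Module.finrank F (rng e) := by
    rw [← hhe, ← translate_rng, finrank_translate]
  have hpos : 0 < Module.finrank F (rng e) := Nat.pos_of_ne_zero fun h => h0 e he
    (Matrix.toLin'.injective (by rw [map_zero]; exact LinearMap.range_eq_bot.mp (Submodule.finrank_eq_zero.mp h)))
  have hdim := Submodule.finrank_add_eq_of_isCompl hcompl
  rw [hrk, Module.finrank_pi] at hdim
  refine InGeometric.singularPair heven (k := Module.finrank F (rng e)) (D := ![rng e, rng e']) (by omega)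
    (mdec_pair hG hpos rfl hrk hcompl) (fun i => by fin_cases i <;> [exact hts e he; exact hts e' (hadjP e he)])
    fun g hg => ?_
  rcases hall _ (hconj g hg e he) with h6 | h6
  · refine ⟨1, fun i => ?_⟩
    have h7 : c g e' = e' := by rw [he', ← hadjc g hg, h6]
    fin_cases i
    · show translate g (rng e) = rng e; rw [translate_rng]; exact congrArg rng h6
    · show translate g (rng e') = rng e'; rw [translate_rng]; exact congrArg rng h7
  · refine ⟨Equiv.swap 0 1, fun i => ?_⟩
    have h7 : c g e' = e := by rw [he', ← hadjc g hg, h6, adj_adj hG]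
    fin_cases i
    · show translate g (rng e) = rng e'; rw [translate_rng]; exact congrArg rng h6
    · show translate g (rng e') = rng e; rw [translate_rng]; exact congrArg rng h7

omit hG in
/-- A field subalgebra has, in each degree dividing its own, a subfield stable under its normaliser. -/
theorem exists_subfield_of_dvd [Nonempty ι] {d r : ℕ} {K : Subalgebra F (Matrix ι ι F)}
    (hK : IsFieldSubalgebra d K) (hr : r ∣ d) (hr0 : 0 < r) (hd : 0 < d) :
    ∃ L ≤ K, IsFieldSubalgebra r L ∧ subalgebraNormalizer K ≤ subalgebraNormalizer L := by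
  classical
  haveI : Nontrivial (Matrix ι ι F) := inferInstance
  haveI : Finite (Matrix ι ι F) := inferInstanceAs (Finite (ι → ι → F))
  letI : CommRing K := { (inferInstance : Ring K) with mul_comm := fun a b => Subtype.ext (hK.comm a a.2 b b.2) }
  haveI : NoZeroDivisors K := ⟨fun {u v} huv => by
    by_contra! hc
    obtain ⟨y, hy, huy⟩ := hK.inv u u.2 fun h => hc.1 (Subtype.ext h)
    apply hc.2
    refine Subtype.ext ?_
    calc (v : Matrix ι ι F) = (y * u) * v := by rw [hK.comm y hy u u.2, huy, one_mul]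
      _ = y * ((u * v : K) : Matrix ι ι F) := by rw [mul_assoc]; rfl
      _ = _ := by rw [huv]; simp⟩
  haveI : IsDomain K := NoZeroDivisors.to_isDomain _
  letI : Field K := (Finite.isDomain_to_isField K).toField
  haveI := Fintype.ofFinite K
  obtain ⟨p, hp⟩ := CharP.exists F
  obtain ⟨f, hpr, hF⟩ := FiniteField.card F p
  haveI := Fact.mk hpr
  haveI : CharP K p := charP_of_injective_algebraMap (algebraMap F K).injective p
  set q := Fintype.card F with hq
  have hqr : q ^ r = p ^ ((f : ℕ) * r) := by rw [pow_mul, ← hF]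
  have hq1 : 1 < q := Fintype.one_lt_card
  have hcardK : Fintype.card K = q ^ d := by
    rw [Module.card_eq_pow_finrank (K := F) (V := K), show Module.finrank F K = d from hK.finrank_eq]
  let T : Subalgebra F K :=
    { carrier := {x | x ^ q ^ r = x}
      mul_mem' := fun {a b} ha hb => by
        simp only [Set.mem_setOf_eq] at *
        rw [mul_pow, ha, hb]
      one_mem' := one_pow _
      add_mem' := fun {a b} ha hb => by
        simp only [Set.mem_setOf_eq] at *
        rw [hqr, add_pow_char_pow, ← hqr, ha, hb]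
      zero_mem' := zero_pow (by positivity)
      algebraMap_mem' := fun c => by
        simp only [Set.mem_setOf_eq]
        rw [← map_pow, FiniteField.pow_card_pow] }
  let L : Subalgebra F (Matrix ι ι F) := T.map K.val
  have hLK : L ≤ K := by rintro _ ⟨x, -, rfl⟩; exact x.2
  have hmemL : ∀ x : K, (x : Matrix ι ι F) ∈ L ↔ x ^ q ^ r = x := by
    intro x
    constructor
    · rintro ⟨y, hy, hyx⟩
      rw [← Subtype.ext hyx]
      exact hy
    · exact fun h => ⟨x, h, rfl⟩
  have hqr1 : 1 < q ^ r := Nat.one_lt_pow hr0.ne' hq1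
  have hcardT : Nat.card T = q ^ r := by
    have e1 : {x : K | x ^ q ^ r = x} = insert 0 ((fun u : Kˣ => (u : K)) '' {u : Kˣ | u ^ (q ^ r - 1) = 1}) := by
      ext x
      simp only [Set.mem_setOf_eq, Set.mem_insert_iff, Set.mem_image]
      constructor
      · intro hx
        by_cases hx0 : x = 0
        · exact Or.inl hx0
        refine Or.inr ⟨Units.mk0 x hx0, Units.ext ?_, rfl⟩
        rw [Units.val_pow_eq_pow_val, Units.val_mk0, Units.val_one]
        exact mul_right_cancel₀ hx0 (by rw [one_mul, ← pow_succ, Nat.sub_add_cancel hqr1.le, hx])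
      · rintro (rfl | ⟨u, hu, rfl⟩)
        · exact zero_pow (by positivity)
        · rw [← Nat.sub_add_cancel hqr1.le, pow_succ, ← Units.val_pow_eq_pow_val, hu, Units.val_one, one_mul]
    have e2 : {u : Kˣ | u ^ (q ^ r - 1) = 1}.ncard = q ^ r - 1 := by
      rw [← Nat.card_coe_set_eq,
        show Nat.card {u : Kˣ | u ^ (q ^ r - 1) = 1} = Nat.card (powMonoidHom (α := Kˣ) (q ^ r - 1)).ker from rfl,
        IsCyclic.card_powMonoidHom_ker, Nat.card_units, Nat.card_eq_fintype_card, hcardK,
        Nat.gcd_eq_right (Nat.pow_sub_one_dvd_pow_sub_one q hr)]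
    show Nat.card {x : K | x ^ q ^ r = x} = q ^ r
    rw [Nat.card_coe_set_eq, e1, Set.ncard_insert_of_notMem ?_ (Set.toFinite _),
      Set.ncard_image_of_injective _ Units.val_injective, e2]
    · omega
    · rintro ⟨u, -, hu⟩; exact Units.ne_zero u hu
  have hfinT : Module.finrank F L = r := by
    have h1 : Nat.card L = q ^ r := by
      rw [← hcardT]
      exact (Nat.card_congr (T.equivMapOfInjective K.val Subtype.val_injective).toEquiv).symm
    haveI : Finite L := Finite.of_injective (fun x : L => (x : Matrix ι ι F)) Subtype.val_injective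
    letI := Fintype.ofFinite L
    rw [Nat.card_eq_fintype_card] at h1
    rw [Module.card_eq_pow_finrank (K := F) (V := L)] at h1
    exact Nat.pow_right_injective hq1 h1
  refine ⟨L, hLK, ⟨fun x hx y hy => hK.comm x (hLK hx) y (hLK hy), fun x hx hx0 => ?_, hfinT⟩, fun a ha => ?_⟩
  · have hxs := (hmemL ⟨x, hLK hx⟩).1 hx
    refine ⟨(((⟨x, hLK hx⟩ : K)⁻¹ : K) : Matrix ι ι F), (hmemL _).2 (by rw [inv_pow, hxs]), ?_⟩
    exact congrArg Subtype.val (mul_inv_cancel₀ (fun h => hx0 (congrArg Subtype.val h) :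
      (⟨x, hLK hx⟩ : K) ≠ 0))
  · have hfix : ∀ b ∈ subalgebraNormalizer K, ∀ x ∈ L,
        (b : Matrix ι ι F) * x * ((b⁻¹ : GL ι F) : Matrix ι ι F) ∈ L := by
      intro b hb x hx
      have hy : (b : Matrix ι ι F) * x * ((b⁻¹ : GL ι F) : Matrix ι ι F) ∈ K := (hb x).1 (hLK hx)
      refine (hmemL ⟨_, hy⟩).2 (Subtype.ext ?_)
      rw [SubmonoidClass.coe_pow]
      show ((b : Matrix ι ι F) * x * ((b⁻¹ : GL ι F) : Matrix ι ι F)) ^ q ^ r = _
      rw [Units.conj_pow]
      have h1 : x ^ q ^ r = x := congrArg Subtype.val ((hmemL ⟨x, hLK hx⟩).1 hx)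
      rw [h1]
    intro x
    refine ⟨hfix a ha x, fun h => ?_⟩
    have h1 := hfix a⁻¹ (inv_mem ha) _ h
    simpa [mul_assoc] using h1

/-- The centre is scalar, or there is a geometric structure. -/
theorem centre_cases_sp [Nonempty ι] (hH : Irred H) (hHI : H ≤ Isom G) (hNH : NormalizedBy H N)
    (hN : N ≤ Isom G) : CentreScalar N ∨ InGeometric G H := by
  classical
  by_cases hf : ∀ z ∈ centre N, z ≠ 0 → ∃ y ∈ centre N, z * y = 1
  swap
  · exact Or.inr (of_idempotents hG hH hHI hNH hN hf)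
  haveI : Finite (Matrix ι ι F) := inferInstanceAs (Finite (ι → ι → F))
  haveI : Nontrivial (Matrix ι ι F) := inferInstance
  let Z₀ : Subalgebra F (Matrix ι ι F) :=
    { carrier := {z | z ∈ centre N ∧ adj G z = z}
      mul_mem' := fun {a b} ha hb => ⟨mul_mem ha.1 hb.1,
        by rw [adj_mul hG, ha.2, hb.2, centre_comm b hb.1 a ha.1]⟩
      one_mem' := ⟨one_mem _, adj_one hG⟩
      add_mem' := fun {a b} ha hb => ⟨add_mem ha.1 hb.1, by rw [adj_add hG, ha.2, hb.2]⟩
      zero_mem' := ⟨zero_mem _, by simp [adj]⟩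
      algebraMap_mem' := fun c => ⟨Subalgebra.algebraMap_mem _ c,
        by rw [Algebra.algebraMap_eq_smul_one, adj_smul hG, adj_one hG]⟩ }
  have hmem : ∀ z, z ∈ Z₀ ↔ z ∈ centre N ∧ adj G z = z := fun _ => Iff.rfl
  have hcH : ∀ h ∈ H, ∀ z ∈ centre N, (h : Matrix ι ι F) * z * ((h⁻¹ : GL ι F) : Matrix ι ι F) ∈ centre N :=
    fun h hh z hz => conj_mem_centre hNH hh hz
  have hnorm : ∀ K : Subalgebra F (Matrix ι ι F),
      (∀ h ∈ H, ∀ z ∈ K, (h : Matrix ι ι F) * z * ((h⁻¹ : GL ι F) : Matrix ι ι F) ∈ K) →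
      H ≤ subalgebraNormalizer K := fun K hK h hh z => ⟨hK h hh z, fun hz => by
    have := hK h⁻¹ (inv_mem hh) _ hz
    simpa [mul_assoc] using this⟩
  by_cases hd : 1 < Module.finrank F Z₀
  · right
    obtain ⟨r, hr, hrd⟩ := Nat.exists_prime_and_dvd (n := Module.finrank F Z₀) (by omega)
    have hK : IsFieldSubalgebra (Module.finrank F Z₀) Z₀ := ⟨fun x hx y hy => centre_comm x hx.1 y hy.1,
      fun x hx hx0 => by
        obtain ⟨y, hy, hxy⟩ := hf x hx.1 hx0
        refine ⟨y, (hmem y).mpr ⟨hy, ?_⟩, hxy⟩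
        have h1 := congrArg (adj G) hxy
        rw [adj_mul hG, adj_one hG, hx.2] at h1
        calc adj G y = adj G y * (x * y) := by rw [hxy, mul_one]
          _ = y := by rw [← mul_assoc, h1, one_mul], rfl⟩
    obtain ⟨L, hLK, hL, hle⟩ := exists_subfield_of_dvd hK hrd hr.pos (by omega)
    have hself : IsSelfAdjointFor (gramForm G) L := fun k hk u v => by
      rw [gramForm_adj hG, ((hmem k).mp (hLK hk)).2]
    refine InGeometric.field hr hL hself (fun k hk v => ?_) (le_trans (hnorm _ fun h hh z hz =>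
      (hmem _).mpr ⟨hcH h hh z hz.1, by rw [adj_conj hG (hHI hh), hz.2]⟩) hle)
    by_cases hodd : Odd (Fintype.card F)
    · refine eq_zero_of_two_mul hodd ?_
      conv_lhs => rw [hself k hk v v, hG.isSymplectic.skew]
    · have h2 : (2 : F) = 0 := two_eq_zero hodd
      haveI : Finite L := Finite.of_injective (fun x : L => (x : Matrix ι ι F)) Subtype.val_injective
      have hinj : Function.Injective (fun c : L => c * c) := fun a b hab => by
        have hab' : (a : Matrix ι ι F) * a = b * b := congrArg Subtype.val hab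
        by_contra hne
        have hd0 : (a : Matrix ι ι F) - b ≠ 0 := sub_ne_zero.mpr fun h => hne (Subtype.ext h)
        obtain ⟨y, -, hy⟩ := hL.inv _ (sub_mem a.2 b.2) hd0
        have hsq : ((a : Matrix ι ι F) - b) * ((a : Matrix ι ι F) - b) = 0 := by
          have hc := hL.comm _ a.2 _ b.2
          have hzero : ∀ M : Matrix ι ι F, M + M = 0 := fun M => by rw [← two_smul F M, h2, zero_smul]
          simp only [sub_mul, mul_sub, hab', hc]
          rw [show ((b : Matrix ι ι F) * b - b * a - (b * a - b * b)) = (b * b + b * b) - (b * a + b * a) by abel,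
            hzero, hzero, sub_zero]
        apply hd0
        rw [← mul_one ((a : Matrix ι ι F) - b), ← hy, ← mul_assoc, hsq, zero_mul]
      obtain ⟨c, hc⟩ := (Finite.injective_iff_surjective.mp hinj) ⟨k, hk⟩
      have hc' : (c : Matrix ι ι F) * c = k := congrArg Subtype.val hc
      rw [← hc', ← Matrix.mulVec_mulVec, hself c c.2, hG.isSymplectic.alternating]
  have hZ₀ : ∀ z ∈ Z₀, ∃ c : F, z = c • (1 : Matrix ι ι F) := by
    intro z hz
    have h1 : 1 ≤ Module.finrank F Z₀ := by
      rw [← Subalgebra.finrank_bot (F := F) (E := Matrix ι ι F)]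
      exact Submodule.finrank_mono (Subalgebra.toSubmodule.monotone (bot_le : (⊥ : Subalgebra F _) ≤ Z₀))
    have h2 := Subalgebra.eq_bot_of_finrank_one (show Module.finrank F Z₀ = 1 by omega)
    obtain ⟨c, hc⟩ := Algebra.mem_bot.mp (h2 ▸ hz)
    exact ⟨c, by rw [← hc, Algebra.algebraMap_eq_smul_one]⟩
  by_cases hall : ∀ z ∈ centre N, adj G z = z
  · exact Or.inl fun z hz => hZ₀ z ((hmem z).mpr ⟨hz, hall z hz⟩)
  push Not at hall
  obtain ⟨z₀, hz₀, hne⟩ := hall
  right
  have hnormZ := hnorm (centre N) hcH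
  -- the trace and the difference
  set δ := z₀ - adj G z₀ with hδ
  have hδ0 : δ ≠ 0 := sub_ne_zero.mpr (Ne.symm hne)
  have hδc : δ ∈ centre N := sub_mem hz₀ (adj_mem_centre hG hN hz₀)
  have adj_sub : ∀ a b, adj G (a - b) = adj G a - adj G b := fun a b => by
    simp [adj, Matrix.mul_sub, Matrix.sub_mul]
  obtain ⟨ε, hεc, hδε⟩ := hf δ hδc hδ0
  have hεadj : adj G ε = -ε := by
    have h1 := congrArg (adj G) hδε
    rw [adj_mul hG, adj_one hG, show adj G δ = -δ by rw [hδ, adj_sub, adj_adj hG, neg_sub]] at h1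
    calc adj G ε = adj G ε * (δ * ε) := by rw [hδε, mul_one]
      _ = -((adj G ε * (-δ)) * ε) := by simp [mul_assoc]
      _ = -ε := by rw [h1, one_mul]
  have hspan : ∀ x ∈ centre N, ∃ a b : F, x = a • (1 : Matrix ι ι F) + b • z₀ := by
    intro x hx
    have hxa := adj_mem_centre hG hN hx
    obtain ⟨b, hb⟩ := hZ₀ ((x - adj G x) * ε) ((hmem _).mpr ⟨mul_mem (sub_mem hx hxa) hεc, by
      rw [adj_mul hG, adj_sub, adj_adj hG, hεadj, neg_mul, ← mul_neg, neg_sub,
        centre_comm ε hεc _ (sub_mem hx hxa)]⟩)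
    have hxb : x - adj G x = b • δ := by
      calc x - adj G x = (x - adj G x) * (δ * ε) := by rw [hδε, mul_one]
        _ = ((x - adj G x) * ε) * δ := by rw [centre_comm δ hδc ε hεc, mul_assoc]
        _ = b • δ := by rw [hb, Matrix.smul_mul, one_mul]
    obtain ⟨a, ha⟩ := hZ₀ (x - b • z₀) ((hmem _).mpr ⟨sub_mem hx (Subalgebra.smul_mem _ hz₀ b), by
      rw [adj_sub, adj_smul hG]
      linear_combination (norm := module) (-1 : F) • hxb⟩)
    exact ⟨a, b, by rw [← ha, sub_add_cancel]⟩
  by_cases hodd : Odd (Fintype.card F)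
  · have hli : LinearIndependent F ![(⟨1, one_mem _⟩ : centre N), ⟨z₀, hz₀⟩] := by
      rw [linearIndependent_fin2]
      refine ⟨fun h => hne ?_, fun a h => ?_⟩
      · have h' : z₀ = 0 := congrArg Subtype.val h
        rw [h']; simp [adj]
      · simp only [Matrix.cons_val_one, Matrix.cons_val_fin_one, Matrix.cons_val_zero] at h
        have h' : a • z₀ = 1 := congrArg Subtype.val h
        have ha : a ≠ 0 := by rintro rfl; rw [zero_smul] at h'; exact zero_ne_one h'
        apply hne
        rw [show z₀ = a⁻¹ • (1 : Matrix ι ι F) by rw [← h', smul_smul, inv_mul_cancel₀ ha, one_smul],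
          adj_smul hG, adj_one hG]
    have hdim : Module.finrank F (centre N) = 2 := by
      refine le_antisymm ?_ (by simpa using hli.fintype_card_le_finrank)
      have htop : Submodule.span F (Set.range ![(⟨1, one_mem _⟩ : centre N), ⟨z₀, hz₀⟩]) = ⊤ := by
        rw [eq_top_iff]
        rintro ⟨x, hx⟩ -
        obtain ⟨a, b, rfl⟩ := hspan x hx
        rw [Submodule.mem_span_range_iff_exists_fun]
        exact ⟨![a, b], Subtype.ext (by simp [Fin.sum_univ_two])⟩
      have h := finrank_range_le_card (R := F) ![(⟨1, one_mem _⟩ : centre N), ⟨z₀, hz₀⟩]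
      rw [Set.finrank, htop, finrank_top] at h
      simpa using h
    refine InGeometric.fieldUnitary hodd ⟨centre_comm, hf, hdim⟩
      (fun k hk => ⟨adj G k, adj_mem_centre hG hN hk, gramForm_adj hG k⟩) (fun hself => hne ?_) hnormZ
    exact (eq_adj hG (hself z₀ hz₀)).symm
  -- characteristic two
  have h2 : (2 : F) = 0 := two_eq_zero hodd
  have hneg : ∀ M : Matrix ι ι F, -M = M := fun M => by
    rw [← neg_one_smul F M, show (-1 : F) = 1 by linear_combination (-1 : F) * h2, one_smul]
  obtain ⟨c, hc⟩ := hZ₀ δ ((hmem _).mpr ⟨hδc, by rw [hδ, adj_sub, adj_adj hG, ← hneg (adj G z₀ - z₀), neg_sub]⟩)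
  have hc0 : c ≠ 0 := fun h => hδ0 (by rw [hc, h, zero_smul])
  set ω := c⁻¹ • z₀ with hω
  have hωc : ω ∈ centre N := Subalgebra.smul_mem _ hz₀ _
  have hω1 : ω + adj G ω = 1 := by
    rw [hω, adj_smul hG, ← smul_add, ← hneg (adj G z₀), ← sub_eq_add_neg, ← hδ, hc, smul_smul, inv_mul_cancel₀ hc0,
      one_smul]
  refine of_omega hG hodd hHI hω1 fun h hh v => ?_
  set ω' := ((h⁻¹ : GL ι F) : Matrix ι ι F) * ω * (h : Matrix ι ι F) with hω'
  have hω'c : ω' ∈ centre N := by
    have := hcH h⁻¹ (inv_mem hh) ω hωc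
    rwa [inv_inv] at this
  have hω'1 : ω' + adj G ω' = 1 := by
    have h3 := adj_conj hG (inv_mem (hHI hh)) ω
    rw [inv_inv] at h3
    rw [hω', h3, ← add_mul, ← mul_add, hω1, mul_one, Units.inv_mul]
  obtain ⟨a, ha⟩ := hZ₀ (ω' - ω) ((hmem _).mpr ⟨sub_mem hω'c hωc, by
    rw [adj_sub, eq_sub_of_add_eq' hω'1, eq_sub_of_add_eq' hω1, sub_sub_sub_cancel_left, ← hneg (ω - ω'), neg_sub]⟩)
  rw [show ω' = a • (1 : Matrix ι ι F) + ω by rw [← ha, sub_add_cancel], Matrix.add_mulVec, Matrix.smul_mulVec,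
    Matrix.one_mulVec, (gramForm_bilinear G).add_left, (gramForm_bilinear G).smul_left,
    hG.isSymplectic.alternating, mul_zero, zero_add]

end Cfsg.Agent.Lib.AschbacherSp
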