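import Cfsg.Agent.Lib.AschbacherSp.Coords

/-!
Tensor decompositions compatible with an alternating matrix.
-/

set_option autoImplicit false
set_option linter.style.haveILetI false
set_option linter.unusedSectionVars false

namespace Cfsg.Agent.Lib.AschbacherSp

open Cfsg.Geo Cfsg.Agent.Lib.PrimeDim.Basic Cfsg.Agent.Lib.Aschbacher
open scoped Matrix MatrixGroups Kronecker

variable {ι : Type} [Fintype ι] [DecidableEq ι] {F : Type*} [Field F]

/-- A group normalising the span of a unit system lies in a tensor product subgroup. -/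
theorem le_tensorCoords [Nonempty ι] {m : ℕ} (hm : 0 < m) {e : Fin m → Fin m → Matrix ι ι F}
    (he : IsUnitSys e) {H : Subgroup (GL ι F)}
    (hH : ∀ g ∈ H, ∀ a c, (g : Matrix ι ι F) * e a c * ((g⁻¹ : GL ι F) : Matrix ι ι F) ∈ unitSpan e) :
    ∃ (l : ℕ) (ε : ι ≃ Fin m × Fin l) (P : GL ι F), 0 < l ∧ H ≤ tensorProductSubgroup m l ε P ∧
      (l = 1 → ∀ M, M ∈ unitSpan e) ∧
      (∀ M, M ∈ unitSpan e ↔ ∃ A, coordAlg ε P (A ⊗ₖ (1 : Matrix (Fin l) (Fin l) F)) = M) := by
  classical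
  obtain ⟨l, ε, P, hl, hco⟩ := exists_coords he.isUnitsOn
  have hco' : ∀ a c, coordAlg ε P (Matrix.single a c 1 ⊗ₖ (1 : Matrix (Fin l) (Fin l) F)) = e a c := by
    intro a c
    rw [coordAlg_apply, ← hco a c]
    simp [mul_assoc]
  let K : Matrix (Fin m) (Fin m) F →ₗ[F] Matrix (Fin m × Fin l) (Fin m × Fin l) F :=
    { toFun := fun M => M ⊗ₖ (1 : Matrix (Fin l) (Fin l) F)
      map_add' := fun M N => Matrix.add_kronecker M N _
      map_smul' := fun c M => Matrix.smul_kronecker c M _ }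
  have hK : ∀ M, K M = M ⊗ₖ (1 : Matrix (Fin l) (Fin l) F) := fun M => rfl
  have hKinj : Function.Injective K := fun M N h => Matrix.ext fun a b => by
    have := congrFun (congrFun h (a, ⟨0, hl⟩)) (b, ⟨0, hl⟩)
    simpa [hK, Matrix.kroneckerMap_apply] using this
  have hspan : unitSpan e ≤ Submodule.map ((coordAlg ε P).toLinearMap ∘ₗ K) ⊤ := by
    refine Submodule.span_le.mpr ?_
    rintro _ ⟨ab, rfl⟩
    exact ⟨Matrix.single ab.1 ab.2 1, trivial, hco' _ _⟩
  have hiff : ∀ M, M ∈ unitSpan e ↔ ∃ A, coordAlg ε P (A ⊗ₖ (1 : Matrix (Fin l) (Fin l) F)) = M := by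
    intro M
    constructor
    · intro hM
      obtain ⟨A, -, hA⟩ := hspan hM
      exact ⟨A, hA⟩
    · rintro ⟨A, rfl⟩
      rw [Matrix.matrix_eq_sum_single A, ← hK, map_sum, map_sum]
      refine sum_mem fun a _ => ?_
      rw [map_sum, map_sum]
      refine sum_mem fun c _ => ?_
      rw [show Matrix.single a c (A a c) = A a c • Matrix.single a c 1 by simp, map_smul, map_smul, hK, hco']
      exact Submodule.smul_mem _ _ (Submodule.subset_span ⟨(a, c), rfl⟩)
  refine ⟨l, ε, P, hl, fun g hg => ?_, ?_, hiff⟩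
  swap
  · rintro rfl M
    have h1 : M = coordAlg ε P (∑ a, ∑ c,
        ((coordAlg ε P).symm M (a, 0) (c, 0)) • (Matrix.single a c 1 ⊗ₖ (1 : Matrix (Fin 1) (Fin 1) F))) := by
      apply (coordAlg ε P).symm.injective
      rw [AlgEquiv.symm_apply_apply]
      ext ⟨a, u⟩ ⟨c, v⟩
      rw [Subsingleton.elim u 0, Subsingleton.elim v 0]
      simp [Matrix.sum_apply, Matrix.single_apply, Finset.sum_eq_single a, ite_and]
    rw [h1, map_sum]
    refine sum_mem fun a _ => ?_
    rw [map_sum]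
    refine sum_mem fun c _ => ?_
    rw [map_smul, hco']
    exact Submodule.smul_mem _ _ (Submodule.subset_span ⟨(a, c), rfl⟩)
  set G := (coordGL ε P).symm g with hG
  have hnorm : ∀ a c, ∃ M, (G : Matrix (Fin m × Fin l) (Fin m × Fin l) F) * K (Matrix.single a c 1) *
      ((G⁻¹ : GL (Fin m × Fin l) F) : Matrix (Fin m × Fin l) (Fin m × Fin l) F) = K M := by
    intro a c
    obtain ⟨M, -, hM⟩ := hspan (hH g hg a c)
    refine ⟨M, (coordAlg ε P).injective ?_⟩
    rw [hG, coordGL_symm_conj, hK, hco']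
    exact hM.symm
  choose U hU using hnorm
  have hKmul : ∀ M N, K (M * N) = K M * K N := fun M N => by
    rw [hK, hK, hK, ← Matrix.mul_kronecker_mul, mul_one]
  have hK1 : K 1 = 1 := by rw [hK, Matrix.one_kronecker_one]
  obtain ⟨A, hA⟩ := exists_conj_units hm U
    (fun a b c d => hKinj (by
      rw [hKmul, ← hU, ← hU]
      calc _ = (G : Matrix (Fin m × Fin l) (Fin m × Fin l) F) *
            (K (Matrix.single a b 1) * K (Matrix.single c d 1)) *
            ((G⁻¹ : GL (Fin m × Fin l) F) : Matrix (Fin m × Fin l) (Fin m × Fin l) F) := by simp [mul_assoc]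
        _ = _ := by
          rw [← hKmul]
          split_ifs with h
          · subst h; rw [Matrix.single_mul_single_same, mul_one, hU]
          · rw [Matrix.single_mul_single_of_ne _ _ _ _ h, map_zero, mul_zero, zero_mul]))
    (hKinj (by
      rw [map_sum]
      simp only [← hU]
      rw [← Finset.sum_mul, ← Finset.mul_sum, ← map_sum, Matrix.sum_single_eq_diagonal, Matrix.diagonal_one,
        hK1, mul_one, Units.mul_inv]))
  set w : Matrix (Fin m × Fin l) (Fin m × Fin l) F :=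
    K ((A⁻¹ : GL (Fin m) F) : Matrix (Fin m) (Fin m) F) * (G : Matrix (Fin m × Fin l) (Fin m × Fin l) F) with hw
  have hcomm : ∀ a c, w * K (Matrix.single a c 1) = K (Matrix.single a c 1) * w := by
    intro a c
    have h1 : (G : Matrix (Fin m × Fin l) (Fin m × Fin l) F) * K (Matrix.single a c 1) =
        K (U a c) * (G : Matrix (Fin m × Fin l) (Fin m × Fin l) F) := by rw [← hU, Units.inv_mul_cancel_right]
    have h2 : ((A⁻¹ : GL (Fin m) F) : Matrix (Fin m) (Fin m) F) * U a c =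
        Matrix.single a c 1 * ((A⁻¹ : GL (Fin m) F) : Matrix (Fin m) (Fin m) F) := by
      calc ((A⁻¹ : GL (Fin m) F) : Matrix (Fin m) (Fin m) F) * U a c
          = ((A⁻¹ : GL (Fin m) F) : Matrix (Fin m) (Fin m) F) * (U a c * (A : Matrix (Fin m) (Fin m) F)) *
            ((A⁻¹ : GL (Fin m) F) : Matrix (Fin m) (Fin m) F) := by simp [mul_assoc]
        _ = _ := by rw [← hA, Units.inv_mul_cancel_left]
    rw [hw, mul_assoc, h1, ← mul_assoc, ← hKmul, h2, hKmul, mul_assoc]
  let o : Fin m := ⟨0, hm⟩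
  let B : Matrix (Fin l) (Fin l) F := Matrix.of fun i j => w (o, i) (o, j)
  have hwB : w = (1 : Matrix (Fin m) (Fin m) F) ⊗ₖ B := by
    ext ⟨p, i⟩ ⟨a, j⟩
    have h1 := congrFun (congrFun (hcomm a o) (p, i)) (o, j)
    simp only [hK, Matrix.mul_apply, Matrix.kroneckerMap_apply, Fintype.sum_prod_type, Matrix.single_apply,
      Matrix.one_apply] at h1
    rw [Finset.sum_eq_single a (fun x _ hx => Finset.sum_eq_zero fun t _ => by simp [Ne.symm hx]) (by simp),
      Finset.sum_eq_single j (fun t _ ht => by simp [ht]) (by simp)] at h1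
    rw [Finset.sum_eq_single o (fun x _ hx => Finset.sum_eq_zero fun t _ => by simp [Ne.symm hx]) (by simp),
      Finset.sum_eq_single i (fun t _ ht => by simp [Ne.symm ht]) (by simp)] at h1
    simp only [Matrix.kroneckerMap_apply, Matrix.one_apply, B, Matrix.of_apply]
    simp only [and_true, and_self, if_true, mul_one] at h1
    rw [h1]
    rcases eq_or_ne p a with rfl | h
    · simp
    · simp [h, Ne.symm h]
  have hGval : (G : Matrix (Fin m × Fin l) (Fin m × Fin l) F) = (A : Matrix (Fin m) (Fin m) F) ⊗ₖ B := by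
    have h1 : K (A : Matrix (Fin m) (Fin m) F) * w = (G : Matrix (Fin m × Fin l) (Fin m × Fin l) F) := by
      rw [hw, ← mul_assoc, ← hKmul, Units.mul_inv, hK1, one_mul]
    rw [← h1, hwB, hK, ← Matrix.mul_kronecker_mul, mul_one, one_mul]
  have hBu : IsUnit B := by
    rw [Matrix.isUnit_iff_isUnit_det, isUnit_iff_ne_zero]
    intro h0
    have h1 := (Matrix.isUnit_iff_isUnit_det _).mp G.isUnit
    rw [hGval, Matrix.det_kronecker, h0, zero_pow (by simp; omega), mul_zero] at h1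
    exact not_isUnit_zero h1
  obtain ⟨B', hB'⟩ := hBu
  refine ⟨glReindex ε.symm G, ⟨G, ⟨A, B', by rw [hGval, hB']⟩, rfl⟩, ?_⟩
  show coordGL ε P G = g
  rw [hG, MulEquiv.apply_symm_apply]

/-- Two non-zero Kronecker products agree only up to a scalar. -/
theorem kronecker_eq_iff_scalar {A B : Type} [Fintype A] [Fintype B] {X X' : Matrix A A F} {Y Y' : Matrix B B F}
    (hX : X' ≠ 0) (hY : Y' ≠ 0) (h : X ⊗ₖ Y = X' ⊗ₖ Y') : ∃ c : F, c ≠ 0 ∧ X = c • X' ∧ Y = c⁻¹ • Y' := by
  obtain ⟨a, b, hab⟩ : ∃ a b, X' a b ≠ 0 := by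
    by_contra! hc; exact hX (Matrix.ext hc)
  obtain ⟨u, v, huv⟩ : ∃ u v, Y' u v ≠ 0 := by
    by_contra! hc; exact hY (Matrix.ext hc)
  have h' : ∀ i j k l, X i j * Y k l = X' i j * Y' k l := fun i j k l => congrFun (congrFun h (i, k)) (j, l)
  have hne : X a b * Y u v ≠ 0 := by rw [h']; exact mul_ne_zero hab huv
  have hXab := (mul_ne_zero_iff.mp hne).1
  have hYuv := (mul_ne_zero_iff.mp hne).2
  refine ⟨Y' u v / Y u v, div_ne_zero huv hYuv, ?_, ?_⟩
  · ext i j
    rw [Matrix.smul_apply, smul_eq_mul]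
    field_simp
    linear_combination h' i j u v
  · ext k l
    rw [Matrix.smul_apply, smul_eq_mul, inv_div]
    apply mul_left_cancel₀ hXab
    rw [h', ← mul_assoc]
    calc X' a b * Y' k l = X' a b * Y' u v / Y' u v * Y' k l := by field_simp
      _ = _ := by rw [← h' a b u v]; ring

variable [Fintype F] {G : Matrix ι ι F}

/-- If a tensor factor is stable under adjoints the form is a tensor product. -/
theorem exists_factor [Nonempty ι] (hG : Alt G) {m l : ℕ} (ε : ι ≃ Fin m × Fin l) (P : GL ι F)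
    (hadj : ∀ A : Matrix (Fin m) (Fin m) F, ∃ A' : Matrix (Fin m) (Fin m) F,
      adj G (coordAlg ε P (A ⊗ₖ (1 : Matrix (Fin l) (Fin l) F))) =
        coordAlg ε P (A' ⊗ₖ (1 : Matrix (Fin l) (Fin l) F))) :
    ∃ (G₁ : Matrix (Fin m) (Fin m) F) (C : Matrix (Fin l) (Fin l) F) (s : F),
      gramIn G ε P = G₁ ⊗ₖ C ∧ G₁.det ≠ 0 ∧ C.det ≠ 0 ∧ (s = 1 ∨ s = -1) ∧ G₁ᵀ = s • G₁ ∧ Cᵀ = (-s) • C := by
  classical
  obtain ⟨i₀⟩ := ‹Nonempty ι›
  set G' := gramIn G ε P with hG'
  have hG'a : Alt G' := gramIn_alt hG ε P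
  let K : Fin l → Fin l → Matrix (Fin m) (Fin m) F := fun u v => Matrix.of fun a c => G' (a, u) (c, v)
  have hrel : ∀ A, ∃ A', ∀ u v, Aᵀ * K u v = K u v * A' := by
    intro A
    obtain ⟨A', hA'⟩ := hadj A
    rw [adj_coord hG] at hA'
    have h1 := congrArg (fun M => G' * M) ((coordAlg ε P).injective hA')
    simp only [adj, ← hG', ← mul_assoc] at h1
    rw [Matrix.mul_nonsing_inv _ hG'a.unit, one_mul] at h1
    refine ⟨A', fun u v => Matrix.ext fun a c => ?_⟩
    have h2 := congrFun (congrFun h1 (a, u)) (c, v)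
    simpa [Matrix.mul_apply, Fintype.sum_prod_type, Matrix.one_apply, Matrix.kroneckerMap_apply, K, ite_mul,
      mul_ite, Finset.sum_ite_eq, Finset.sum_ite_eq'] using h2
  obtain ⟨u₀, v₀, hK0⟩ : ∃ u v, K u v ≠ 0 := by
    by_contra! hc
    refine hG'a.det_ne ?_
    haveI : Nonempty (Fin m × Fin l) := ⟨ε i₀⟩
    rw [show G' = 0 from Matrix.ext fun ⟨a, u⟩ ⟨c, v⟩ => congrFun (congrFun (hc u v) a) c]
    exact Matrix.det_zero
  have hK0d : (K u₀ v₀).det ≠ 0 := by
    intro hd
    obtain ⟨w, hw, hwK⟩ := Matrix.exists_vecMul_eq_zero_iff.mpr hd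
    obtain ⟨j, hj⟩ := Function.ne_iff.mp hw
    apply hK0
    ext a c
    obtain ⟨A', hA'⟩ := hrel (Matrix.single a j 1)
    have h3 : (w ᵥ* (Matrix.single a j (1 : F))ᵀ) ᵥ* K u₀ v₀ = 0 := by
      rw [Matrix.vecMul_vecMul, hA', ← Matrix.vecMul_vecMul, hwK, Matrix.zero_vecMul]
    have h4 : w ᵥ* (Matrix.single a j (1 : F))ᵀ = Pi.single a (w j) := by
      rw [Matrix.vecMul_transpose]
      funext b
      rcases eq_or_ne b a with rfl | hb
      · simp [Matrix.mulVec, dotProduct, Matrix.single_apply]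
      · simp [Matrix.mulVec, dotProduct, Matrix.single_apply, hb, Ne.symm hb]
    rw [h4] at h3
    have := congrFun h3 c
    simp [Matrix.vecMul, dotProduct, Pi.single_apply, ite_mul] at this
    exact this.resolve_left hj
  have hKscal : ∀ u v, ∃ c : F, K u v = c • K u₀ v₀ := by
    intro u v
    have hu : IsUnit (K u₀ v₀).det := isUnit_iff_ne_zero.mpr hK0d
    have hcomm : ∀ i j, Commute (Matrix.single i j (1 : F)) (K u v * (K u₀ v₀)⁻¹) := by
      intro i j
      obtain ⟨A', hA'⟩ := hrel (Matrix.single j i 1)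
      rw [← Matrix.transpose_single, commute_iff_eq]
      calc (Matrix.single j i (1 : F))ᵀ * (K u v * (K u₀ v₀)⁻¹) = K u v * (A' * (K u₀ v₀)⁻¹) := by
            rw [← mul_assoc, hA', mul_assoc]
        _ = K u v * ((K u₀ v₀)⁻¹ * (Matrix.single j i (1 : F))ᵀ) := by
            congr 1
            have := congrArg (fun M => (K u₀ v₀)⁻¹ * M * (K u₀ v₀)⁻¹) (hA' u₀ v₀)
            simp only [Matrix.nonsing_inv_mul_cancel_left _ _ hu] at this
            rw [← this, mul_assoc, Matrix.mul_nonsing_inv_cancel_right _ _ hu]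
        _ = _ := by rw [mul_assoc]
    obtain ⟨c, hc⟩ : K u v * (K u₀ v₀)⁻¹ ∈ Set.range (Matrix.scalar (Fin m)) :=
      Matrix.mem_range_scalar_iff_commute_single'.mpr hcomm
    refine ⟨c, ?_⟩
    have := congrArg (fun M => M * K u₀ v₀) hc
    simp only [Matrix.nonsing_inv_mul_cancel_right _ _ hu] at this
    rw [← this, Matrix.scalar_apply, Matrix.smul_eq_diagonal_mul]
  choose cf hcf using hKscal
  let C : Matrix (Fin l) (Fin l) F := Matrix.of cf
  have heq : G' = K u₀ v₀ ⊗ₖ C := by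
    ext ⟨a, u⟩ ⟨c, v⟩
    have := congrFun (congrFun (hcf u v) a) c
    simpa [K, C, Matrix.kroneckerMap_apply, mul_comm] using this
  haveI : Nonempty (Fin m) := ⟨(ε i₀).1⟩
  haveI : Nonempty (Fin l) := ⟨(ε i₀).2⟩
  have hCd : C.det ≠ 0 := by
    intro h0
    apply hG'a.det_ne
    rw [heq, Matrix.det_kronecker, h0, zero_pow Fintype.card_ne_zero, mul_zero]
  have hK1 : K u₀ v₀ ≠ 0 := hK0
  have hC1 : C ≠ 0 := fun h => hCd (by rw [h, Matrix.det_zero])
  have hsk : (K u₀ v₀)ᵀ ⊗ₖ Cᵀ = (-1 : F) • K u₀ v₀ ⊗ₖ C := by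
    rw [← heq, neg_one_smul, ← hG'a.skew, heq]
    ext ⟨a, u⟩ ⟨c, v⟩
    rfl
  have hC0 : (-1 : F) • K u₀ v₀ ≠ 0 := smul_ne_zero (neg_ne_zero.mpr one_ne_zero) hK1
  rw [← Matrix.smul_kronecker] at hsk
  obtain ⟨c, hc0, h1, h2⟩ := kronecker_eq_iff_scalar hC0 hC1 hsk
  rw [smul_smul] at h1
  have hcc : (c * -1) * (c * -1) = 1 := by
    have h3 := congrArg Matrix.transpose h1
    rw [Matrix.transpose_transpose, Matrix.transpose_smul, h1, smul_smul] at h3
    obtain ⟨a, b, hab⟩ : ∃ a b, K u₀ v₀ a b ≠ 0 := by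
      by_contra! hc'; exact hK1 (Matrix.ext hc')
    have h4 := congrFun (congrFun h3 a) b
    rw [Matrix.smul_apply, smul_eq_mul] at h4
    exact (mul_eq_right₀ hab).mp h4.symm
  refine ⟨K u₀ v₀, C, c * -1, heq, hK0d, hCd, mul_self_eq_one_iff.mp hcc, h1, ?_⟩
  rw [h2]
  congr 1
  field_simp
  linear_combination -hcc

omit [Fintype F] in
/-- The coordinates of the factors after swapping. -/
theorem gramIn_swap {m l : ℕ} (ε : ι ≃ Fin m × Fin l) (P : GL ι F) {G₁ : Matrix (Fin m) (Fin m) F}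
    {C : Matrix (Fin l) (Fin l) F} (h : gramIn G ε P = G₁ ⊗ₖ C) :
    gramIn G (ε.trans (Equiv.prodComm _ _)) P = C ⊗ₖ G₁ := by
  ext ⟨u, a⟩ ⟨v, c⟩
  have h1 := congrFun (congrFun h (a, u)) (c, v)
  rw [Matrix.kroneckerMap_apply, mul_comm]
  exact h1

/-- The isometries inside a tensor product. -/
theorem factors_of_mem [Nonempty ι] {m l : ℕ} {ε : ι ≃ Fin m × Fin l} {P : GL ι F}
    {G₁ : Matrix (Fin m) (Fin m) F} {C : Matrix (Fin l) (Fin l) F} (h : gramIn G ε P = G₁ ⊗ₖ C) (h1 : G₁.det ≠ 0)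
    (h2 : C.det ≠ 0) {g : GL ι F} (hg : g ∈ tensorProductSubgroup m l ε P) (hgI : g ∈ Isom G) :
    ∃ (A : GL (Fin m) F) (B : GL (Fin l) F) (c : F), c ≠ 0 ∧
      (((coordGL ε P).symm g : GL (Fin m × Fin l) F) : Matrix (Fin m × Fin l) (Fin m × Fin l) F) =
        (A : Matrix (Fin m) (Fin m) F) ⊗ₖ (B : Matrix (Fin l) (Fin l) F) ∧
      (A : Matrix (Fin m) (Fin m) F)ᵀ * G₁ * (A : Matrix (Fin m) (Fin m) F) = c • G₁ ∧
      (B : Matrix (Fin l) (Fin l) F)ᵀ * C * (B : Matrix (Fin l) (Fin l) F) = c⁻¹ • C := by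
  obtain ⟨i₀⟩ := ‹Nonempty ι›
  haveI : Nonempty (Fin m) := ⟨(ε i₀).1⟩
  haveI : Nonempty (Fin l) := ⟨(ε i₀).2⟩
  obtain ⟨_, ⟨g₀, ⟨A, B, hAB⟩, rfl⟩, rfl⟩ := hg
  have hsymm : (coordGL ε P).symm ((MulAut.conj P).toMonoidHom ((glReindex ε.symm).toMonoidHom g₀)) = g₀ :=
    (coordGL ε P).symm_apply_apply g₀
  have h3 := mem_isom.mp (symm_isom hgI ε P)
  rw [hsymm, hAB, h] at h3
  have h4 : ((A : Matrix (Fin m) (Fin m) F)ᵀ * G₁ * (A : Matrix (Fin m) (Fin m) F)) ⊗ₖ
      ((B : Matrix (Fin l) (Fin l) F)ᵀ * C * (B : Matrix (Fin l) (Fin l) F)) = G₁ ⊗ₖ C := by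
    rw [Matrix.mul_kronecker_mul, Matrix.mul_kronecker_mul, Matrix.kroneckerMap_transpose]
    exact h3
  obtain ⟨c, hc, e1, e2⟩ := kronecker_eq_iff_scalar (fun h => h1 (by rw [h, Matrix.det_zero]))
    (fun h => h2 (by rw [h, Matrix.det_zero])) h4
  exact ⟨A, B, c, hc, by rw [hsymm, hAB], e1, e2⟩

omit [Fintype F] in
theorem gramMatrix_gramForm {κ : Type} [Fintype κ] [DecidableEq κ] (M : Matrix κ κ F) :
    gramMatrix (gramForm M) = M := by
  ext a b
  exact gramForm_single M a b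

/-- Odd characteristic, skew first factor and symmetric second factor. -/
theorem tensor_odd [Nonempty ι] (hG : Alt G) (hodd : Odd (Fintype.card F)) {H : Subgroup (GL ι F)} (hH : H ≤ Isom G)
    {m l : ℕ} (hl : 2 ≤ l) {ε : ι ≃ Fin m × Fin l} {P : GL ι F} (hle : H ≤ tensorProductSubgroup m l ε P)
    {G₁ : Matrix (Fin m) (Fin m) F} {C : Matrix (Fin l) (Fin l) F} (h : gramIn G ε P = G₁ ⊗ₖ C) (h1 : G₁.det ≠ 0)
    (h2 : C.det ≠ 0) (hs1 : G₁ᵀ = -G₁) (hs2 : Cᵀ = C) : InGeometric G H := by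
  classical
  have hdiag : ∀ a, G₁ a a = 0 := fun a => by
    refine eq_zero_of_two_mul hodd ?_
    simpa using congrFun (congrFun hs1 a) a
  rcases hl.lt_or_eq with h3 | h3
  · refine InGeometric.tensor hodd h3 (f₁ := gramForm G₁) (f₂ := gramForm C)
      (isSymplectic_gram hs1 (gramForm_self_eq_zero hs1 hdiag) h1)
      ⟨gramForm_bilinear C, fun u v => by rw [gramForm_flip, hs2], gramForm_nondegenerate h2⟩
      (e := ε) (P := P) ⟨1, one_ne_zero, fun x y => ?_⟩ hle
    rw [gramForm_in, h, gramMatrix_gramForm, gramMatrix_gramForm, one_mul]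
    simp [formOfGram, gramForm, dotProduct, Matrix.mulVec, Finset.mul_sum, mul_assoc]
  subst h3
  set J : Matrix (Fin 2) (Fin 2) F := !![0, 1; -1, 0] with hJ
  set S := C⁻¹ * J with hS
  have hu : IsUnit C.det := isUnit_iff_ne_zero.mpr h2
  have hJdet : ∀ B : Matrix (Fin 2) (Fin 2) F, Bᵀ * J * B = B.det • J := fun B => by
    ext i j
    fin_cases i <;> fin_cases j <;> simp [hJ, Matrix.mul_apply, Fin.sum_univ_two, Matrix.det_fin_two] <;> ring
  have hJJ : J * J = (-1 : F) • 1 := by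
    ext i j
    fin_cases i <;> fin_cases j <;> simp [hJ, Matrix.mul_apply, Fin.sum_univ_two]
  have hCi : (C⁻¹)ᵀ = C⁻¹ := by rw [Matrix.transpose_nonsing_inv, hs2]
  have hS2 : S * S = (-(C.det)⁻¹) • (1 : Matrix (Fin 2) (Fin 2) F) := by
    have h5 := hJdet C⁻¹
    rw [hCi] at h5
    calc S * S = (C⁻¹ * J * C⁻¹) * J := by rw [hS, mul_assoc _ J, mul_assoc _ J, ← mul_assoc C⁻¹]; simp [mul_assoc]
      _ = _ := by rw [h5, Matrix.smul_mul, hJJ, smul_smul, Matrix.det_nonsing_inv, Ring.inverse_eq_inv', mul_neg_one]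
  set T := coordAlg ε P ((1 : Matrix (Fin m) (Fin m) F) ⊗ₖ S) with hT
  have hTT : T * T = (-(C.det)⁻¹) • 1 := by
    rw [hT, ← map_mul, ← Matrix.mul_kronecker_mul, one_mul, hS2, Matrix.kronecker_smul, Matrix.one_kronecker_one,
      map_smul, map_one]
  have hTadj : adj G T = -T := by
    rw [hT, adj_coord hG, ← map_neg]
    congr 1
    have hu' := (gramIn_alt hG ε P).unit
    have h6 : ((1 : Matrix (Fin m) (Fin m) F) ⊗ₖ S)ᵀ * gramIn G ε P =
        gramIn G ε P * -((1 : Matrix (Fin m) (Fin m) F) ⊗ₖ S) := by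
      have h7 : Sᵀ * C = -(C * S) := by
        rw [hS, Matrix.transpose_mul, hCi, mul_assoc, Matrix.nonsing_inv_mul _ hu, mul_one,
          Matrix.mul_nonsing_inv_cancel_left _ _ hu]
        ext i j
        fin_cases i <;> fin_cases j <;> simp [hJ]
      rw [h, show ((1 : Matrix (Fin m) (Fin m) F) ⊗ₖ S)ᵀ = (1 : Matrix (Fin m) (Fin m) F) ⊗ₖ Sᵀ by
        rw [← Matrix.kroneckerMap_transpose, Matrix.transpose_one], ← Matrix.mul_kronecker_mul, one_mul, h7, mul_neg,
        ← Matrix.mul_kronecker_mul, mul_one]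
      ext ⟨a, u⟩ ⟨b, v⟩
      simp [Matrix.kroneckerMap_apply]
    rw [adj, mul_assoc, h6, Matrix.nonsing_inv_mul_cancel_left _ _ hu']
  refine of_skew_element hG hodd hTadj (neg_ne_zero.mpr (inv_ne_zero h2)) hTT fun g hg => ?_
  obtain ⟨A, B, c, hc, hgv, -, hBC⟩ := factors_of_mem h h1 h2 (hle (inv_mem hg)) (hH (inv_mem hg))
  set b : Matrix (Fin 2) (Fin 2) F := (B : Matrix (Fin 2) (Fin 2) F) with hb
  have hbu : IsUnit b.det := (Matrix.isUnit_iff_isUnit_det _).mp B.isUnit
  -- conjugation multiplies `S` by a scalar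
  have hk : S * b = (c * b.det) • (b * S) := by
    have e1 : bᵀ * C = c⁻¹ • (C * b⁻¹) := by
      rw [← Matrix.smul_mul, ← hBC, Matrix.mul_nonsing_inv_cancel_right _ _ hbu]
    have e2 : J * b = b.det • (b⁻¹ᵀ * J) := by
      rw [← Matrix.mul_smul, ← hJdet b, ← mul_assoc, ← mul_assoc, ← Matrix.transpose_mul,
        Matrix.mul_nonsing_inv _ hbu, Matrix.transpose_one, one_mul]
    have e3 : b⁻¹ᵀ = c • (C * b * C⁻¹) := by
      have e4 := congrArg (fun M => b⁻¹ᵀ * (M * C⁻¹)) hBC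
      rw [mul_assoc, mul_assoc] at e4
      simp only [← mul_assoc, ← Matrix.transpose_mul, Matrix.mul_nonsing_inv _ hbu, Matrix.transpose_one, one_mul,
        Matrix.mul_smul, Matrix.smul_mul] at e4
      rw [Matrix.mul_nonsing_inv_cancel_right _ _ hu] at e4
      rw [e4, smul_smul, mul_inv_cancel₀ hc, one_smul]
    rw [hS, mul_assoc, e2, e3]
    simp only [Matrix.mul_smul, Matrix.smul_mul, smul_smul, ← mul_assoc]
    rw [Matrix.nonsing_inv_mul _ hu, one_mul, mul_comm c]
  have hk2 : (c * b.det) * (c * b.det) = 1 := by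
    have e5 : S * S * b = ((c * b.det) * (c * b.det)) • (b * (S * S)) := by
      rw [mul_assoc, hk, Matrix.mul_smul, ← mul_assoc, hk, Matrix.smul_mul, smul_smul, mul_assoc b]
    rw [hS2, Matrix.smul_mul, one_mul, Matrix.mul_smul, mul_one, smul_smul] at e5
    have hb0 : b ≠ 0 := B.ne_zero
    have := smul_left_injective F hb0 e5
    have hd : -(C.det)⁻¹ ≠ 0 := neg_ne_zero.mpr (inv_ne_zero h2)
    exact (mul_eq_right₀ hd).mp this.symm
  have hconj : (g : Matrix ι ι F) * T * ((g⁻¹ : GL ι F) : Matrix ι ι F) = (c * b.det) • T := by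
    have e6 : T * ((g⁻¹ : GL ι F) : Matrix ι ι F) = (c * b.det) • (((g⁻¹ : GL ι F) : Matrix ι ι F) * T) := by
      conv_lhs => rw [← (coordGL ε P).apply_symm_apply g⁻¹, coordGL_val, hgv]
      conv_rhs => rw [← (coordGL ε P).apply_symm_apply g⁻¹, coordGL_val, hgv]
      rw [hT, ← map_mul, ← map_mul, ← map_smul, ← Matrix.mul_kronecker_mul, ← Matrix.mul_kronecker_mul, one_mul,
        mul_one, hk, Matrix.kronecker_smul]
    rw [mul_assoc, e6, Matrix.mul_smul, ← mul_assoc, Units.mul_inv, one_mul]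
  rcases mul_self_eq_one_iff.mp hk2 with h8 | h8
  · left; rw [hconj, h8, one_smul]
  · right; rw [hconj, h8, neg_one_smul]

/-- Characteristic two: a non-alternating factor gives an invariant subspace. -/
theorem alternating_factor [Nonempty ι] (heven : ¬ Odd (Fintype.card F)) {H : Subgroup (GL ι F)} (hirr : Irred H)
    (hH : H ≤ Isom G) {m l : ℕ} (hm : 2 ≤ m) {ε : ι ≃ Fin m × Fin l} {P : GL ι F}
    (hle : H ≤ tensorProductSubgroup m l ε P) {G₁ : Matrix (Fin m) (Fin m) F} {C : Matrix (Fin l) (Fin l) F}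
    (h : gramIn G ε P = G₁ ⊗ₖ C) (h1 : G₁.det ≠ 0) (h2 : C.det ≠ 0) (hs : G₁ᵀ = G₁) : ∀ a, G₁ a a = 0 := by
  classical
  obtain ⟨i₀⟩ := ‹Nonempty ι›
  have hb := gramForm_bilinear G₁
  have h20 : (2 : F) = 0 := two_eq_zero heven
  let W₀ : Submodule F (Fin m → F) :=
    { carrier := {v | gramForm G₁ v v = 0}
      add_mem' := fun {a b} ha hb' => by
        simp only [Set.mem_setOf_eq] at *
        rw [hb.add_left, hb.add_right, hb.add_right, ha, hb', show gramForm G₁ b a = gramForm G₁ a b by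
          rw [gramForm_flip, hs]]
        linear_combination gramForm G₁ a b * h20
      zero_mem' := by simp [gramForm]
      smul_mem' := fun c v hv => by
        simp only [Set.mem_setOf_eq] at *
        rw [hb.smul_left, hb.smul_right, hv, mul_zero, mul_zero] }
  let W : Submodule F (ι → F) :=
    { carrier := {v | ∀ u, (fun a => toX ε P v (a, u)) ∈ W₀}
      add_mem' := fun {a b} ha hb' u => by
        simp only [toX_add]
        exact add_mem (ha u) (hb' u)
      zero_mem' := fun u => by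
        have : (fun a => toX ε P (0 : ι → F) (a, u)) = 0 := by funext a; simp [toX]
        rw [this]; exact zero_mem _
      smul_mem' := fun c v hv u => by
        simp only [toX_smul]
        exact W₀.smul_mem c (hv u) }
  have hWi : Invariant H W := by
    intro g hg v hv u
    obtain ⟨A, B, c, -, hgv, hA, -⟩ := factors_of_mem h h1 h2 (hle hg) (hH hg)
    have e1 : toX ε P ((g : Matrix ι ι F) *ᵥ v) =
        ((A : Matrix (Fin m) (Fin m) F) ⊗ₖ (B : Matrix (Fin l) (Fin l) F)) *ᵥ toX ε P v := by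
      rw [← hgv, ← toX_coord, ← coordGL_val, MulEquiv.apply_symm_apply]
    have e2 : (fun a => toX ε P ((g : Matrix ι ι F) *ᵥ v) (a, u)) =
        ∑ w, (B : Matrix (Fin l) (Fin l) F) u w • ((A : Matrix (Fin m) (Fin m) F) *ᵥ fun b => toX ε P v (b, w)) := by
      funext a
      rw [e1, Finset.sum_apply]
      simp only [Matrix.mulVec, dotProduct, Fintype.sum_prod_type, Matrix.kroneckerMap_apply, Pi.smul_apply,
        smul_eq_mul, Finset.mul_sum]
      rw [Finset.sum_comm]
      exact Finset.sum_congr rfl fun w _ => Finset.sum_congr rfl fun b _ => by ring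
    rw [e2]
    refine sum_mem fun w _ => W₀.smul_mem _ ?_
    show gramForm G₁ _ _ = 0
    rw [gramForm_apply, hA, gramForm, Matrix.smul_mulVec, dotProduct_smul]
    have := hv w
    change gramForm G₁ _ _ = 0 at this
    rw [gramForm] at this
    rw [this, smul_zero]
  rcases hirr W hWi with hW | hW
  · exfalso
    have hW₀ : W₀ = ⊥ := by
      rw [eq_bot_iff]
      intro v hv
      rw [Submodule.mem_bot]
      have hmem : (P : Matrix ι ι F) *ᵥ ((fun p : Fin m × Fin l => v p.1) ∘ ε) ∈ W := fun u => by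
        rw [toX_mk]; exact hv
      rw [hW, Submodule.mem_bot] at hmem
      funext a
      have h9 := congrArg (fun w => toX ε P w (a, (ε i₀).2)) hmem
      simp only [toX_mk] at h9
      simpa [toX] using h9
    have hinj : Function.Injective (fun v : Fin m → F => gramForm G₁ v v) := by
      intro a b hab
      have hmem : a - b ∈ W₀ := by
        show gramForm G₁ (a - b) (a - b) = 0
        have hb2 : a - b = a + (-1 : F) • b := by simp [sub_eq_add_neg]
        rw [hb2, hb.add_left, hb.add_right, hb.add_right, hb.smul_left, hb.smul_left, hb.smul_right,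
          hb.smul_right, show gramForm G₁ b a = gramForm G₁ a b by rw [gramForm_flip, hs]]
        simp only at hab
        linear_combination hab + (gramForm G₁ b b - gramForm G₁ a b) * h20
      rw [hW₀, Submodule.mem_bot, sub_eq_zero] at hmem
      exact hmem
    have hcard := Fintype.card_le_of_injective _ hinj
    rw [Fintype.card_fun, Fintype.card_fin] at hcard
    have h3 : Fintype.card F ^ 2 ≤ Fintype.card F ^ m := Nat.pow_le_pow_right Fintype.card_pos hm
    have := Fintype.one_lt_card (α := F)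
    nlinarith
  · intro a
    have hmem : (P : Matrix ι ι F) *ᵥ ((fun p : Fin m × Fin l => (Pi.single a 1 : Fin m → F) p.1) ∘ ε) ∈ W := by
      rw [hW]; exact Submodule.mem_top
    have h9 := hmem (ε i₀).2
    simp only [toX_mk] at h9
    change gramForm G₁ (Pi.single a 1) (Pi.single a 1) = 0 at h9
    rwa [gramForm_single] at h9

/-- The upper triangle. -/
def upper {m : ℕ} (M : Matrix (Fin m) (Fin m) F) : Matrix (Fin m) (Fin m) F :=
  Matrix.of fun a b => if a < b then M a b else 0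

omit [Fintype F] in
theorem upper_add {m : ℕ} {M : Matrix (Fin m) (Fin m) F} (hs : Mᵀ = M) (hd : ∀ a, M a a = 0) :
    upper M + (upper M)ᵀ = M := by
  ext a b
  simp only [upper, Matrix.add_apply, Matrix.transpose_apply, Matrix.of_apply]
  rcases lt_trichotomy a b with h | h | h
  · rw [if_pos h, if_neg h.asymm, add_zero]
  · subst h; rw [if_neg (lt_irrefl a), add_zero, hd]
  · rw [if_neg h.asymm, if_pos h, zero_add]
    exact (congrFun (congrFun hs a) b)

omit [Fintype F] in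
theorem gramForm_kronecker {m l : ℕ} (A : Matrix (Fin m) (Fin m) F) (B : Matrix (Fin l) (Fin l) F)
    (y : Fin m → F) (z : Fin l → F) :
    gramForm (A ⊗ₖ B) (fun p => y p.1 * z p.2) (fun p => y p.1 * z p.2) = gramForm A y y * gramForm B z z := by
  have hg : ∀ {κ : Type} [Fintype κ] (M : Matrix κ κ F) (u : κ → F),
      gramForm M u u = ∑ a, ∑ b, u a * M a b * u b := by
    intro κ _ M u
    simp only [gramForm, dotProduct, Matrix.mulVec, Finset.mul_sum, mul_assoc]
  rw [hg, hg, hg, Finset.sum_mul_sum]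
  simp only [Fintype.sum_prod_type, Matrix.kroneckerMap_apply, Finset.sum_mul_sum]
  refine Finset.sum_congr rfl fun a _ => Finset.sum_congr rfl fun u _ => Finset.sum_congr rfl fun b _ =>
    Finset.sum_congr rfl fun v _ => ?_
  ring

/-- Characteristic two, two alternating factors. -/
theorem tensor_even [Nonempty ι] (hG : Alt G) (heven : ¬ Odd (Fintype.card F)) {H : Subgroup (GL ι F)}
    (hH : H ≤ Isom G) {m l : ℕ} {ε : ι ≃ Fin m × Fin l} {P : GL ι F} (hle : H ≤ tensorProductSubgroup m l ε P)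
    {G₁ : Matrix (Fin m) (Fin m) F} {C : Matrix (Fin l) (Fin l) F} (h : gramIn G ε P = G₁ ⊗ₖ C) (h1 : G₁.det ≠ 0)
    (h2 : C.det ≠ 0) (hs1 : G₁ᵀ = G₁) (hd1 : ∀ a, G₁ a a = 0) (hs2 : Cᵀ = C) (hd2 : ∀ u, C u u = 0) :
    InGeometric G H := by
  classical
  have h20 : (2 : F) = 0 := two_eq_zero heven
  have hskew : Cᵀ = -C := by
    rw [hs2]; ext a b
    rw [Matrix.neg_apply]; linear_combination C a b * h20
  refine of_vanishing hG heven hH ε P (U := upper G₁ ⊗ₖ C) ?_
    (S := Set.range fun yz : (Fin m → F) × (Fin l → F) => fun p : Fin m × Fin l => yz.1 p.1 * yz.2 p.2) ?_ ?_ ?_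
  · have hT : (upper G₁ ⊗ₖ C)ᵀ = (upper G₁)ᵀ ⊗ₖ C := by
      ext ⟨a, u⟩ ⟨b, v⟩
      simp only [Matrix.transpose_apply, Matrix.kroneckerMap_apply]
      rw [show C v u = C u v from congrFun (congrFun hs2 u) v]
    rw [hT, h, ← Matrix.add_kronecker, upper_add hs1 hd1]
  · rw [eq_top_iff]
    intro x _
    have hx : x = ∑ p, x p • (fun r : Fin m × Fin l => (Pi.single p.1 1 : Fin m → F) r.1 * (Pi.single p.2 1 : Fin l → F) r.2) := by
      funext r
      rw [Finset.sum_apply, Finset.sum_eq_single r (fun p _ hp => ?_) (fun hr => absurd (Finset.mem_univ r) hr)]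
      · simp
      · obtain ⟨p1, p2⟩ := p
        obtain ⟨r1, r2⟩ := r
        by_cases e : r1 = p1
        · subst e
          have : r2 ≠ p2 := fun e2 => hp (by rw [e2])
          simp [Pi.single_eq_of_ne this]
        · simp [Pi.single_eq_of_ne e]
    rw [hx]
    exact sum_mem fun p _ => Submodule.smul_mem _ _ (Submodule.subset_span ⟨(Pi.single p.1 1, Pi.single p.2 1), rfl⟩)
  · rintro _ ⟨⟨y, z⟩, rfl⟩
    rw [gramForm_kronecker, gramForm_self_eq_zero hskew hd2, mul_zero]
  · rintro g hg _ ⟨⟨y, z⟩, rfl⟩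
    obtain ⟨A, B, c, -, hgv, -, -⟩ := factors_of_mem h h1 h2 (hle hg) (hH hg)
    refine ⟨((A : Matrix (Fin m) (Fin m) F) *ᵥ y, (B : Matrix (Fin l) (Fin l) F) *ᵥ z), ?_⟩
    rw [hgv]
    funext p
    simp only [Matrix.mulVec, dotProduct, Fintype.sum_prod_type, Matrix.kroneckerMap_apply, Finset.sum_mul,
      Finset.mul_sum]
    rw [Finset.sum_comm]
    exact Finset.sum_congr rfl fun a _ => Finset.sum_congr rfl fun b _ => by ring

/-- A unit system spanning the algebra of an `H`-normalised group of isometries gives a geometric structure, or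
absolute irreducibility. -/
theorem tensor_or_abs [Nonempty ι] (hG : Alt G) {H N : Subgroup (GL ι F)} (hirr : Irred H) (hH : H ≤ Isom G)
    (hN : N ≤ Isom G) (hNn : NormalizedBy H N) {m : ℕ} {e : Fin m → Fin m → Matrix ι ι F} (hm : 2 ≤ m)
    (he : IsUnitSys e) (hemem : ∀ a b, e a b ∈ algOf N) (hspan : ∀ x ∈ algOf N, x ∈ unitSpan e) :
    InGeometric G H ∨ ActsAbsolutelyIrreducibly (matrixSet N) := by
  classical
  obtain ⟨l, ε, P, hl, hle, h1, hiff⟩ := le_tensorCoords (H := H) (by omega : 0 < m) he (fun g hg a c =>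
    hspan _ (conj_mem_algOf (fun x hx => hNn g hg x hx) (hemem a c)))
  have hmem : ∀ M ∈ unitSpan e, M ∈ algOf N := fun M hM =>
    (Submodule.span_le (p := Subalgebra.toSubmodule (algOf N))).mpr (by rintro _ ⟨ab, rfl⟩; exact hemem _ _) hM
  by_cases hl1 : l = 1
  · right
    have htop : ∀ M, M ∈ algOf N := fun M => hmem M (h1 hl1 M)
    refine ⟨irred_iff.mpr fun W hW => ?_, fun M hM => ?_⟩
    · by_cases hb : W = ⊥
      · exact Or.inl hb
      right
      obtain ⟨w, hw, hw0⟩ := Submodule.exists_mem_ne_zero_of_ne_bot hb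
      obtain ⟨j, hj⟩ := Function.ne_iff.mp hw0
      rw [eq_top_iff]
      intro v _
      have h2 := algOf_invariant hW (htop (Matrix.of fun a b => if b = j then v a * (w j)⁻¹ else 0)) w hw
      have h3 : (Matrix.of fun a b => if b = j then v a * (w j)⁻¹ else 0) *ᵥ w = v := by
        funext a
        simp [Matrix.mulVec, dotProduct, mul_assoc, inv_mul_cancel₀ (show w j ≠ 0 from hj)]
      rwa [h3] at h2
    · have hc : M ∈ commutant N := mem_commutant.mpr fun x hx => (hM _ (mem_matrixSet.mpr ⟨x, hx, rfl⟩)).symm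
      obtain ⟨c, hc'⟩ := (Matrix.mem_range_scalar_iff_commute_single'.mpr fun i j =>
        (algOf_comm (htop _) hc).symm : M ∈ Set.range (Matrix.scalar ι))
      exact ⟨c, by rw [← hc', Matrix.scalar_apply, Matrix.smul_one_eq_diagonal]⟩
  left
  obtain ⟨G₁, C, s, hfac, hd1, hd2, hs, hs1, hs2⟩ := exists_factor hG ε P fun A => by
    obtain ⟨A', hA'⟩ := (hiff _).mp (hspan _ (adj_mem_algOf hG hN (hmem _ ((hiff _).mpr ⟨A, rfl⟩))))
    exact ⟨A', hA'.symm⟩
  have hswap := hle.trans (tensorProduct_swap ε P)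
  have hfac' := gramIn_swap ε P hfac
  by_cases hodd : Odd (Fintype.card F)
  · rcases hs with hs | hs <;> subst hs
    · exact tensor_odd hG hodd hH hm hswap hfac' hd2 hd1 (by rw [hs2, neg_one_smul]) (by rw [hs1, one_smul])
    · exact tensor_odd hG hodd hH (by omega) hle hfac hd1 hd2 (by rw [hs1, neg_one_smul])
        (by rw [hs2, neg_neg, one_smul])
  have hneg : (-1 : F) = 1 := by linear_combination (-1 : F) * two_eq_zero hodd
  have hs1' : G₁ᵀ = G₁ := by rcases hs with hs | hs <;> rw [hs1, hs] <;> simp [hneg]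
  have hs2' : Cᵀ = C := by rcases hs with hs | hs <;> rw [hs2, hs] <;> simp [hneg]
  exact tensor_even hG hodd hH hle hfac hd1 hd2 hs1' (alternating_factor hodd hirr hH hm hle hfac hd1 hd2 hs1')
    hs2' (alternating_factor hodd hirr hH (by omega) hswap hfac' hd2 hd1 hs2')

end Cfsg.Agent.Lib.AschbacherSp
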