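import Cfsg.Agent.Lib.AschbacherSp.WreathCoords
import Cfsg.Agent.Lib.AschbacherSp.Tensor
import Cfsg.Agent.Lib.Spectrum.SL25Recognition

/-!
Tensor powers compatible with an alternating matrix.
-/

set_option autoImplicit false
set_option linter.style.haveILetI false
set_option linter.unusedSectionVars false

namespace Cfsg.Agent.Lib.AschbacherSp

open Cfsg.Geo Cfsg.Agent.Lib.PrimeDim.Basic Cfsg.Agent.Lib.Aschbacher
open scoped Matrix MatrixGroups Kronecker

variable {ι : Type} [Fintype ι] [DecidableEq ι] {F : Type*} [Field F]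
variable {m k : ℕ}

local notation "Small" => Matrix (Fin m) (Fin m) F
local notation "Idx" => (Fin k → Fin m)

/-- A matrix commuting with every factor commutes with every pure tensor. -/
theorem comm_tens {M : Matrix Idx Idx F} (h : ∀ (i : Fin k) (A : Small), M * injL i A = injL i A * M)
    (B : Fin k → Small) : M * tens B = tens B * M := by
  classical
  have key : ∀ s : Finset (Fin k), M * tens (fun j => if j ∈ s then B j else 1) =
      tens (fun j => if j ∈ s then B j else 1) * M := by
    intro s
    induction s using Finset.induction with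
    | empty => simp [tens_one]
    | insert i s hi ih =>
      have e : tens (fun j => if j ∈ insert i s then B j else 1) =
          injL i (B i) * tens (fun j => if j ∈ s then B j else 1) := by
        rw [injL_apply, tens_mul]
        congr 1
        funext j
        rcases eq_or_ne j i with rfl | hj
        · simp [hi]
        · simp [hj, Function.update_of_ne hj]
      rw [e, ← mul_assoc, h, mul_assoc, ih, mul_assoc]
  simpa using key Finset.univ

theorem tens_single (x y : Fin k → Fin m) :
    tens (fun i => Matrix.single (x i) (y i) (1 : F)) = Matrix.single x y 1 := by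
  ext u v
  rw [tens_apply, Matrix.single_apply]
  by_cases h : x = u ∧ y = v
  · obtain ⟨rfl, rfl⟩ := h
    simp
  · rw [if_neg h]
    obtain ⟨i, hi⟩ : ∃ i, ¬ (x i = u i ∧ y i = v i) := by
      by_contra! hc
      exact h ⟨funext fun i => (hc i).1, funext fun i => (hc i).2⟩
    exact Finset.prod_eq_zero (Finset.mem_univ i) (by rw [Matrix.single_apply, if_neg hi])

theorem scalar_of_comm_factors {M : Matrix Idx Idx F}
    (h : ∀ (i : Fin k) (A : Small), M * injL i A = injL i A * M) : ∃ c : F, M = c • 1 := by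
  obtain ⟨c, hc⟩ := (Matrix.mem_range_scalar_iff_commute_single'.mpr fun x y => by
    rw [← tens_single]; exact (comm_tens h _).symm : M ∈ Set.range (Matrix.scalar Idx))
  exact ⟨c, by rw [← hc, Matrix.scalar_apply, Matrix.smul_one_eq_diagonal]⟩

theorem tens_smul_update (A : Fin k → Small) (i : Fin k) (c : F) :
    tens (Function.update A i (c • A i)) = c • tens A := by
  ext x y
  rw [tens_update, Matrix.smul_apply, Matrix.smul_apply, smul_eq_mul, smul_eq_mul, tens_apply,
    ← Finset.mul_prod_erase _ _ (Finset.mem_univ i), mul_assoc]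

theorem tens_smul (A : Fin k → Small) (c : Fin k → F) :
    tens (fun i => c i • A i) = (∏ i, c i) • tens A := by
  ext x y
  simp only [tens_apply, Matrix.smul_apply, smul_eq_mul, Finset.prod_mul_distrib]

theorem tens_inv (A : Fin k → GL (Fin m) F) :
    tens (fun i => (A i : Small)) * tens (fun i => (((A i)⁻¹ : GL (Fin m) F) : Small)) = 1 := by
  rw [tens_mul, ← tens_one]
  congr 1
  funext i
  exact Units.mul_inv _

/-- An automorphism of a matrix algebra given on the standard units. -/
theorem exists_conj_of_mul (hm : 0 < m) (ψ : Small →ₗ[F] Small) (hmul : ∀ A B, ψ (A * B) = ψ A * ψ B)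
    (h1 : ψ 1 = 1) : ∃ L : GL (Fin m) F, ∀ A, ψ A = (L : Small) * A * ((L⁻¹ : GL (Fin m) F) : Small) := by
  obtain ⟨L, hL⟩ := exists_conj_units hm (fun a c => ψ (Matrix.single a c 1)) (fun a b c d => by
    rw [← hmul]
    split_ifs with h
    · subst h; rw [Matrix.single_mul_single_same, mul_one]
    · rw [Matrix.single_mul_single_of_ne _ _ _ _ h, map_zero]) (by
    rw [← map_sum, Matrix.sum_single_eq_diagonal, Matrix.diagonal_one, h1])
  refine ⟨L, fun A => ?_⟩
  let R : Small →ₗ[F] Small :=
    (LinearMap.mulLeft F (L : Small)).comp (LinearMap.mulRight F ((L⁻¹ : GL (Fin m) F) : Small))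
  have hR : ψ = R := by
    refine Matrix.ext_linearMap F fun a c => LinearMap.ext_ring ?_
    show ψ (Matrix.single a c 1) = (L : Small) * (Matrix.single a c 1 * ((L⁻¹ : GL (Fin m) F) : Small))
    rw [← mul_assoc, hL, Units.mul_inv_cancel_right]
  rw [hR]
  simp [R, mul_assoc]

theorem injL_transpose (i : Fin k) (A : Small) : (injL i A)ᵀ = injL i Aᵀ := by
  rw [injL_apply, injL_apply, tens_transpose]
  congr 1
  funext j
  rcases eq_or_ne j i with rfl | h <;> simp [*]

theorem central_scalar {M : Small} (h : ∀ A, M * A = A * M) : ∃ c : F, M = c • 1 := by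
  obtain ⟨c, hc⟩ := (Matrix.mem_range_scalar_iff_commute_single'.mpr fun a b => (h _).symm :
    M ∈ Set.range (Matrix.scalar (Fin m)))
  exact ⟨c, by rw [← hc, Matrix.scalar_apply, Matrix.smul_one_eq_diagonal]⟩

/-- Pure tensor vectors. -/
def pureVec (y : Fin k → Fin m → F) : Idx → F := fun x => ∏ i, y i (x i)

theorem tens_mulVec_pure (A : Fin k → Small) (y : Fin k → Fin m → F) :
    tens A *ᵥ pureVec y = pureVec fun i => A i *ᵥ y i := by
  funext x
  simp only [Matrix.mulVec, dotProduct, tens_apply, pureVec]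
  rw [Finset.prod_univ_sum, Fintype.piFinset_univ]
  exact Finset.sum_congr rfl fun z _ => Finset.prod_mul_distrib.symm

theorem gramForm_tens_pure (A : Fin k → Small) (y : Fin k → Fin m → F) :
    gramForm (tens A) (pureVec y) (pureVec y) = ∏ i, gramForm (A i) (y i) (y i) := by
  rw [gramForm, tens_mulVec_pure]
  simp only [gramForm, dotProduct, pureVec]
  rw [Finset.prod_univ_sum, Fintype.piFinset_univ]
  exact Finset.sum_congr rfl fun z _ => Finset.prod_mul_distrib.symm

theorem span_pure : Submodule.span F (Set.range (pureVec (F := F) (m := m) (k := k))) = ⊤ := by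
  classical
  rw [eq_top_iff, ← (Pi.basisFun F Idx).span_eq, Submodule.span_le]
  rintro _ ⟨x, rfl⟩
  refine Submodule.subset_span ⟨fun i => Pi.single (x i) 1, ?_⟩
  funext z
  rw [Pi.basisFun_apply, pureVec]
  rcases eq_or_ne z x with rfl | h
  · simp
  · obtain ⟨i, hi⟩ := Function.ne_iff.mp h
    rw [Pi.single_eq_of_ne h, Finset.prod_eq_zero (Finset.mem_univ i)]
    simp [hi]

variable [Fintype F]

/-- The standard wreath product permutes the pure tensor vectors. -/
theorem standard_pure {g : GL Idx F} (hg : g ∈ tensorWreathStandard m k F) :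
    ∀ s ∈ Set.range (pureVec (F := F) (m := m) (k := k)),
      (g : Matrix Idx Idx F) *ᵥ s ∈ Set.range (pureVec (F := F) (m := m) (k := k)) := by
  classical
  haveI : Finite Idx := inferInstance
  induction hg using Subgroup.closure_induction with
  | mem g hg =>
    rintro _ ⟨y, rfl⟩
    rcases hg with ⟨gs, hgs⟩ | ⟨σ, hσ⟩
    · refine ⟨fun i => (gs i : Small) *ᵥ y i, ?_⟩
      rw [show (g : Matrix Idx Idx F) = tens (fun i => (gs i : Small)) from Matrix.ext hgs, tens_mulVec_pure]
    · refine ⟨fun j => y (σ.symm j), funext fun x => ?_⟩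
      rw [show (g : Matrix Idx Idx F) = pm σ from Matrix.ext hσ]
      simp only [Matrix.mulVec, dotProduct, pm, Matrix.of_apply, ite_mul, one_mul, zero_mul, Finset.sum_ite_eq',
        Finset.mem_univ, if_true, pureVec]
      rw [← Equiv.prod_comp σ]
      simp
  | one => intro s hs; rwa [Units.val_one, Matrix.one_mulVec]
  | mul a b _ _ ha hb =>
    intro s hs
    rw [Units.val_mul, ← Matrix.mulVec_mulVec]
    exact ha _ (hb s hs)
  | inv a _ ha =>
    intro s hs
    let φ : Set.range (pureVec (F := F) (m := m) (k := k)) → Set.range (pureVec (F := F) (m := m) (k := k)) :=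
      fun s => ⟨_, ha s s.2⟩
    have hinj : Function.Injective φ := fun u v h => Subtype.ext (by
      have := congrArg (fun w => ((a⁻¹ : GL Idx F) : Matrix Idx Idx F) *ᵥ w) (congrArg Subtype.val h)
      simpa [φ, inv_mulVec_cancel] using this)
    obtain ⟨u, hu⟩ := (Finite.injective_iff_surjective.mp hinj) ⟨s, hs⟩
    rw [← show (a : Matrix Idx Idx F) *ᵥ (u : Idx → F) = s from congrArg Subtype.val hu, inv_mulVec_cancel]
    exact u.2

variable {G : Matrix ι ι F}

/-- Factors stable under adjoints and transitively conjugated give class seven or a quadratic form. -/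
theorem wreath_case [Nonempty ι] (hG : Alt G) {H N : Subgroup (GL ι F)} (hH : H ≤ Isom G) (hN : N ≤ Isom G)
    (hm : 2 ≤ m) (hk : 2 ≤ k) {ε : ι ≃ (Fin k → Fin m)} {P : GL ι F} {T : Fin k → Subgroup (GL ι F)}
    (hle : H ≤ tensorWreathSubgroup m k ε P) (hT : ∀ i, T i ≤ N ∧ ⁅T i, T i⁆ = T i ∧ ¬ T i ≤ scalars ι F)
    (halg : ∀ i M, M ∈ algOf (T i) ↔ ∃ A, coordAlg ε P (injL i A) = M)
    (htr : ∀ i j, ∃ g ∈ H, ∀ x ∈ T i, g * x * g⁻¹ ∈ T j) : InGeometric G H := by
  classical
  have hm0 : 0 < m := by omega
  haveI : Nonempty (Fin m) := ⟨⟨0, hm0⟩⟩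
  set G' := gramIn G ε P with hG'
  have hG'a : Alt G' := gramIn_alt hG ε P
  have hadj : ∀ i A, ∃ A', adj G' (injL i A) = injL i A' := by
    intro i A
    obtain ⟨A', hA'⟩ := (halg i _).mp (adj_mem_algOf hG ((hT i).1.trans hN) ((halg i _).mpr ⟨A, rfl⟩))
    rw [adj_coord hG] at hA'
    exact ⟨A', ((coordAlg ε P).injective hA').symm⟩
  choose φ hφ using hadj
  have hinj := fun i => injL_injective (F := F) hm0 (k := k) i
  -- the adjoint on a factor
  let ψ : Fin k → Small →ₗ[F] Small := fun i =>
    { toFun := fun A => φ i Aᵀ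
      map_add' := fun A B => hinj i (by
        rw [map_add, ← hφ, ← hφ, ← hφ, Matrix.transpose_add, map_add, adj_add hG'a])
      map_smul' := fun c A => hinj i (by
        rw [RingHom.id_apply, map_smul, ← hφ, ← hφ, Matrix.transpose_smul, map_smul, adj_smul hG'a]) }
  have hψ : ∀ i A, injL i (ψ i A) = adj G' (injL i Aᵀ) := fun i A => (hφ i Aᵀ).symm
  have hexA := fun i => exists_conj_of_mul hm0 (ψ i) (fun A B => hinj i (by
    rw [hψ, injL_mul, hψ, hψ, Matrix.transpose_mul, injL_mul, adj_mul hG'a]))
    (hinj i (by rw [hψ, Matrix.transpose_one, injL_one, adj_one hG'a]))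
  choose L hL using hexA
  let K : Fin k → GL (Fin m) F := fun i => (L i)⁻¹
  have hrel : ∀ i A, Aᵀ * (K i : Small) = (K i : Small) * φ i A := by
    intro i A
    have := hL i Aᵀ
    rw [show ψ i Aᵀ = φ i A from by simp [ψ]] at this
    rw [this]
    simp [K, mul_assoc]
  set TK := tens (fun i => (K i : Small)) with hTK
  set TL := tens (fun i => (L i : Small)) with hTL
  have hKL : TK * TL = 1 := by
    rw [hTK, hTL, tens_mul, ← tens_one]; congr 1; funext i; simp [K]
  have hLK : TL * TK = 1 := by
    rw [hTK, hTL, tens_mul, ← tens_one]; congr 1; funext i; simp [K]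
  have hrelG : ∀ i A, (injL i A)ᵀ * G' = G' * injL i (φ i A) := fun i A => by
    rw [← hφ, adj, mul_assoc G'⁻¹, Matrix.mul_nonsing_inv_cancel_left _ _ hG'a.unit]
  have hrelT : ∀ i A, (injL i A)ᵀ * TK = TK * injL i (φ i A) := fun i A => by
    rw [injL_transpose, injL_apply, injL_apply, hTK, tens_mul, tens_mul]
    congr 1
    funext j
    rcases eq_or_ne j i with rfl | h
    · simp [hrel]
    · simp [Function.update_of_ne h]
  obtain ⟨c, hc⟩ := scalar_of_comm_factors (M := G' * TL) fun i A => by
    have h1 := hrelT i Aᵀ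
    have h2 := hrelG i Aᵀ
    rw [injL_transpose, Matrix.transpose_transpose] at h1 h2
    calc G' * TL * injL i A = G' * (TL * (injL i A * TK) * TL) := by
          rw [mul_assoc TL, mul_assoc (injL i A), hKL, mul_one, mul_assoc]
      _ = G' * (injL i (φ i Aᵀ) * TL) := by rw [h1, ← mul_assoc TL, hLK, one_mul]
      _ = injL i A * (G' * TL) := by rw [← mul_assoc, ← h2, mul_assoc]
  have hG'eq : G' = c • TK := by
    calc G' = G' * TL * TK := by rw [mul_assoc, hLK, mul_one]
      _ = _ := by rw [hc, Matrix.smul_mul, one_mul]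
  have hc0 : c ≠ 0 := fun h => hG'a.det_ne (by
    haveI : Nonempty Idx := ⟨fun _ => ⟨0, hm0⟩⟩
    rw [hG'eq, h, zero_smul, Matrix.det_zero])
  -- transport of the factors
  let i₀ : Fin k := ⟨0, by omega⟩
  set K₀ := (K i₀ : Small) with hK₀
  have hsim : ∀ j, ∃ (S : GL (Fin m) F) (d : F), d ≠ 0 ∧ (S : Small)ᵀ * (K j : Small) * (S : Small) = d • K₀ := by
    intro j
    obtain ⟨g, hg, hgT⟩ := htr i₀ j
    set g' := (coordGL ε P).symm g with hg'
    have hmap : ∀ A, ∃ B, (g' : Matrix Idx Idx F) * injL i₀ A * ((g'⁻¹ : GL Idx F) : Matrix Idx Idx F) = injL j B := by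
      intro A
      obtain ⟨B, hB⟩ := (halg j _).mp (conj_mem_algOf hgT ((halg i₀ _).mpr ⟨A, rfl⟩))
      refine ⟨B, (coordAlg ε P).injective ?_⟩
      rw [hg', coordGL_symm_conj, hB]
    choose B hB using hmap
    let β : Small →ₗ[F] Small :=
      { toFun := B
        map_add' := fun A A' => hinj j (by rw [map_add, ← hB, ← hB, ← hB, map_add, mul_add, add_mul])
        map_smul' := fun a A => hinj j (by
          rw [RingHom.id_apply, map_smul, ← hB, ← hB, map_smul, Matrix.mul_smul, Matrix.smul_mul]) }
    obtain ⟨S, hS⟩ := exists_conj_of_mul hm0 β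
      (fun A A' => hinj j (by
        show injL j (B (A * A')) = injL j (B A * B A')
        rw [injL_mul, ← hB, ← hB, ← hB, injL_mul]
        simp [mul_assoc]))
      (hinj j (by show injL j (B 1) = _; rw [← hB, injL_one, mul_one, Units.mul_inv, injL_one]))
    have hcomm : ∀ A, φ j (B A) = B (φ i₀ A) := fun A => hinj j (by
      rw [← hφ, ← hB, adj_conj hG'a (symm_isom (hH hg) ε P), hφ, hB])
    -- `Sᵀ K_j S K₀⁻¹` is central
    have key : ∀ A : Small, (S : Small)ᵀ * (K j : Small) * (S : Small) * (L i₀ : Small) * Aᵀ =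
        Aᵀ * ((S : Small)ᵀ * (K j : Small) * (S : Small) * (L i₀ : Small)) := by
      intro A
      have e1 : φ j (B A) = (S : Small) * φ i₀ A * ((S⁻¹ : GL (Fin m) F) : Small) := by rw [hcomm]; exact hS _
      have e2 := hrel j (B A)
      rw [e1, show B A = (S : Small) * A * ((S⁻¹ : GL (Fin m) F) : Small) from hS A, Matrix.transpose_mul,
        Matrix.transpose_mul] at e2
      have e3 := congrArg (fun M => (S : Small)ᵀ * M * (S : Small)) e2
      rw [show (S : Small)ᵀ * (((S⁻¹ : GL (Fin m) F) : Small)ᵀ * (Aᵀ * (S : Small)ᵀ) * (K j : Small)) * (S : Small) =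
        ((S : Small)ᵀ * ((S⁻¹ : GL (Fin m) F) : Small)ᵀ) * (Aᵀ * ((S : Small)ᵀ * (K j : Small) * (S : Small))) by
          simp [mul_assoc],
        ← Matrix.transpose_mul, Units.inv_mul, Matrix.transpose_one, one_mul] at e3
      have e4 : φ i₀ A = (L i₀ : Small) * Aᵀ * (K i₀ : Small) := by
        have := hL i₀ Aᵀ
        rw [show ψ i₀ Aᵀ = φ i₀ A from by simp [ψ]] at this
        exact this
      rw [e4] at e3
      calc (S : Small)ᵀ * (K j : Small) * (S : Small) * (L i₀ : Small) * Aᵀ
          = (S : Small)ᵀ * ((K j : Small) * ((S : Small) * ((L i₀ : Small) * Aᵀ * (K i₀ : Small)) *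
              ((S⁻¹ : GL (Fin m) F) : Small))) * (S : Small) * (L i₀ : Small) := by simp [K, mul_assoc]
        _ = _ := by rw [← e3]; simp [mul_assoc]
    obtain ⟨d, hd⟩ := central_scalar (M := (S : Small)ᵀ * (K j : Small) * (S : Small) * (L i₀ : Small)) fun A => by
      have := key Aᵀ
      rwa [Matrix.transpose_transpose] at this
    have hd' : (S : Small)ᵀ * (K j : Small) * (S : Small) = d • K₀ := by
      calc (S : Small)ᵀ * (K j : Small) * (S : Small)
          = (S : Small)ᵀ * (K j : Small) * (S : Small) * (L i₀ : Small) * (K i₀ : Small) := by simp [K, mul_assoc]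
        _ = _ := by rw [hd, Matrix.smul_mul, one_mul]
    refine ⟨S, d, fun h0 => ?_, hd'⟩
    have hdet : ((S : Small)ᵀ * (K j : Small) * (S : Small)).det ≠ 0 := by
      rw [Matrix.det_mul, Matrix.det_mul, Matrix.det_transpose]
      have hS0 := ((Matrix.isUnit_iff_isUnit_det _).mp S.isUnit).ne_zero
      exact mul_ne_zero (mul_ne_zero hS0 ((Matrix.isUnit_iff_isUnit_det _).mp (K j).isUnit).ne_zero) hS0
    rw [hd', h0, zero_smul, Matrix.det_zero] at hdet
    exact hdet rfl
  choose S d hd0 hS using hsim
  -- new coordinates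
  let Sg : GL Idx F := ⟨tens fun i => (S i : Small), tens fun i => (((S i)⁻¹ : GL (Fin m) F) : Small), tens_inv S, by
    have := tens_inv (fun i => (S i)⁻¹)
    simpa using this⟩
  let P' : GL ι F := P * glReindex ε.symm Sg
  set c' := c * ∏ i, d i with hc'
  have hc'0 : c' ≠ 0 := mul_ne_zero hc0 (Finset.prod_ne_zero_iff.mpr fun i _ => hd0 i)
  have hgram : gramIn G ε P' = c' • tens (fun _ : Fin k => K₀) := by
    have e1 : gramIn G ε P' = (Sg : Matrix Idx Idx F)ᵀ * G' * (Sg : Matrix Idx Idx F) := by
      refine gramForm_ext fun x y => ?_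
      rw [← gramForm_in, ← gramForm_apply, ← gramForm_in]
      have hx : ∀ x : Idx → F, (P' : Matrix ι ι F) *ᵥ (x ∘ ε) =
          (P : Matrix ι ι F) *ᵥ (((Sg : Matrix Idx Idx F) *ᵥ x) ∘ ε) := fun x => by
        rw [show (P' : Matrix ι ι F) = (P : Matrix ι ι F) *
          (Sg : Matrix Idx Idx F).submatrix ε ε from rfl, ← Matrix.mulVec_mulVec, Matrix.submatrix_mulVec_equiv]
        congr 2
        rw [show (x ∘ ε) ∘ ε.symm = x from funext fun z => by simp]
      rw [hx, hx]
    rw [e1, hG'eq, Matrix.mul_smul, Matrix.smul_mul, hTK]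
    show c • ((tens fun i => (S i : Small))ᵀ * tens (fun i => (K i : Small)) * tens fun i => (S i : Small)) = _
    rw [tens_transpose, tens_mul, tens_mul]
    simp only [hS]
    rw [tens_smul, smul_smul]
  have hP' : tensorWreathSubgroup m k ε P ≤ tensorWreathSubgroup m k ε P' := by
    rintro _ ⟨_, ⟨g, hg, rfl⟩, rfl⟩
    have hSg : Sg ∈ tensorWreathStandard m k F := Subgroup.subset_closure (Or.inl ⟨S, fun x y => rfl⟩)
    refine ⟨_, ⟨Sg⁻¹ * g * Sg, mul_mem (mul_mem (inv_mem hSg) hg) hSg, rfl⟩, ?_⟩
    simp [P', mul_assoc]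
  have hle' : H ≤ tensorWreathSubgroup m k ε P' := hle.trans hP'
  have hA' : Alt (gramIn G ε P') := gramIn_alt hG ε P'
  have hK0u : K₀.det ≠ 0 := ((Matrix.isUnit_iff_isUnit_det _).mp (K i₀).isUnit).ne_zero
  obtain ⟨a₁, b₁, hab⟩ : ∃ a b, K₀ a b ≠ 0 := by
    by_contra! hc2
    exact hK0u (by rw [show K₀ = 0 from Matrix.ext hc2, Matrix.det_zero])
  -- symmetry of the common factor
  have hent : ∀ x y : Idx, (∏ i, K₀ (y i) (x i)) = -∏ i, K₀ (x i) (y i) := by
    intro x y
    have h := congrFun (congrFun hA'.skew x) y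
    rw [hgram, Matrix.transpose_apply, Matrix.neg_apply, Matrix.smul_apply, Matrix.smul_apply, tens_apply, tens_apply,
      smul_eq_mul, smul_eq_mul, ← mul_neg] at h
    exact mul_left_cancel₀ hc'0 h
  have hne : K₀ b₁ a₁ ≠ 0 := fun h0 => by
    have h := hent (fun _ => a₁) (fun _ => b₁)
    simp only [Finset.prod_const, h0, Finset.card_univ, Fintype.card_fin] at h
    rw [zero_pow (by omega : k ≠ 0), eq_comm, neg_eq_zero] at h
    exact pow_ne_zero _ hab h
  set s : F := K₀ b₁ a₁ / K₀ a₁ b₁ with hs
  have hsK : K₀ᵀ = s • K₀ := by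
    ext a b
    have h := hent (Function.update (fun _ => a₁) i₀ a) (Function.update (fun _ => b₁) i₀ b)
    have h1 := hent (fun _ => a₁) (fun _ => b₁)
    rw [← Finset.mul_prod_erase _ _ (Finset.mem_univ i₀), ← Finset.mul_prod_erase _ _ (Finset.mem_univ i₀)] at h h1
    have hp : ∀ (u v : Fin m), (∏ j ∈ Finset.univ.erase i₀,
        K₀ (Function.update (fun _ => u) i₀ (a) j) (Function.update (fun _ => v) i₀ b j)) =
        ∏ j ∈ Finset.univ.erase i₀, K₀ u v := fun u v =>
      Finset.prod_congr rfl fun j hj => by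
        rw [Function.update_of_ne (Finset.ne_of_mem_erase hj), Function.update_of_ne (Finset.ne_of_mem_erase hj)]
    have hp' : (∏ j ∈ Finset.univ.erase i₀,
        K₀ (Function.update (fun _ => b₁) i₀ b j) (Function.update (fun _ => a₁) i₀ a j)) =
        ∏ j ∈ Finset.univ.erase i₀, K₀ b₁ a₁ :=
      Finset.prod_congr rfl fun j hj => by
        rw [Function.update_of_ne (Finset.ne_of_mem_erase hj), Function.update_of_ne (Finset.ne_of_mem_erase hj)]
    rw [hp, hp', Function.update_self, Function.update_self] at h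
    set R := ∏ j ∈ Finset.univ.erase i₀, K₀ a₁ b₁ with hR
    set R' := ∏ j ∈ Finset.univ.erase i₀, K₀ b₁ a₁ with hR'
    have hR0 : R ≠ 0 := Finset.prod_ne_zero_iff.mpr fun _ _ => hab
    have hR'0 : R' ≠ 0 := Finset.prod_ne_zero_iff.mpr fun _ _ => hne
    rw [Matrix.transpose_apply, Matrix.smul_apply, smul_eq_mul, hs]
    field_simp
    refine mul_left_cancel₀ (mul_ne_zero hR0 hR'0) ?_
    linear_combination (R * K₀ a₁ b₁) * h - (R * K₀ a b) * h1
  have hsk : s ^ k = -1 := by
    have h := hent (fun _ => a₁) (fun _ => b₁)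
    simp only [Finset.prod_const, Finset.card_univ, Fintype.card_fin] at h
    rw [hs, div_pow, h, neg_div, div_self (pow_ne_zero _ hab)]
  have hsq : s * s = 1 := by
    have h := congrArg Matrix.transpose hsK
    rw [Matrix.transpose_transpose, Matrix.transpose_smul, hsK, smul_smul] at h
    have h1 := congrFun (congrFun h a₁) b₁
    rw [Matrix.smul_apply, smul_eq_mul] at h1
    exact (mul_eq_right₀ hab).mp h1.symm
  have hdiag : ∀ a, K₀ a a = 0 := fun a => by
    have h := hA'.diag (fun _ => a)
    rw [hgram, Matrix.smul_apply, tens_apply, smul_eq_mul, Finset.prod_const] at h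
    exact eq_zero_of_pow_eq_zero ((mul_eq_zero.mp h).resolve_left hc'0)
  by_cases hodd : Odd (Fintype.card F)
  · have hneg : s = -1 ∧ Odd k := by
      rcases mul_self_eq_one_iff.mp hsq with h | h
      · exfalso
        rw [h, one_pow] at hsk
        exact two_ne_zero' hodd (by linear_combination hsk)
      · refine ⟨h, ?_⟩
        rcases Nat.even_or_odd k with he | ho
        · exfalso
          rw [h, he.neg_one_pow] at hsk
          exact two_ne_zero' hodd (by linear_combination hsk)
        · exact ho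
    have hskew : K₀ᵀ = -K₀ := by rw [hsK, hneg.1, neg_one_smul]
    have h3 : 3 ≤ k := by obtain ⟨j, hj⟩ := hneg.2; omega
    refine InGeometric.wreath hodd hneg.2 h3 ?_
      (isSymplectic_gram hskew (gramForm_self_eq_zero hskew hdiag) hK0u) ⟨c', hc'0, fun x y => ?_⟩ hle'
    · -- over the field of three elements the factors would be solvable
      rintro ⟨hq, hm2⟩
      subst hm2
      haveI hsolv : Group.IsSolvable (GL (Fin 2) F) :=
        Cfsg.Agent.Lib.Spectrum.isSolvable_of_card_lt_sixty 48
          (by rw [Matrix.card_GL_field, hq, Fin.prod_univ_two]; rfl) (by norm_num)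
      obtain ⟨-, hperf, hns⟩ := hT i₀
      have hA : ∀ x : T i₀, ∃ A : Matrix (Fin 2) (Fin 2) F,
          coordAlg ε P (injL i₀ A) = ((x : GL ι F) : Matrix ι ι F) := fun x =>
        (halg i₀ _).mp (Algebra.subset_adjoin (mem_matrixSet.mpr ⟨x, x.2, rfl⟩))
      choose A hA using hA
      have hA1 : A 1 = 1 := hinj i₀ ((coordAlg ε P).injective (by rw [hA, injL_one, map_one]; rfl))
      have hAm : ∀ x y, A (x * y) = A x * A y := fun x y =>
        hinj i₀ ((coordAlg ε P).injective (by rw [hA, injL_mul, map_mul, hA, hA]; rfl))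
      let ρ : T i₀ →* Matrix (Fin 2) (Fin 2) F := { toFun := A, map_one' := hA1, map_mul' := hAm }
      have hρinj : Function.Injective ρ := fun x y h => Subtype.ext (Units.ext (by
        rw [← hA x, ← hA y, show A x = A y from h]))
      have hρu : Function.Injective ρ.toHomUnits := fun x y h =>
        hρinj (congrArg (fun u : (Matrix (Fin 2) (Fin 2) F)ˣ => (u : Matrix (Fin 2) (Fin 2) F)) h)
      haveI : Group.IsSolvable (T i₀) := Group.isSolvable_of_isSolvable_injective hρu
      have hbot : T i₀ = ⊥ := by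
        have hc : commutator (T i₀) = ⊤ := by
          apply Subgroup.map_injective (T i₀).subtype_injective
          rw [commutator_def, Subgroup.map_commutator, ← MonoidHom.range_eq_map, Subgroup.range_subtype]
          exact hperf
        haveI : Subsingleton (T i₀) := by
          rcases subsingleton_or_nontrivial (T i₀) with hs' | hn'
          · exact hs'
          · exact absurd hc (IsSolvable.commutator_lt_top_of_nontrivial _).ne
        exact Subgroup.eq_bot_of_subsingleton _
      exact hns (hbot ▸ bot_le)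
    · rw [gramForm_in, hgram, gramMatrix_gramForm, gramForm, Matrix.smul_mulVec, dotProduct_smul, smul_eq_mul]
      congr 1
      simp [dotProduct, Matrix.mulVec, tens_apply, Finset.mul_sum, mul_assoc]
  -- characteristic two
  have hsym : K₀ᵀ = K₀ := by
    have h1 : (1 : F) = -1 := by linear_combination two_eq_zero hodd
    rcases mul_self_eq_one_iff.mp hsq with h | h <;> rw [hsK, h]
    · rw [one_smul]
    · rw [← h1, one_smul]
  refine of_vanishing hG hodd hH ε P' (U := c' • tens (Function.update (fun _ : Fin k => K₀) i₀ (upper K₀)))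
    ?_ (S := Set.range (pureVec (F := F) (m := m) (k := k))) span_pure ?_ ?_
  · rw [hgram, Matrix.transpose_smul, ← smul_add, tens_transpose]
    congr 1
    ext x y
    rw [show (fun i => (Function.update (fun _ : Fin k => K₀) i₀ (upper K₀) i)ᵀ) =
        Function.update (fun _ : Fin k => K₀) i₀ (upper K₀)ᵀ from by
      funext j
      rcases eq_or_ne j i₀ with rfl | h
      · simp
      · rw [Function.update_of_ne h, Function.update_of_ne h, hsym]]
    rw [Matrix.add_apply, tens_update, tens_update, tens_apply, ← add_mul,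
      ← Matrix.add_apply, upper_add hsym hdiag, ← Finset.mul_prod_erase _ _ (Finset.mem_univ i₀)]
  · rintro _ ⟨y, rfl⟩
    rw [gramForm, Matrix.smul_mulVec, dotProduct_smul, ← gramForm, gramForm_tens_pure]
    let i₁ : Fin k := ⟨1, by omega⟩
    have h01 : i₁ ≠ i₀ := fun h => by simp [i₁, i₀] at h
    rw [Finset.prod_eq_zero (Finset.mem_univ i₁), smul_zero]
    rw [Function.update_of_ne h01]
    refine gramForm_self_eq_zero ?_ hdiag _
    rw [hsym]; ext a b
    rw [Matrix.neg_apply]
    linear_combination K₀ a b * two_eq_zero hodd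
  · intro g hg
    obtain ⟨_, ⟨g₀, hg₀, rfl⟩, rfl⟩ := hle' hg
    rw [show (coordGL ε P').symm ((MulAut.conj P').toMonoidHom ((glReindex ε.symm).toMonoidHom g₀)) = g₀ from
      (coordGL ε P').symm_apply_apply g₀]
    exact standard_pure hg₀

end Cfsg.Agent.Lib.AschbacherSp
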