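import Cfsg.Agent.Lib.Aschbacher.Main
import Cfsg.Agent.Lib.Unitary.Basic

/-!
Groups of isometries of an alternating matrix: the adjoint involution, stability of the commutant and of the
enveloping algebra, invariant forms of absolutely irreducible groups.
-/

set_option autoImplicit false
set_option linter.style.haveILetI false
set_option linter.unusedSectionVars false

namespace Cfsg.Agent.Lib.AschbacherSp

open Cfsg.Geo Cfsg.Agent.Lib.PrimeDim.Basic Cfsg.Agent.Lib.PrimeDim.Fields Cfsg.Agent.Lib.Aschbacher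
open scoped Matrix MatrixGroups

variable {ι : Type} [Fintype ι] [DecidableEq ι] {F : Type*} [Field F]

/-- A non-degenerate alternating matrix. -/
structure Alt (G : Matrix ι ι F) : Prop where
  skew : Gᵀ = -G
  diag : ∀ i, G i i = 0
  det_ne : G.det ≠ 0

/-- The isometries of a matrix. -/
def Isom (G : Matrix ι ι F) : Subgroup (GL ι F) where
  carrier := {g | (g : Matrix ι ι F)ᵀ * G * (g : Matrix ι ι F) = G}
  mul_mem' {a b} ha hb := by
    show ((a * b : GL ι F) : Matrix ι ι F)ᵀ * G * ((a * b : GL ι F) : Matrix ι ι F) = G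
    have ha' : (a : Matrix ι ι F)ᵀ * G * (a : Matrix ι ι F) = G := ha
    have hb' : (b : Matrix ι ι F)ᵀ * G * (b : Matrix ι ι F) = G := hb
    calc _ = (b : Matrix ι ι F)ᵀ * ((a : Matrix ι ι F)ᵀ * G * (a : Matrix ι ι F)) * (b : Matrix ι ι F) := by
          rw [Units.val_mul, Matrix.transpose_mul]; simp only [mul_assoc]
      _ = G := by rw [ha', hb']
  one_mem' := by simp
  inv_mem' {a} ha := by
    have ha' : (a : Matrix ι ι F)ᵀ * G * (a : Matrix ι ι F) = G := ha
    show ((a⁻¹ : GL ι F) : Matrix ι ι F)ᵀ * G * ((a⁻¹ : GL ι F) : Matrix ι ι F) = G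
    conv_lhs => arg 1; arg 2; rw [← ha']
    rw [← mul_assoc, ← mul_assoc, ← Matrix.transpose_mul, Units.mul_inv, Matrix.transpose_one, one_mul,
      mul_assoc, Units.mul_inv, mul_one]

theorem mem_isom {G : Matrix ι ι F} {g : GL ι F} :
    g ∈ Isom G ↔ (g : Matrix ι ι F)ᵀ * G * (g : Matrix ι ι F) = G := Iff.rfl

theorem Alt.unit {G : Matrix ι ι F} (hG : Alt G) : IsUnit G.det := isUnit_iff_ne_zero.mpr hG.det_ne

theorem Alt.isSymplectic {G : Matrix ι ι F} (hG : Alt G) : IsSymplecticForm (gramForm G) :=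
  isSymplectic_gram hG.skew (gramForm_self_eq_zero hG.skew hG.diag) hG.det_ne

theorem gramForm_apply_isom {G : Matrix ι ι F} {g : GL ι F} (hg : g ∈ Isom G) (u v : ι → F) :
    gramForm G ((g : Matrix ι ι F) *ᵥ u) ((g : Matrix ι ι F) *ᵥ v) = gramForm G u v := by
  rw [gramForm_apply, mem_isom.mp hg]

theorem gramForm_single (G : Matrix ι ι F) (i j : ι) :
    gramForm G (Pi.single i 1) (Pi.single j 1) = G i j := by
  simp [gramForm, Matrix.mulVec_single_one]

theorem gramForm_ext {G G' : Matrix ι ι F} (h : ∀ u v, gramForm G u v = gramForm G' u v) : G = G' := by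
  ext i j
  simpa [gramForm_single] using h (Pi.single i 1) (Pi.single j 1)

/-- The adjoint of a matrix. -/
noncomputable def adj (G M : Matrix ι ι F) : Matrix ι ι F := G⁻¹ * Mᵀ * G

section adjoint

variable {G : Matrix ι ι F} (hG : Alt G)
include hG

theorem gramForm_adj (M : Matrix ι ι F) (u v : ι → F) :
    gramForm G (M *ᵥ u) v = gramForm G u (adj G M *ᵥ v) := by
  rw [adj, gramForm, gramForm, Matrix.mulVec_mulVec, ← mul_assoc, Matrix.mul_nonsing_inv_cancel_left _ _ hG.unit,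
    ← Matrix.mulVec_mulVec, Matrix.dotProduct_mulVec u Mᵀ, Matrix.vecMul_transpose]

theorem eq_adj {M M' : Matrix ι ι F} (h : ∀ u v, gramForm G (M *ᵥ u) v = gramForm G u (M' *ᵥ v)) :
    M' = adj G M := by
  refine Matrix.ext_of_mulVec_single fun j => ?_
  by_contra hne
  obtain ⟨x, hx⟩ := (hG.isSymplectic.nondegenerate _ (sub_ne_zero.mpr hne)).1
  apply hx
  rw [gramForm, Matrix.mulVec_sub, dotProduct_sub, sub_eq_zero]
  exact (h x _).symm.trans (gramForm_adj hG M x _)

theorem adj_one : adj G 1 = 1 := by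
  rw [adj, Matrix.transpose_one, mul_one, Matrix.nonsing_inv_mul _ hG.unit]

theorem adj_add (M N : Matrix ι ι F) : adj G (M + N) = adj G M + adj G N := by
  simp [adj, Matrix.mul_add, Matrix.add_mul]

theorem adj_smul (c : F) (M : Matrix ι ι F) : adj G (c • M) = c • adj G M := by
  simp [adj]

theorem adj_mul (M N : Matrix ι ι F) : adj G (M * N) = adj G N * adj G M := by
  simp only [adj, Matrix.transpose_mul, mul_assoc]
  rw [Matrix.mul_nonsing_inv_cancel_left _ _ hG.unit]

theorem adj_adj (M : Matrix ι ι F) : adj G (adj G M) = M := by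
  simp only [adj, Matrix.transpose_mul, Matrix.transpose_transpose, Matrix.transpose_nonsing_inv, hG.skew]
  have h1 : (-G)⁻¹ = -(G⁻¹) := Matrix.inv_eq_left_inv (by rw [neg_mul_neg, Matrix.nonsing_inv_mul _ hG.unit])
  rw [h1]
  simp only [neg_mul, mul_neg, neg_neg, mul_assoc]
  rw [Matrix.nonsing_inv_mul _ hG.unit, mul_one, ← mul_assoc, Matrix.nonsing_inv_mul _ hG.unit, one_mul]

theorem adj_isom {g : GL ι F} (hg : g ∈ Isom G) : adj G (g : Matrix ι ι F) = ((g⁻¹ : GL ι F) : Matrix ι ι F) := by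
  rw [adj, mul_assoc]
  calc G⁻¹ * ((g : Matrix ι ι F)ᵀ * G)
      = G⁻¹ * ((g : Matrix ι ι F)ᵀ * G * (g : Matrix ι ι F)) * ((g⁻¹ : GL ι F) : Matrix ι ι F) := by
        simp [mul_assoc]
    _ = _ := by rw [mem_isom.mp hg, Matrix.nonsing_inv_mul _ hG.unit, one_mul]

theorem adj_conj {g : GL ι F} (hg : g ∈ Isom G) (M : Matrix ι ι F) :
    adj G ((g : Matrix ι ι F) * M * ((g⁻¹ : GL ι F) : Matrix ι ι F))
      = (g : Matrix ι ι F) * adj G M * ((g⁻¹ : GL ι F) : Matrix ι ι F) := by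
  rw [adj_mul hG, adj_mul hG, adj_isom hG hg, adj_isom hG (inv_mem hg), inv_inv, mul_assoc]

theorem adj_mem_algOf {N : Subgroup (GL ι F)} (hN : N ≤ Isom G) {M : Matrix ι ι F} (hM : M ∈ algOf N) :
    adj G M ∈ algOf N := by
  induction hM using Algebra.adjoin_induction with
  | mem x hx =>
    obtain ⟨g, hg, rfl⟩ := mem_matrixSet.mp hx
    rw [adj_isom hG (hN hg)]
    exact Algebra.subset_adjoin (mem_matrixSet.mpr ⟨g⁻¹, inv_mem hg, rfl⟩)
  | algebraMap r =>
    rw [Algebra.algebraMap_eq_smul_one, adj_smul hG, adj_one hG, ← Algebra.algebraMap_eq_smul_one]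
    exact Subalgebra.algebraMap_mem _ r
  | add x y _ _ hx hy => rw [adj_add hG]; exact add_mem hx hy
  | mul x y _ _ hx hy => rw [adj_mul hG]; exact mul_mem hy hx

theorem adj_mem_commutant {N : Subgroup (GL ι F)} (hN : N ≤ Isom G) {M : Matrix ι ι F} (hM : M ∈ commutant N) :
    adj G M ∈ commutant N := by
  rw [mem_commutant]
  intro x hx
  have h := congrArg (adj G) (mem_commutant.mp hM x⁻¹ (inv_mem hx))
  rw [adj_mul hG, adj_mul hG, adj_isom hG (hN (inv_mem hx)), inv_inv] at h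
  exact h.symm

theorem adj_mem_centre {N : Subgroup (GL ι F)} (hN : N ≤ Isom G) {M : Matrix ι ι F} (hM : M ∈ centre N) :
    adj G M ∈ centre N := by
  rw [mem_centre] at hM ⊢
  refine ⟨adj_mem_commutant hG hN hM.1, fun c hc => ?_⟩
  have h := congrArg (adj G) (hM.2 _ (adj_mem_commutant hG hN hc))
  rw [adj_mul hG, adj_mul hG, adj_adj hG] at h
  exact h.symm

/-- An invariant bilinear form of an absolutely irreducible group of isometries is a multiple of the given one. -/
theorem invariant_unique {N : Subgroup (GL ι F)} (hN : N ≤ Isom G) (habs : ActsAbsolutelyIrreducibly (matrixSet N))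
    {X : Matrix ι ι F} (hX : ∀ x ∈ N, (x : Matrix ι ι F)ᵀ * X * (x : Matrix ι ι F) = X) :
    ∃ c : F, X = c • G := by
  obtain ⟨c, hc⟩ := habs.2 (G⁻¹ * X) (fun s hs => by
    obtain ⟨x, hx, rfl⟩ := mem_matrixSet.mp hs
    have h1 : (x : Matrix ι ι F)ᵀ = G * ((x⁻¹ : GL ι F) : Matrix ι ι F) * G⁻¹ := by
      rw [← adj_isom hG (hN hx), adj, mul_assoc G⁻¹, Matrix.mul_nonsing_inv_cancel_left _ _ hG.unit,
        Matrix.mul_nonsing_inv_cancel_right _ _ hG.unit]
    calc G⁻¹ * X * (x : Matrix ι ι F)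
        = (x : Matrix ι ι F) * (G⁻¹ * G * ((x⁻¹ : GL ι F) : Matrix ι ι F) * G⁻¹ * X * (x : Matrix ι ι F)) := by
          simp [Matrix.nonsing_inv_mul _ hG.unit, ← mul_assoc]
      _ = (x : Matrix ι ι F) * (G⁻¹ * ((x : Matrix ι ι F)ᵀ * X * (x : Matrix ι ι F))) := by
          rw [h1]; simp only [mul_assoc]
      _ = _ := by rw [hX x hx])
  refine ⟨c, ?_⟩
  have := congrArg (fun T => G * T) hc
  simpa [Matrix.mul_nonsing_inv_cancel_left _ _ hG.unit] using this

/-- A change of basis realising an absolutely irreducible group over a subfield carries a multiple of the form. -/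
theorem rational_structure [Fintype F] [Nonempty ι] {N : Subgroup (GL ι F)} (hN : N ≤ Isom G)
    (habs : ActsAbsolutelyIrreducibly (matrixSet N)) {F₀ : Subfield F} {B : GL ι F}
    (hB : ∀ s ∈ N, ∀ i j, ((B : Matrix ι ι F) * (s : Matrix ι ι F) * ((B⁻¹ : GL ι F) : Matrix ι ι F)) i j ∈ F₀)
    {F₁ : Subfield F} (hle : F₀ ≤ F₁) :
    ∃ ζ : F, ζ ≠ 0 ∧ IsFormRationalStructure (gramForm G) F₁ ζ B⁻¹ := by
  classical
  obtain ⟨p, f, _, _, hf, hF⟩ := exists_char_card (F := F)
  obtain ⟨e, he, hdvd, hcard, rfl⟩ := card_subfield F₀ hF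
  set σ : F →+* F := frob p e with hσ
  set P := ((B⁻¹ : GL ι F) : Matrix ι ι F) with hP
  set G' := Pᵀ * G * P with hG'
  set Z : Matrix ι ι F := (B : Matrix ι ι F) with hZ
  have hinv : ∀ x ∈ N, (x : Matrix ι ι F)ᵀ * (Zᵀ * G'.map σ * Z) * (x : Matrix ι ι F) = Zᵀ * G'.map σ * Z := by
    intro x hx
    set y := Z * (x : Matrix ι ι F) * P with hy
    have hyfix : y.map σ = y := by
      ext i j
      rw [Matrix.map_apply, hσ, frob_apply]
      exact mem_fixedField.mp (hB x hx i j)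
    have hyG : yᵀ * G' * y = G' := by
      calc yᵀ * G' * y = Pᵀ * ((x : Matrix ι ι F)ᵀ * ((P * Z)ᵀ * G * (P * Z)) * (x : Matrix ι ι F)) * P := by
            simp only [hy, hG', Matrix.transpose_mul, mul_assoc]
        _ = G' := by rw [hP, hZ, Units.inv_mul, Matrix.transpose_one, one_mul, mul_one, mem_isom.mp (hN hx)]
    have hys : yᵀ * G'.map σ * y = G'.map σ := by
      have h2 := congrArg (fun T : Matrix ι ι F => T.map σ) hyG
      simp only [Matrix.map_mul] at h2
      rwa [Matrix.transpose_map, hyfix] at h2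
    have hyZ : y * Z = Z * (x : Matrix ι ι F) := by rw [hy, hP, hZ, mul_assoc _ _ (B : Matrix ι ι F), Units.inv_mul, mul_one]
    calc (x : Matrix ι ι F)ᵀ * (Zᵀ * G'.map σ * Z) * (x : Matrix ι ι F)
        = (Z * (x : Matrix ι ι F))ᵀ * G'.map σ * (Z * (x : Matrix ι ι F)) := by
          simp only [Matrix.transpose_mul, mul_assoc]
      _ = Zᵀ * (yᵀ * G'.map σ * y) * Z := by rw [← hyZ]; simp only [Matrix.transpose_mul, mul_assoc]
      _ = _ := by rw [hys]
  obtain ⟨c, hc⟩ := invariant_unique hG hN habs hinv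
  have hZP : Z * P = 1 := by rw [hZ, hP, Units.mul_inv]
  have hc' : G'.map σ = c • G' := by
    calc G'.map σ = (Z * P)ᵀ * G'.map σ * (Z * P) := by rw [hZP, Matrix.transpose_one, one_mul, mul_one]
      _ = Pᵀ * (Zᵀ * G'.map σ * Z) * P := by simp only [Matrix.transpose_mul, mul_assoc]
      _ = c • G' := by rw [hc, Matrix.mul_smul, Matrix.smul_mul]
  have hG'0 : G'.det ≠ 0 := by
    have hPd : P.det ≠ 0 := ((Matrix.isUnit_iff_isUnit_det _).mp (B⁻¹).isUnit).ne_zero
    rw [hG', Matrix.det_mul, Matrix.det_mul, Matrix.det_transpose]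
    exact mul_ne_zero (mul_ne_zero hPd hG.det_ne) hPd
  obtain ⟨i₀, j₀, hne⟩ : ∃ i j, G' i j ≠ 0 := by
    by_contra! h
    exact hG'0 (by rw [show G' = 0 from Matrix.ext h, Matrix.det_zero])
  refine ⟨(G' i₀ j₀)⁻¹, inv_ne_zero hne, fun u v hu hv => ?_⟩
  have hent : ∀ i j, (G' i₀ j₀)⁻¹ * G' i j ∈ F₁ := by
    intro i j
    apply hle
    have h1 : ∀ a b, σ (G' a b) = c * G' a b := fun a b => congrFun (congrFun hc' a) b
    have hc0 : c ≠ 0 := fun h0 => hne ((map_eq_zero σ).mp (by rw [h1, h0, zero_mul]))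
    rw [mem_fixedField, ← frob_apply, ← hσ, map_mul, map_inv₀, h1, h1]
    field_simp
  rw [gramForm_apply, ← hP, ← hG', gramForm, dotProduct, Finset.mul_sum]
  refine Subfield.sum_mem _ fun i _ => ?_
  rw [Matrix.mulVec, dotProduct, Finset.mul_sum, Finset.mul_sum]
  refine Subfield.sum_mem _ fun j _ => ?_
  rw [show (G' i₀ j₀)⁻¹ * (u i * (G' i j * v j)) = u i * ((G' i₀ j₀)⁻¹ * G' i j) * v j by ring]
  exact mul_mem (mul_mem (hu i) (hent i j)) (hv j)

end adjoint

end Cfsg.Agent.Lib.AschbacherSp
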