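import Cfsg.Agent.Lib.AschbacherSp.Centre
import Cfsg.Agent.Lib.Aschbacher.Tensor

/-!
Coordinates adapted to an alternating matrix: transported Gram matrices, quadratic forms vanishing on a spanning set,
and skew elements squaring to a scalar.
-/

set_option autoImplicit false
set_option linter.style.haveILetI false
set_option linter.unusedSectionVars false

namespace Cfsg.Agent.Lib.AschbacherSp

open Cfsg.Geo Cfsg.Agent.Lib.PrimeDim.Basic Cfsg.Agent.Lib.Aschbacher
open scoped Matrix MatrixGroups Kronecker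

variable {ι : Type} [Fintype ι] [DecidableEq ι] {F : Type*} [Field F]
variable {X : Type} [Fintype X] [DecidableEq X]

/-- The Gram matrix in coordinates. -/
def gramIn (G : Matrix ι ι F) (ε : ι ≃ X) (P : GL ι F) : Matrix X X F :=
  ((P : Matrix ι ι F)ᵀ * G * (P : Matrix ι ι F)).submatrix ε.symm ε.symm

/-- The coordinates of a vector. -/
def toX (ε : ι ≃ X) (P : GL ι F) (v : ι → F) : X → F :=
  (((P⁻¹ : GL ι F) : Matrix ι ι F) *ᵥ v) ∘ ε.symm

theorem mulVec_comp (ε : ι ≃ X) (M : Matrix ι ι F) (x : X → F) :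
    (M *ᵥ (x ∘ ε)) ∘ ε.symm = M.submatrix ε.symm ε.symm *ᵥ x := by
  rw [Matrix.submatrix_mulVec_equiv, Equiv.symm_symm]

theorem gramForm_in (G : Matrix ι ι F) (ε : ι ≃ X) (P : GL ι F) (x y : X → F) :
    gramForm G ((P : Matrix ι ι F) *ᵥ (x ∘ ε)) ((P : Matrix ι ι F) *ᵥ (y ∘ ε)) = gramForm (gramIn G ε P) x y := by
  rw [gramForm_apply, gramIn, gramForm, gramForm, ← mulVec_comp, dotProduct, dotProduct,
    ← Equiv.sum_comp ε.symm]
  simp

theorem toX_mk (ε : ι ≃ X) (P : GL ι F) (x : X → F) : toX ε P ((P : Matrix ι ι F) *ᵥ (x ∘ ε)) = x := by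
  rw [toX, inv_mulVec_cancel]
  funext a
  simp

theorem mk_toX (ε : ι ≃ X) (P : GL ι F) (v : ι → F) : (P : Matrix ι ι F) *ᵥ (toX ε P v ∘ ε) = v := by
  have : toX ε P v ∘ ε = ((P⁻¹ : GL ι F) : Matrix ι ι F) *ᵥ v := by funext i; simp [toX]
  rw [this, mulVec_inv_cancel]

theorem gramForm_toX (G : Matrix ι ι F) (ε : ι ≃ X) (P : GL ι F) (u v : ι → F) :
    gramForm G u v = gramForm (gramIn G ε P) (toX ε P u) (toX ε P v) := by
  rw [← gramForm_in, mk_toX, mk_toX]

theorem toX_add (ε : ι ≃ X) (P : GL ι F) (u v : ι → F) : toX ε P (u + v) = toX ε P u + toX ε P v := by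
  funext a; simp [toX, Matrix.mulVec_add]

theorem toX_smul (ε : ι ≃ X) (P : GL ι F) (c : F) (v : ι → F) : toX ε P (c • v) = c • toX ε P v := by
  funext a; simp [toX, Matrix.mulVec_smul]

theorem toX_coord (ε : ι ≃ X) (P : GL ι F) (M : Matrix X X F) (v : ι → F) :
    toX ε P (coordAlg ε P M *ᵥ v) = M *ᵥ toX ε P v := by
  rw [toX, toX, coordAlg_apply, Matrix.mulVec_mulVec, mul_assoc, ← mul_assoc ((P⁻¹ : GL ι F) : Matrix ι ι F),
    Units.inv_mul, one_mul, ← Matrix.mulVec_mulVec]
  funext a
  show ((Matrix.reindexAlgEquiv F F ε.symm M) *ᵥ _) (ε.symm a) = _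
  rw [Matrix.reindexAlgEquiv_apply, Matrix.reindex_apply, Matrix.submatrix_mulVec_equiv]
  simp

variable {G : Matrix ι ι F}

theorem gramIn_skew (hG : Alt G) (ε : ι ≃ X) (P : GL ι F) : (gramIn G ε P)ᵀ = -gramIn G ε P := by
  rw [gramIn, Matrix.transpose_submatrix, Matrix.transpose_mul, Matrix.transpose_mul, Matrix.transpose_transpose,
    hG.skew, mul_assoc]
  simp [Matrix.submatrix_neg]

theorem gramIn_diag (hG : Alt G) (ε : ι ≃ X) (P : GL ι F) (a : X) : gramIn G ε P a a = 0 := by
  rw [← gramForm_single (gramIn G ε P) a a, ← gramForm_in]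
  exact hG.isSymplectic.alternating _

theorem gramIn_det (hG : Alt G) (ε : ι ≃ X) (P : GL ι F) : (gramIn G ε P).det ≠ 0 := by
  have hP : (P : Matrix ι ι F).det ≠ 0 := ((Matrix.isUnit_iff_isUnit_det _).mp P.isUnit).ne_zero
  rw [gramIn, Matrix.det_submatrix_equiv_self, Matrix.det_mul, Matrix.det_mul, Matrix.det_transpose]
  exact mul_ne_zero (mul_ne_zero hP hG.det_ne) hP

theorem gramIn_alt (hG : Alt G) (ε : ι ≃ X) (P : GL ι F) : Alt (gramIn G ε P) :=
  ⟨gramIn_skew hG ε P, gramIn_diag hG ε P, gramIn_det hG ε P⟩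

/-- The adjoint in coordinates. -/
theorem adj_coord (hG : Alt G) (ε : ι ≃ X) (P : GL ι F) (M : Matrix X X F) :
    adj G (coordAlg ε P M) = coordAlg ε P (adj (gramIn G ε P) M) :=
  (eq_adj hG fun u v => by
    rw [gramForm_toX G ε P, toX_coord, gramForm_adj (gramIn_alt hG ε P), ← toX_coord ε P, ← gramForm_toX]).symm

/-- The coordinates of an isometry. -/
theorem symm_isom {g : GL ι F} (hg : g ∈ Isom G) (ε : ι ≃ X) (P : GL ι F) :
    (coordGL ε P).symm g ∈ Isom (gramIn G ε P) := by
  rw [mem_isom]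
  refine gramForm_ext fun x y => ?_
  rw [← gramForm_apply, ← toX_mk ε P x, ← toX_mk ε P y, ← toX_coord, ← toX_coord, ← gramForm_toX, ← gramForm_toX,
    ← coordGL_val, MulEquiv.apply_symm_apply, gramForm_apply_isom hg]

variable [Fintype F]

/-- A quadratic form with the right polar form vanishing on a spanning set mapped to zeros. -/
theorem of_vanishing (hG : Alt G) {H : Subgroup (GL ι F)} (heven : ¬ Odd (Fintype.card F)) (hH : H ≤ Isom G)
    (ε : ι ≃ X) (P : GL ι F) {U : Matrix X X F} (hU : U + Uᵀ = gramIn G ε P) {S : Set (X → F)}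
    (hS : Submodule.span F S = ⊤) (h0 : ∀ s ∈ S, gramForm U s s = 0)
    (hmap : ∀ h ∈ H, ∀ s ∈ S, (((coordGL ε P).symm h : GL X F) : Matrix X X F) *ᵥ s ∈ S) :
    InGeometric G H := by
  have hb := gramForm_bilinear U
  let Q : (ι → F) → F := fun v => gramForm U (toX ε P v) (toX ε P v)
  have hpol : ∀ u v, QuadraticMap.polar Q u v = gramForm G u v := fun u v => by
    rw [gramForm_toX G ε P, ← hU]
    simp only [QuadraticMap.polar, Q, toX_add, hb.add_left, hb.add_right]
    rw [show ∀ a b, gramForm (U + Uᵀ) a b = gramForm U a b + gramForm U b a from fun a b => by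
      rw [gramForm_flip U b a]; simp [gramForm, Matrix.add_mulVec]]
    ring
  have hbil : QuadraticMap.polar Q = gramForm G := funext fun u => funext fun v => hpol u v
  refine InGeometric.quadratic heven (Q := Q)
    ⟨fun a v => ?_, hbil ▸ gramForm_bilinear G, hbil ▸ gramForm_nondegenerate hG.det_ne⟩ hpol fun h hh => ⟨1, fun v => ?_⟩
  · simp only [Q, toX_smul, hb.smul_left, hb.smul_right]; ring
  rw [Units.val_one, one_mul]
  set T := (((coordGL ε P).symm h : GL X F) : Matrix X X F) with hT
  have hTv : ∀ w, toX ε P ((h : Matrix ι ι F) *ᵥ w) = T *ᵥ toX ε P w := fun w => by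
    rw [hT, ← toX_coord, ← coordGL_val, MulEquiv.apply_symm_apply]
  let D : (ι → F) → F := fun w => Q ((h : Matrix ι ι F) *ᵥ w) - Q w
  have hDadd : ∀ a b, D (a + b) = D a + D b := fun a b => by
    have e1 := hpol ((h : Matrix ι ι F) *ᵥ a) ((h : Matrix ι ι F) *ᵥ b)
    rw [gramForm_apply_isom (hH hh), ← hpol a b] at e1
    simp only [QuadraticMap.polar, ← Matrix.mulVec_add] at e1
    simp only [D]
    linear_combination e1
  have hQs : ∀ (c : F) w, Q (c • w) = c ^ 2 * Q w := fun c w => by
    simp only [Q, toX_smul, hb.smul_left, hb.smul_right]; ring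
  let K : Submodule F (X → F) :=
    { carrier := {x | D ((P : Matrix ι ι F) *ᵥ (x ∘ ε)) = 0}
      add_mem' := fun {a b} ha hb' => by
        simp only [Set.mem_setOf_eq] at *
        rw [show (a + b) ∘ ε = a ∘ ε + b ∘ ε from rfl, Matrix.mulVec_add, hDadd, ha, hb', add_zero]
      zero_mem' := by
        simp only [Set.mem_setOf_eq]
        rw [show (0 : X → F) ∘ ε = 0 from rfl, Matrix.mulVec_zero]
        simp [D]
      smul_mem' := fun c x hx => by
        simp only [Set.mem_setOf_eq] at *
        rw [show (c • x) ∘ ε = c • (x ∘ ε) from rfl, Matrix.mulVec_smul]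
        simp only [D, Matrix.mulVec_smul, hQs] at hx ⊢
        linear_combination c ^ 2 * hx }
  have hK : K = ⊤ := by
    rw [eq_top_iff, ← hS, Submodule.span_le]
    intro s hs
    show Q _ - Q _ = 0
    simp only [Q, hTv, toX_mk, h0 _ hs]
    rw [h0 _ (hmap h hh s hs), sub_zero]
  have := (hK ▸ Submodule.mem_top : toX ε P v ∈ K)
  change D _ = 0 at this
  rw [mk_toX] at this
  exact sub_eq_zero.mp this

/-- In odd characteristic a skew element squaring to a non-zero scalar, preserved up to sign. -/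
theorem of_skew_element [Nonempty ι] (hG : Alt G) {H : Subgroup (GL ι F)} (hodd : Odd (Fintype.card F))
    {T : Matrix ι ι F} (hT : adj G T = -T) {δ : F} (hδ : δ ≠ 0) (hT2 : T * T = δ • 1)
    (hconj : ∀ h ∈ H, (h : Matrix ι ι F) * T * ((h⁻¹ : GL ι F) : Matrix ι ι F) = T ∨
      (h : Matrix ι ι F) * T * ((h⁻¹ : GL ι F) : Matrix ι ι F) = -T) : InGeometric G H := by
  classical
  have h2 : (2 : F) ≠ 0 := two_ne_zero' hodd
  have hT0 : T ≠ 0 := fun h => by
    rw [h, mul_zero] at hT2
    exact hδ (smul_eq_zero.mp hT2.symm |>.resolve_right one_ne_zero)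
  have hns : ∀ a : F, T ≠ a • 1 := fun a h => by
    rw [h, adj_smul hG, adj_one hG] at hT
    have : a • (1 : Matrix ι ι F) + a • 1 = 0 := eq_neg_iff_add_eq_zero.mp hT
    rw [← add_smul, smul_eq_zero] at this
    rcases this with h3 | h3
    · exact hT0 (by rw [h, (mul_eq_zero.mp (show (2 : F) * a = 0 by linear_combination h3)).resolve_left h2, zero_smul])
    · exact one_ne_zero h3
  by_cases hsq : ∃ d, d * d = δ
  · obtain ⟨d, hd⟩ := hsq
    have hd0 : d ≠ 0 := fun h => hδ (by rw [← hd, h, zero_mul])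
    let E : Bool → Matrix ι ι F := fun s => (2 : F)⁻¹ • (1 + (if s then d⁻¹ else -d⁻¹) • T)
    have hEadj : ∀ s, adj G (E s) = E (!s) := fun s => by
      simp only [E, adj_smul hG, adj_add hG, adj_one hG, hT]
      cases s <;> simp
    have hEmul : ∀ s, E s * E s = E s := fun s => by
      simp only [E, Matrix.smul_mul, Matrix.mul_smul, add_mul, mul_add, one_mul, mul_one, hT2, smul_smul]
      subst hd
      cases s <;> simp only [Bool.false_eq_true, if_true, if_false] <;> match_scalars <;> field_simp <;> ring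
    have hEorth : ∀ s, E s * E (!s) = 0 := fun s => by
      simp only [E, Matrix.smul_mul, Matrix.mul_smul, add_mul, mul_add, one_mul, mul_one, hT2, smul_smul]
      cases s <;> simp only [Bool.not_false, Bool.not_true, Bool.false_eq_true, if_true, if_false] <;>
        match_scalars <;> subst hd <;> field_simp <;> ring
    have hEsum : E true + E false = 1 := by
      simp only [E, Bool.false_eq_true, if_true, if_false]
      match_scalars <;> field_simp <;> norm_num
    have hts : ∀ s, IsTotallySingularFor (gramForm G) (rng (E s)) := fun s u hu v hv => by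
      rw [← rng_fix (hEmul s) hu, gramForm_adj hG, hEadj,
        rng_kill (by simpa using hEorth (!s)) hv]
      simp [gramForm]
    have hcompl : IsCompl (rng (E true)) (rng (E false)) := by
      refine ⟨Submodule.disjoint_def.mpr fun v hv hv' => ?_, codisjoint_iff.mpr (eq_top_iff.mpr fun v _ => ?_)⟩
      · rw [← rng_fix (hEmul true) hv, rng_kill (hEorth true) hv']
      · rw [← Matrix.one_mulVec v, ← hEsum, Matrix.add_mulVec]
        exact Submodule.add_mem_sup ⟨v, Matrix.toLin'_apply _ _⟩ ⟨v, Matrix.toLin'_apply _ _⟩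
    have hle : ∀ s, 2 * Module.finrank F (rng (E s)) ≤ Fintype.card ι := fun s => by
      have h1 := finrank_perp hG (rng (E s))
      have h3 : Module.finrank F (rng (E s)) ≤ Module.finrank F (perp G (rng (E s))) :=
        Submodule.finrank_mono fun v hv => mem_perp.mpr fun w hw => hts s w hw v hv
      omega
    have hdim := Submodule.finrank_add_eq_of_isCompl hcompl
    rw [Module.finrank_pi] at hdim
    have hpos : 0 < Fintype.card ι := Fintype.card_pos
    have ht1 := hle true
    have hf1 := hle false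
    refine InGeometric.singularPair hodd (k := Module.finrank F (rng (E true))) (D := ![rng (E true), rng (E false)])
      (by omega) (mdec_pair hG (by omega) rfl (by omega) hcompl) (fun i => by fin_cases i <;> exact hts _) fun g hg => ?_
    rcases hconj g hg with h6 | h6
    · refine ⟨1, fun i => ?_⟩
      have h7 : ∀ s, (g : Matrix ι ι F) * E s * ((g⁻¹ : GL ι F) : Matrix ι ι F) = E s := fun s => by
        simp only [E, Matrix.mul_smul, Matrix.smul_mul, mul_add, add_mul, mul_one, Units.mul_inv, h6]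
      fin_cases i
      · show translate g (rng (E true)) = rng (E true); rw [translate_rng, h7]
      · show translate g (rng (E false)) = rng (E false); rw [translate_rng, h7]
    · refine ⟨Equiv.swap 0 1, fun i => ?_⟩
      have h7 : ∀ s, (g : Matrix ι ι F) * E s * ((g⁻¹ : GL ι F) : Matrix ι ι F) = E (!s) := fun s => by
        simp only [E, Matrix.mul_smul, Matrix.smul_mul, mul_add, add_mul, mul_one, Units.mul_inv, h6]
        cases s <;> simp
      fin_cases i
      · show translate g (rng (E true)) = rng (E false); rw [translate_rng, h7]; rfl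
      · show translate g (rng (E false)) = rng (E true); rw [translate_rng, h7]; rfl
  push Not at hsq
  let K : Subalgebra F (Matrix ι ι F) :=
    { carrier := {M | ∃ a b : F, M = a • 1 + b • T}
      mul_mem' := by
        rintro _ _ ⟨a, b, rfl⟩ ⟨a', b', rfl⟩
        exact ⟨a * a' + b * b' * δ, a * b' + b * a', by
          simp only [add_mul, mul_add, Matrix.smul_mul, Matrix.mul_smul, one_mul, mul_one, hT2, smul_smul]; module⟩
      one_mem' := ⟨1, 0, by simp⟩
      add_mem' := by rintro _ _ ⟨a, b, rfl⟩ ⟨a', b', rfl⟩; exact ⟨a + a', b + b', by module⟩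
      zero_mem' := ⟨0, 0, by simp⟩
      algebraMap_mem' := fun c => ⟨c, 0, by simp [Algebra.algebraMap_eq_smul_one]⟩ }
  have hTK : T ∈ K := ⟨0, 1, by simp⟩
  have hli : LinearIndependent F ![(⟨1, one_mem _⟩ : K), ⟨T, hTK⟩] := by
    rw [linearIndependent_fin2]
    refine ⟨fun h => hT0 (congrArg Subtype.val h), fun a h => ?_⟩
    simp only [Matrix.cons_val_one, Matrix.cons_val_fin_one, Matrix.cons_val_zero] at h
    have h' : a • T = 1 := congrArg Subtype.val h
    have ha : a ≠ 0 := by rintro rfl; rw [zero_smul] at h'; exact zero_ne_one h'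
    exact hns a⁻¹ (by rw [← h', smul_smul, inv_mul_cancel₀ ha, one_smul])
  have hdim : Module.finrank F K = 2 := by
    refine le_antisymm ?_ (by simpa using hli.fintype_card_le_finrank)
    have htop : Submodule.span F (Set.range ![(⟨1, one_mem _⟩ : K), ⟨T, hTK⟩]) = ⊤ := by
      rw [eq_top_iff]
      rintro ⟨x, a, b, rfl⟩ -
      rw [Submodule.mem_span_range_iff_exists_fun]
      exact ⟨![a, b], Subtype.ext (by simp [Fin.sum_univ_two])⟩
    have h := finrank_range_le_card (R := F) ![(⟨1, one_mem _⟩ : K), ⟨T, hTK⟩]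
    rw [Set.finrank, htop, finrank_top] at h
    simpa using h
  have hfield : IsFieldSubalgebra 2 K := by
    refine ⟨?_, ?_, hdim⟩
    · rintro _ ⟨a, b, rfl⟩ _ ⟨a', b', rfl⟩
      simp only [add_mul, mul_add, Matrix.smul_mul, Matrix.mul_smul, one_mul, mul_one, hT2, smul_smul]
      module
    · rintro _ ⟨a, b, rfl⟩ hne
      have hN : a * a - b * b * δ ≠ 0 := by
        intro h
        by_cases hb : b = 0
        · apply hne
          rw [hb, zero_mul, zero_mul, sub_zero] at h
          rw [hb, mul_self_eq_zero.mp h, zero_smul, zero_smul, add_zero]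
        · exact hsq (a / b) (by field_simp; linear_combination h)
      refine ⟨(a * a - b * b * δ)⁻¹ • (a • 1 + (-b) • T),
        Subalgebra.smul_mem K (x := a • 1 + (-b) • T) ⟨a, -b, rfl⟩ _, ?_⟩
      simp only [add_mul, mul_add, Matrix.smul_mul, Matrix.mul_smul, one_mul, mul_one, hT2, smul_smul]
      match_scalars
      · simp only [mul_one]
        linear_combination mul_inv_cancel₀ hN
      · ring
  refine InGeometric.fieldUnitary hodd hfield (fun k hk => ⟨adj G k, ?_, gramForm_adj hG k⟩) (fun hself => ?_)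
    fun h hh k => ?_
  · obtain ⟨a, b, rfl⟩ := hk
    exact ⟨a, -b, by rw [adj_add hG, adj_smul hG, adj_smul hG, adj_one hG, hT, smul_neg, neg_smul]⟩
  · have h3 := (eq_adj hG (hself T hTK)).trans hT
    exact hns 0 (by
      rw [zero_smul]
      exact (smul_eq_zero.mp (show (2 : F) • T = 0 by rw [two_smul]; exact eq_neg_iff_add_eq_zero.mp h3)).resolve_left h2)
  · have key : ∀ g ∈ H, ∀ M ∈ K, (g : Matrix ι ι F) * M * ((g⁻¹ : GL ι F) : Matrix ι ι F) ∈ K := by
      rintro g hg _ ⟨a, b, rfl⟩
      simp only [mul_add, add_mul, Matrix.mul_smul, Matrix.smul_mul, mul_one, Units.mul_inv]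
      rcases hconj g hg with h6 | h6 <;> rw [h6]
      · exact ⟨a, b, rfl⟩
      · exact ⟨a, -b, by rw [smul_neg, neg_smul]⟩
    refine ⟨key h hh k, fun hk => ?_⟩
    have := key h⁻¹ (inv_mem hh) _ hk
    simpa [mul_assoc] using this

end Cfsg.Agent.Lib.AschbacherSp
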