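import Cfsg.Agent.Lib.AschbacherSp.Proper
import Cfsg.Agent.Lib.PrimeDim.Main

/-!
The group `2^(1+4)` of minus type over the field with three elements, as a table of thirty-two products `d ⊗ q`.
-/

set_option autoImplicit false
set_option linter.style.haveILetI false
set_option linter.unusedSectionVars false

namespace Cfsg.Agent.Lib.AschbacherSp.TwoGroup

open Cfsg.Geo Cfsg.Agent.Lib.PrimeDim.Basic Cfsg.Agent.Lib.Aschbacher
open scoped Matrix MatrixGroups Kronecker

/-- The indices of the thirty-two elements. -/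
abbrev Idx := Bool × Fin 4 × Fin 4

/-- The low bit. -/
def zb (a : Fin 4) : Bool := a.val % 2 == 1
/-- The high bit. -/
def wb (a : Fin 4) : Bool := a.val / 2 == 1
/-- The signs of the dihedral table. -/
def sd (a b : Fin 4) : Bool := wb a && zb b
/-- The signs of the quaternion table. -/
def sq' (a b : Fin 4) : Bool := ((wb a && zb b) ^^ (zb a && zb b)) ^^ (wb a && wb b)

/-- The product of two indices. -/
def mulI (x y : Idx) : Idx :=
  ((x.1 ^^ y.1) ^^ (sd x.2.1 y.2.1 ^^ sq' x.2.2 y.2.2), x.2.1 ^^^ y.2.1, x.2.2 ^^^ y.2.2)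

/-- The neutral index. -/
def oneI : Idx := (false, 0, 0)

/-- The inverse index. -/
def invI (x : Idx) : Idx := mulI (mulI x x) x

/-- The map given on the four generators. -/
def extI (g₁ g₂ g₃ g₄ : Idx) (x : Idx) : Idx :=
  mulI (x.1, 0, 0) (mulI (mulI (if zb x.2.1 then g₁ else oneI) (if wb x.2.1 then g₂ else oneI))
    (mulI (if zb x.2.2 then g₃ else oneI) (if wb x.2.2 then g₄ else oneI)))

/-- An automorphism permuting the three quaternion classes. -/
def cyc : Idx → Idx := extI (false, 1, 0) (false, 2, 0) (false, 0, 2) (false, 0, 3)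
/-- An automorphism exchanging two dihedral classes. -/
def swp : Idx → Idx := extI (false, 2, 0) (false, 1, 0) (false, 0, 1) (false, 0, 2)
/-- An automorphism mixing the two factors. -/
def mix : Idx → Idx := extI (false, 3, 2) (false, 3, 3) (false, 3, 0) (false, 1, 1)

theorem cyc_hom : ∀ x y, cyc (mulI x y) = mulI (cyc x) (cyc y) := by decide +kernel
theorem swp_hom : ∀ x y, swp (mulI x y) = mulI (swp x) (swp y) := by decide +kernel
theorem mix_hom : ∀ x y, mix (mulI x y) = mulI (mix x) (mix y) := by decide +kernel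
theorem cyc_inj : ∀ x, cyc x = oneI → x = oneI := by decide +kernel
theorem swp_inj : ∀ x, swp x = oneI → x = oneI := by decide +kernel
theorem mix_inj : ∀ x, mix x = oneI → x = oneI := by decide +kernel

theorem moves : ∀ x : Idx, (x.2.1 = 0 ∧ x.2.2 = 0) ∨ mulI x (cyc x) ≠ mulI (cyc x) x ∨
    mulI x (swp x) ≠ mulI (swp x) x ∨ mulI (mix x) (cyc (mix x)) ≠ mulI (cyc (mix x)) (mix x) := by decide +kernel

theorem involutions : ∀ x y : Idx, mulI x x = oneI → mulI y y = oneI → mulI x y = mulI y x →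
    (x.2.1 = 0 ∧ x.2.2 = 0) ∨ (y.2.1 = 0 ∧ y.2.2 = 0) ∨ (x.2.1 = y.2.1 ∧ x.2.2 = y.2.2) := by decide +kernel

theorem centre_iff : ∀ x : Idx, (∀ y, mulI x y = mulI y x) ↔ x.2.1 = 0 ∧ x.2.2 = 0 := by decide +kernel

theorem pow_four : ∀ x : Idx, mulI (mulI (mulI x x) x) x = oneI := by decide +kernel

theorem sq_ne : mulI (false, 0, 1) (false, 0, 1) ≠ oneI := by decide +kernel

theorem mul_inv' : ∀ x : Idx, mulI x (invI x) = oneI ∧ mulI (invI x) x = oneI := by decide +kernel

/-- The dihedral matrices. -/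
def dM : Fin 4 → Matrix (Fin 2) (Fin 2) (ZMod 3) :=
  ![!![1, 0; 0, 1], !![1, 0; 0, -1], !![0, 1; 1, 0], !![0, 1; -1, 0]]

/-- The quaternion matrices. -/
def qM : Fin 4 → Matrix (Fin 2) (Fin 2) (ZMod 3) :=
  ![!![1, 0; 0, 1], !![0, 1; -1, 0], !![1, 1; 1, -1], !![1, -1; -1, -1]]

/-- The sign of a Boolean. -/
def sgn (s : Bool) : ZMod 3 := if s then -1 else 1

/-- The matrix of an index. -/
def mat (x : Idx) : Matrix (Fin 2 × Fin 2) (Fin 2 × Fin 2) (ZMod 3) := sgn x.1 • (dM x.2.1 ⊗ₖ qM x.2.2)

theorem dM_mul : ∀ a b, dM a * dM b = sgn (sd a b) • dM (a ^^^ b) := by decide +kernel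
theorem qM_mul : ∀ a b, qM a * qM b = sgn (sq' a b) • qM (a ^^^ b) := by decide +kernel
theorem sgn_xor : ∀ a b, sgn (a ^^ b) = sgn a * sgn b := by decide +kernel
theorem mat_inj : ∀ x, mat x = 1 → x = oneI := by decide +kernel
theorem mat_one : mat oneI = 1 := by decide +kernel
theorem dM_orth : ∀ a, (dM a)ᵀ * dM a = 1 := by decide +kernel
theorem qM_symp : ∀ a, (qM a)ᵀ * qM 1 * qM a = qM 1 := by decide +kernel
theorem dM_span : ∀ a c : Fin 2, Matrix.single a c (1 : ZMod 3) =
    ∑ k : Fin 4, (2 * sgn (sd k k) * (dM k * Matrix.single a c (1 : ZMod 3)).trace) • dM k := by decide +kernel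
theorem qM_span : ∀ a c : Fin 2, Matrix.single a c (1 : ZMod 3) =
    ∑ k : Fin 4, (2 * sgn (sq' k k) * (qM k * Matrix.single a c (1 : ZMod 3)).trace) • qM k := by decide +kernel
theorem q_classify : ∀ a b c d : ZMod 3, a * d - b * c = 1 →
    !![a, b; c, d] * !![a, b; c, d] * (!![a, b; c, d] * !![a, b; c, d]) = 1 →
    ∃ s k, !![a, b; c, d] = sgn s • qM k := by decide +kernel
theorem d_classify : ∀ a b : ZMod 3, a * a + b * b = 1 →
    ∃ s k, a • dM 1 + b • dM 2 = sgn s • dM k := by decide +kernel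

theorem mat_mul (x y : Idx) : mat (mulI x y) = mat x * mat y := by
  simp only [mat, mulI, Matrix.smul_mul, Matrix.mul_smul, ← Matrix.mul_kronecker_mul, dM_mul, qM_mul,
    Matrix.smul_kronecker, Matrix.kronecker_smul, smul_smul, sgn_xor]
  congr 1
  ring

variable {ι : Type} [Fintype ι] [DecidableEq ι] {F : Type*} [Field F] [Fintype F]
variable (φ : ZMod 3 →+* F) (ε : ι ≃ Fin 2 × Fin 2) (P : GL ι F)

/-- The element of an index in coordinates. -/
noncomputable def elt (x : Idx) : GL (Fin 2 × Fin 2) F where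
  val := (mat x).map φ
  inv := (mat (invI x)).map φ
  val_inv := by
    rw [← Matrix.map_mul, ← mat_mul, (mul_inv' x).1, mat_one, Matrix.map_one φ (map_zero φ) (map_one φ)]
  inv_val := by
    rw [← Matrix.map_mul, ← mat_mul, (mul_inv' x).2, mat_one, Matrix.map_one φ (map_zero φ) (map_one φ)]

theorem elt_mul (x y : Idx) : elt φ (mulI x y) = elt φ x * elt φ y :=
  Units.ext (by show (mat (mulI x y)).map φ = (mat x).map φ * (mat y).map φ; rw [mat_mul, Matrix.map_mul])

theorem elt_one : elt φ oneI = 1 :=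
  Units.ext (by show (mat oneI).map φ = 1; rw [mat_one, Matrix.map_one φ (map_zero φ) (map_one φ)])

theorem elt_inj : Function.Injective (elt φ) := by
  intro x y h
  have h1 : elt φ (mulI x (invI y)) = 1 := by rw [elt_mul, h, ← elt_mul, (mul_inv' y).1, elt_one]
  have h2 : mulI x (invI y) = oneI := mat_inj _ (Matrix.map_injective φ.injective (by
    show (mat (mulI x (invI y))).map φ = (1 : Matrix (Fin 2 × Fin 2) (Fin 2 × Fin 2) (ZMod 3)).map φ
    rw [Matrix.map_one φ (map_zero φ) (map_one φ)]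
    exact congrArg Units.val h1))
  have key : ∀ x y : Idx, mulI x (invI y) = oneI → x = y := by decide +kernel
  exact key x y h2

/-- The group. -/
noncomputable def group : Subgroup (GL ι F) where
  carrier := Set.range fun x => coordGL ε P (elt φ x)
  one_mem' := ⟨oneI, by show coordGL ε P (elt φ oneI) = 1; rw [elt_one, map_one]⟩
  mul_mem' := by
    rintro _ _ ⟨x, rfl⟩ ⟨y, rfl⟩
    exact ⟨mulI x y, by show coordGL ε P (elt φ (mulI x y)) = _; rw [elt_mul, map_mul]⟩
  inv_mem' := by
    rintro _ ⟨x, rfl⟩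
    refine ⟨invI x, eq_inv_of_mul_eq_one_left ?_⟩
    show coordGL ε P (elt φ (invI x)) * coordGL ε P (elt φ x) = 1
    rw [← map_mul, ← elt_mul, (mul_inv' x).2, elt_one, map_one]

/-- The indices are the elements. -/
noncomputable def equiv : Idx ≃ group φ ε P :=
  Equiv.ofBijective (fun x => ⟨coordGL ε P (elt φ x), x, rfl⟩)
    ⟨fun _ _ h => elt_inj φ ((coordGL ε P).injective (congrArg Subtype.val h)),
      fun ⟨_, x, hx⟩ => ⟨x, Subtype.ext hx⟩⟩

theorem equiv_mul (x y : Idx) : equiv φ ε P (mulI x y) = equiv φ ε P x * equiv φ ε P y :=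
  Subtype.ext (by show coordGL ε P (elt φ (mulI x y)) = _; rw [elt_mul, map_mul]; rfl)

theorem equiv_one : equiv φ ε P oneI = 1 :=
  Subtype.ext (by show coordGL ε P (elt φ oneI) = 1; rw [elt_one, map_one])

/-- An automorphism of the table gives one of the group. -/
noncomputable def autOf {f : Idx → Idx} (hf : ∀ x y, f (mulI x y) = mulI (f x) (f y))
    (hi : ∀ x, f x = oneI → x = oneI) : group φ ε P ≃* group φ ε P :=
  MulEquiv.ofBijective
    (MonoidHom.mk' (fun g => equiv φ ε P (f ((equiv φ ε P).symm g))) fun a b => by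
      obtain ⟨x, rfl⟩ := (equiv φ ε P).surjective a
      obtain ⟨y, rfl⟩ := (equiv φ ε P).surjective b
      show equiv φ ε P (f ((equiv φ ε P).symm (equiv φ ε P x * equiv φ ε P y))) =
        equiv φ ε P (f ((equiv φ ε P).symm (equiv φ ε P x))) * equiv φ ε P (f ((equiv φ ε P).symm (equiv φ ε P y)))
      rw [(equiv φ ε P).symm_apply_apply x, (equiv φ ε P).symm_apply_apply y,
        (Equiv.symm_apply_eq _).mpr (equiv_mul φ ε P x y).symm, hf, equiv_mul])
    (Finite.injective_iff_bijective.mp ((injective_iff_map_eq_one _).mpr fun a ha => by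
      obtain ⟨x, rfl⟩ := (equiv φ ε P).surjective a
      simp only [MonoidHom.mk'_apply, Equiv.symm_apply_apply, ← equiv_one φ ε P] at ha
      rw [hi x ((equiv φ ε P).injective ha), equiv_one]))

theorem card_group : Nat.card (group φ ε P) = 32 := by
  rw [← Nat.card_congr (equiv φ ε P), Nat.card_eq_fintype_card]
  rfl

theorem mem_centre (x : Idx) : equiv φ ε P x ∈ Subgroup.center (group φ ε P) ↔ x.2.1 = 0 ∧ x.2.2 = 0 := by
  rw [Subgroup.mem_center_iff, ← centre_iff]
  constructor
  · intro h y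
    apply (equiv φ ε P).injective
    rw [equiv_mul, equiv_mul]
    exact (h _).symm
  · intro h g
    obtain ⟨y, rfl⟩ := (equiv φ ε P).surjective g
    rw [← equiv_mul, ← equiv_mul, h y]

theorem card_centre : Nat.card (Subgroup.center (group φ ε P)) = 2 := by
  have h : Function.Bijective fun s : Bool =>
      (⟨equiv φ ε P (s, 0, 0), (mem_centre φ ε P _).mpr ⟨rfl, rfl⟩⟩ : Subgroup.center (group φ ε P)) := by
    refine ⟨fun s t hst => ?_, ?_⟩
    · exact (Prod.ext_iff.mp ((equiv φ ε P).injective (congrArg Subtype.val hst))).1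
    · rintro ⟨g, hg⟩
      obtain ⟨⟨s, a, b⟩, rfl⟩ := (equiv φ ε P).surjective g
      obtain ⟨ha, hb⟩ := (mem_centre φ ε P _).mp hg
      simp only at ha hb
      subst ha hb
      exact ⟨s, rfl⟩
  rw [← Nat.card_congr (Equiv.ofBijective _ h), Nat.card_eq_fintype_card, Fintype.card_bool]

theorem pow_four' (g : group φ ε P) : g ^ 4 = 1 := by
  obtain ⟨x, rfl⟩ := (equiv φ ε P).surjective g
  rw [← equiv_one φ ε P, ← pow_four x]
  simp only [equiv_mul, pow_succ, pow_zero, one_mul]

theorem symplecticTypeGroup : IsSymplecticTypeGroup 2 (group φ ε P) where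
  prime := Nat.prime_two
  pGroup := IsPGroup.of_card (n := 5) (by rw [card_group]; norm_num)
  exponent_eq := by
    refine Nat.dvd_antisymm (Monoid.exponent_dvd_of_forall_pow_eq_one fun g => by simpa using pow_four' φ ε P g) ?_
    have ho : orderOf (equiv φ ε P (false, 0, 1)) = 4 := by
      refine orderOf_eq_prime_pow (p := 2) (n := 1) (fun h => sq_ne ?_) (pow_four' φ ε P _)
      apply (equiv φ ε P).injective
      rw [equiv_mul, equiv_one, ← h, pow_one, pow_two]
    have h1 := Monoid.order_dvd_exponent (equiv φ ε P (false, 0, 1))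
    rw [ho] at h1
    simpa using h1
  cyclic_of_characteristic A hA hAc := by
    have haut : ∀ {f : Idx → Idx} (hf : ∀ x y, f (mulI x y) = mulI (f x) (f y))
        (hi : ∀ x, f x = oneI → x = oneI) (x : Idx), equiv φ ε P x ∈ A → equiv φ ε P (f x) ∈ A := by
      intro f hf hi x hx
      have h1 := hA.fixed (autOf φ ε P hf hi)
      rw [← h1] at hx
      simpa [autOf] using hx
    have hcomm : ∀ x y, equiv φ ε P x ∈ A → equiv φ ε P y ∈ A → mulI x y = mulI y x := fun x y hx hy => by
      apply (equiv φ ε P).injective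
      rw [equiv_mul, equiv_mul]
      exact congrArg Subtype.val (hAc.is_comm.comm (⟨_, hx⟩ : A) ⟨_, hy⟩)
    have hle : A ≤ Subgroup.center (group φ ε P) := fun g hg => by
      obtain ⟨x, rfl⟩ := (equiv φ ε P).surjective g
      rw [mem_centre]
      rcases moves x with h | h | h | h
      · exact h
      · exact absurd (hcomm _ _ hg (haut cyc_hom cyc_inj _ hg)) h
      · exact absurd (hcomm _ _ hg (haut swp_hom swp_inj _ hg)) h
      · have hm := haut mix_hom mix_inj _ hg
        exact absurd (hcomm _ _ hm (haut cyc_hom cyc_inj _ hm)) h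
    haveI : IsCyclic (Subgroup.center (group φ ε P)) := by
      haveI := Fact.mk Nat.prime_two
      exact isCyclic_of_prime_card (card_centre φ ε P)
    exact isCyclic_of_injective (Subgroup.inclusion hle) (Subgroup.inclusion_injective hle)

theorem minusType : IsOfMinusType 2 (group φ ε P) := by
  classical
  intro A hAc hA2
  have hinv : ∀ x, equiv φ ε P x ∈ A → mulI x x = oneI := fun x hx => by
    apply (equiv φ ε P).injective
    rw [equiv_mul, equiv_one]
    exact hA2 _ hx
  have hcomm : ∀ x y, equiv φ ε P x ∈ A → equiv φ ε P y ∈ A → mulI x y = mulI y x := fun x y hx hy => by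
    apply (equiv φ ε P).injective
    rw [equiv_mul, equiv_mul]
    exact congrArg Subtype.val (hAc.is_comm.comm (⟨_, hx⟩ : A) ⟨_, hy⟩)
  by_cases hcen : ∀ x, equiv φ ε P x ∈ A → x.2.1 = 0 ∧ x.2.2 = 0
  · let f : A → Bool := fun g => ((equiv φ ε P).symm g.1).1
    have hf : Function.Injective f := fun a b h => by
      apply Subtype.ext
      apply (equiv φ ε P).symm.injective
      have ha := hcen _ ((Equiv.apply_symm_apply (equiv φ ε P) a.1).symm ▸ a.2)
      have hb := hcen _ ((Equiv.apply_symm_apply (equiv φ ε P) b.1).symm ▸ b.2)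
      exact Prod.ext h (Prod.ext (ha.1.trans hb.1.symm) (ha.2.trans hb.2.symm))
    have := Nat.card_le_card_of_injective f hf
    simp only [Nat.card_eq_fintype_card, Fintype.card_bool] at this ⊢
    omega
  push Not at hcen
  obtain ⟨x, hx, hx0⟩ := hcen
  let f : A → Bool × Bool := fun g =>
    (((equiv φ ε P).symm g.1).1, decide (((equiv φ ε P).symm g.1).2 = x.2))
  have hf : Function.Injective f := fun a b h => by
    apply Subtype.ext
    apply (equiv φ ε P).symm.injective
    have h1 := (Prod.ext_iff.mp h).1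
    have h2 := (Prod.ext_iff.mp h).2
    have key : ∀ g : A, ((equiv φ ε P).symm g.1).2 = x.2 ∨ ((equiv φ ε P).symm g.1).2 = (0, 0) := fun g => by
      have hg : equiv φ ε P ((equiv φ ε P).symm g.1) ∈ A := (Equiv.apply_symm_apply (equiv φ ε P) g.1).symm ▸ g.2
      rcases involutions x _ (hinv x hx) (hinv _ hg) (hcomm _ _ hx hg) with h | h | h
      · exact absurd h.2 (hx0 h.1)
      · exact Or.inr (Prod.ext h.1 h.2)
      · exact Or.inl (Prod.ext h.1.symm h.2.symm)
    refine Prod.ext h1 ?_
    simp only [f, decide_eq_decide] at h2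
    rcases key a with ka | ka <;> rcases key b with kb | kb
    · rw [ka, kb]
    · rw [h2.mp ka, ka]
    · rw [h2.mpr kb, kb]
    · rw [ka, kb]
  have := Nat.card_le_card_of_injective f hf
  simp only [Nat.card_eq_fintype_card, Fintype.card_prod, Fintype.card_bool] at this ⊢
  omega

theorem mem_group_of (x : Idx) : coordGL ε P (elt φ x) ∈ group φ ε P := ⟨x, rfl⟩

theorem absIrred [Nonempty ι] : ActsAbsolutelyIrreducibly (matrixSet (group φ ε P)) := by
  set S := Submodule.span F (matrixSet (group φ ε P)) with hS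
  have hmem : ∀ (a b : Fin 4), coordAlg ε P ((dM a).map φ ⊗ₖ (qM b).map φ) ∈ S := fun a b => by
    refine Submodule.subset_span (mem_matrixSet.mpr ⟨_, mem_group_of φ ε P (false, a, b), ?_⟩)
    rw [coordGL_val]
    congr 1
    show (mat (false, a, b)).map φ = _
    ext p r
    simp [mat, sgn, Matrix.kroneckerMap_apply]
  have hstd : ∀ (a c : Fin 2) (b d : Fin 2),
      coordAlg ε P (Matrix.single (a, b) (c, d) (1 : F)) ∈ S := fun a c b d => by
    have hd : Matrix.single a c (1 : F) = ∑ k : Fin 4,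
        φ (2 * sgn (sd k k) * (dM k * Matrix.single a c (1 : ZMod 3)).trace) • (dM k).map φ := by
      have := congrArg (fun M : Matrix (Fin 2) (Fin 2) (ZMod 3) => φ.mapMatrix M) (dM_span a c)
      simp only [map_sum, RingHom.mapMatrix_apply] at this
      rw [Matrix.map_single, map_one] at this
      rw [this]
      exact Finset.sum_congr rfl fun k _ => by ext i j; simp
    have hq : Matrix.single b d (1 : F) = ∑ k : Fin 4,
        φ (2 * sgn (sq' k k) * (qM k * Matrix.single b d (1 : ZMod 3)).trace) • (qM k).map φ := by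
      have := congrArg (fun M : Matrix (Fin 2) (Fin 2) (ZMod 3) => φ.mapMatrix M) (qM_span b d)
      simp only [map_sum, RingHom.mapMatrix_apply] at this
      rw [Matrix.map_single, map_one] at this
      rw [this]
      exact Finset.sum_congr rfl fun k _ => by ext i j; simp
    have hk : Matrix.single (a, b) (c, d) (1 : F) = Matrix.single a c (1 : F) ⊗ₖ Matrix.single b d (1 : F) := by
      ext ⟨p, p'⟩ ⟨r, r'⟩
      simp only [Matrix.kroneckerMap_apply, Matrix.single_apply, Prod.mk.injEq]
      split_ifs <;> simp_all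
    have hsum : ∀ f g : Fin 4 → Matrix (Fin 2) (Fin 2) F,
        (∑ k, f k) ⊗ₖ (∑ l, g l) = ∑ k, ∑ l, f k ⊗ₖ g l := fun f g => by
      ext p r
      simp only [Matrix.kroneckerMap_apply, Matrix.sum_apply, Finset.sum_mul_sum]
    rw [hk, hd, hq, hsum]
    simp only [Matrix.smul_kronecker, Matrix.kronecker_smul, map_sum, map_smul]
    exact Submodule.sum_mem _ fun k _ => Submodule.sum_mem _ fun l _ =>
      Submodule.smul_mem _ _ (Submodule.smul_mem _ _ (hmem _ _))
  have htop : ∀ M, M ∈ S := fun M => by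
    rw [← (coordAlg ε P).apply_symm_apply M, Matrix.matrix_eq_sum_single ((coordAlg ε P).symm M), map_sum]
    refine Submodule.sum_mem _ fun p _ => ?_
    rw [map_sum]
    refine Submodule.sum_mem _ fun r _ => ?_
    rw [← mul_one (((coordAlg ε P).symm M) p r), ← smul_eq_mul, ← Matrix.smul_single, map_smul]
    exact Submodule.smul_mem _ _ (hstd p.1 r.1 p.2 r.2)
  refine ⟨irred_iff.mpr fun W hW => ?_, fun M hM => ?_⟩
  · by_cases hb : W = ⊥
    · exact Or.inl hb
    obtain ⟨w, hw, hw0⟩ := Submodule.exists_mem_ne_zero_of_ne_bot hb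
    refine Or.inr (eq_top_iff.mpr fun v _ => ?_)
    obtain ⟨i, hi⟩ : ∃ i, w i ≠ 0 := by
      by_contra! h; exact hw0 (funext h)
    have hK : ∀ N, N ∈ S → N *ᵥ w ∈ W := fun N hN => by
      induction hN using Submodule.span_induction with
      | mem s hs => obtain ⟨x, hx, rfl⟩ := mem_matrixSet.mp hs; exact hW x hx w hw
      | zero => rw [Matrix.zero_mulVec]; exact zero_mem _
      | add a b _ _ ha hb => rw [Matrix.add_mulVec]; exact add_mem ha hb
      | smul c a _ ha => rw [Matrix.smul_mulVec]; exact Submodule.smul_mem _ _ ha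
    have h := hK (Matrix.vecMulVec v (Pi.single i (w i)⁻¹)) (htop _)
    rw [Matrix.vecMulVec_mulVec, single_dotProduct, inv_mul_cancel₀ hi] at h
    simpa using h
  · refine scalar_of_eigen fun v => ?_
    by_cases hv : v = 0
    · exact ⟨0, by simp [hv]⟩
    obtain ⟨i, hi⟩ : ∃ i, v i ≠ 0 := by
      by_contra! h; exact hv (funext h)
    have hK : ∀ N, N ∈ S → M * N = N * M := fun N hN => by
      induction hN using Submodule.span_induction with
      | mem s hs => exact hM s hs
      | zero => rw [mul_zero, zero_mul]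
      | add a b _ _ ha hb => rw [mul_add, add_mul, ha, hb]
      | smul c a _ ha => rw [Matrix.mul_smul, Matrix.smul_mul, ha]
    have h := congrArg (· *ᵥ (Pi.single i 1 : ι → F)) (hK (Matrix.vecMulVec v (Pi.single i (1 : F))) (htop _))
    simp only [← Matrix.mulVec_mulVec, Matrix.vecMulVec_mulVec, single_dotProduct, Pi.single_eq_same, one_mul,
      op_smul_eq_smul, one_smul] at h
    exact ⟨_, h⟩

theorem le_isom {G : Matrix ι ι F} (hgram : gramIn G ε P = (1 : Matrix (Fin 2) (Fin 2) F) ⊗ₖ (qM 1).map φ) :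
    group φ ε P ≤ Isom G := by
  rintro _ ⟨x, rfl⟩
  show coordGL ε P (elt φ x) ∈ Isom G
  rw [mem_isom]
  refine gramForm_ext fun u v => ?_
  rw [← gramForm_apply, gramForm_toX G ε P, coordGL_val, toX_coord, toX_coord, gramForm_toX G ε P u v, hgram,
    gramForm_apply]
  congr 1
  have h : ((mat x)ᵀ * ((1 : Matrix (Fin 2) (Fin 2) (ZMod 3)) ⊗ₖ qM 1) * mat x) =
      (1 : Matrix (Fin 2) (Fin 2) (ZMod 3)) ⊗ₖ qM 1 := by
    simp only [mat, Matrix.transpose_smul, ← Matrix.kroneckerMap_transpose, Matrix.smul_mul, Matrix.mul_smul,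
      ← Matrix.mul_kronecker_mul, mul_one, dM_orth, qM_symp, smul_smul]
    rw [show sgn x.1 * sgn x.1 = 1 by cases x.1 <;> decide, one_smul]
  have hk : ((1 : Matrix (Fin 2) (Fin 2) (ZMod 3)) ⊗ₖ qM 1).map φ = (1 : Matrix (Fin 2) (Fin 2) F) ⊗ₖ (qM 1).map φ := by
    ext ⟨a, b⟩ ⟨c, d⟩
    simp [Matrix.one_apply, apply_ite φ]
  show ((mat x).map φ)ᵀ * _ * (mat x).map φ = _
  rw [← hk, ← Matrix.transpose_map, ← Matrix.map_mul, ← Matrix.map_mul, h]

end Cfsg.Agent.Lib.AschbacherSp.TwoGroup
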