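import Cfsg.Agent.Lib.AschbacherSp.Cases
import Cfsg.Agent.Lib.AschbacherSp.TwoGroup

/-!
The two exceptional structures in dimension four over the field with three elements, and the normalisers of
two-groups of similarities.
-/

set_option autoImplicit false
set_option linter.style.haveILetI false
set_option linter.unusedSectionVars false

namespace Cfsg.Agent.Lib.AschbacherSp

open Cfsg.Geo Cfsg.Agent.Lib.PrimeDim.Basic Cfsg.Agent.Lib.Aschbacher
open scoped Matrix MatrixGroups Kronecker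

variable {ι : Type} [Fintype ι] [DecidableEq ι] {F : Type*} [Field F] [Fintype F] {G : Matrix ι ι F}

/-- Coordinates with a prescribed Gram matrix. -/
theorem exists_coords {X : Type} [Fintype X] [DecidableEq X] (hc : Fintype.card ι = Fintype.card X)
    {v : X → ι → F} {G₀ : Matrix X X F} (hd : G₀.det ≠ 0) (hgram : ∀ x y, gramForm G (v x) (v y) = G₀ x y) :
    ∃ (ε : ι ≃ X) (P : GL ι F), gramIn G ε P = G₀ ∧
      ∀ x, (P : Matrix ι ι F) *ᵥ ((Pi.single x 1 : X → F) ∘ ε) = v x := by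
  classical
  let ε : ι ≃ X := Fintype.equivOfCardEq hc
  let M : Matrix ι ι F := Matrix.of fun i j => v (ε j) i
  have hM : ∀ j, M *ᵥ Pi.single j 1 = v (ε j) := fun j => by rw [Matrix.mulVec_single_one]; rfl
  have hMG : Mᵀ * G * M = G₀.submatrix ε ε := by
    ext i j
    rw [← gramForm_single (Mᵀ * G * M), ← gramForm_apply, hM, hM, hgram]
    rfl
  have hdet : M.det ≠ 0 := fun h => hd (by
    have h1 := congrArg Matrix.det hMG
    rw [Matrix.det_mul, h, mul_zero, Matrix.det_submatrix_equiv_self] at h1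
    exact h1.symm)
  refine ⟨ε, Matrix.GeneralLinearGroup.mkOfDetNeZero M hdet, ?_, fun x => ?_⟩
  · show (Mᵀ * G * M).submatrix ε.symm ε.symm = G₀
    rw [hMG, Matrix.submatrix_submatrix]
    simp
  · show M *ᵥ _ = _
    rw [show (Pi.single x 1 : X → F) ∘ ε = Pi.single (ε.symm x) 1 by
      funext i; simp [Pi.single_apply, Equiv.eq_symm_apply]]
    rw [hM, Equiv.apply_symm_apply]

/-- A self-adjoint involution gives a decomposition into two non-degenerate planes. -/
theorem of_involution (hG : Alt G) (hodd : Odd (Fintype.card F)) (hc : Fintype.card ι = 4) {T : Matrix ι ι F}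
    (hT : adj G T = T) (hT2 : T * T = 1) (h1 : T ≠ 1) (h2 : T ≠ -1) :
    ∃ D : Fin 2 → Submodule F (ι → F), IsNondegenerateMDecomposition (gramForm G) 2 D ∧
      ∀ g : GL ι F, ((g : Matrix ι ι F) * T * ((g⁻¹ : GL ι F) : Matrix ι ι F) = T ∨
        (g : Matrix ι ι F) * T * ((g⁻¹ : GL ι F) : Matrix ι ι F) = -T) → g ∈ decompositionStabilizer D := by
  classical
  have h20 : (2 : F) ≠ 0 := two_ne_zero' hodd
  let E : Bool → Matrix ι ι F := fun s => (2 : F)⁻¹ • (1 + (if s then (1 : F) else -1) • T)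
  have hadj : ∀ s, adj G (E s) = E s := fun s => by
    simp only [E, adj_smul hG, adj_add hG, adj_one hG, hT]
  have hidem : ∀ s, E s * E s = E s := fun s => by
    simp only [E, Matrix.smul_mul, Matrix.mul_smul, add_mul, mul_add, one_mul, mul_one, hT2, smul_smul]
    cases s <;> simp only [Bool.false_eq_true, if_true, if_false] <;> match_scalars <;> field_simp <;> ring
  have horth : ∀ s, E s * E (!s) = 0 := fun s => by
    simp only [E, Matrix.smul_mul, Matrix.mul_smul, add_mul, mul_add, one_mul, mul_one, hT2, smul_smul]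
    cases s <;> simp only [Bool.not_false, Bool.not_true, Bool.false_eq_true, if_true, if_false] <;>
      match_scalars <;> field_simp <;> ring
  have hsum : E true + E false = 1 := by
    simp only [E, Bool.false_eq_true, if_true, if_false]
    match_scalars <;> field_simp <;> norm_num
  have hne : ∀ s, E s ≠ 0 := fun s h => by
    have h' := congrArg (fun M => (2 : F) • M) h
    simp only [E, smul_smul, mul_inv_cancel₀ h20, one_smul, smul_zero] at h'
    cases s
    · simp only [Bool.false_eq_true, if_false, neg_one_smul, ← sub_eq_add_neg, sub_eq_zero] at h'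
      exact h1 h'.symm
    · simp only [if_true, one_smul] at h'
      exact h2 (eq_neg_of_add_eq_zero_right h')
  have hnd : ∀ s, IsNondegenerateOn (gramForm G) (rng (E s)) := fun s v hv hv0 => by
    obtain ⟨⟨x, hx⟩, ⟨y, hy⟩⟩ := hG.isSymplectic.nondegenerate v hv0
    exact ⟨⟨E s *ᵥ x, ⟨x, Matrix.toLin'_apply _ _⟩, by rwa [gramForm_adj hG, hadj, rng_fix (hidem s) hv]⟩,
      ⟨E s *ᵥ y, ⟨y, Matrix.toLin'_apply _ _⟩, by
        rw [← hadj s, ← gramForm_adj hG, rng_fix (hidem s) hv]; exact hy⟩⟩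
  have hpos : ∀ s, 2 ≤ Module.finrank F (rng (E s)) := fun s => by
    obtain ⟨j, hj⟩ := even_finrank_of_nondeg hG (hnd s)
    have : Module.finrank F (rng (E s)) ≠ 0 := fun h => hne s (Matrix.toLin'.injective (by
      rw [map_zero]; exact LinearMap.range_eq_bot.mp (Submodule.finrank_eq_zero.mp h)))
    omega
  have hcompl : IsCompl (rng (E true)) (rng (E false)) := by
    refine ⟨Submodule.disjoint_def.mpr fun v hv hv' => ?_, codisjoint_iff.mpr (eq_top_iff.mpr fun v _ => ?_)⟩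
    · rw [← rng_fix (hidem true) hv, rng_kill (horth true) hv']
    · rw [← Matrix.one_mulVec v, ← hsum, Matrix.add_mulVec]
      exact Submodule.add_mem_sup ⟨v, Matrix.toLin'_apply _ _⟩ ⟨v, Matrix.toLin'_apply _ _⟩
  have hdim := Submodule.finrank_add_eq_of_isCompl hcompl
  rw [Module.finrank_pi, hc] at hdim
  have hp1 := hpos true
  have hp2 := hpos false
  refine ⟨![rng (E true), rng (E false)],
    ⟨mdec_pair hG (by norm_num) (by omega) (by omega) hcompl, fun i => by fin_cases i <;> exact hnd _,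
      fun i j hij => ?_⟩, fun g hg => ?_⟩
  · have key : ∀ s, AreOrthogonalFor (gramForm G) (rng (E s)) (rng (E (!s))) := fun s u hu v hv => by
      rw [← rng_fix (hidem s) hu, gramForm_adj hG, hadj, rng_kill (horth s) hv]
      simp [gramForm]
    fin_cases i <;> fin_cases j <;> first | exact absurd rfl hij | exact key true | exact key false
  rcases hg with h6 | h6
  · refine ⟨1, fun i => ?_⟩
    have h7 : ∀ s, (g : Matrix ι ι F) * E s * ((g⁻¹ : GL ι F) : Matrix ι ι F) = E s := fun s => by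
      simp only [E, Matrix.mul_smul, Matrix.smul_mul, mul_add, add_mul, mul_one, Units.mul_inv, h6]
    fin_cases i
    · show translate g (rng (E true)) = rng (E true); rw [translate_rng, h7]
    · show translate g (rng (E false)) = rng (E false); rw [translate_rng, h7]
  · refine ⟨Equiv.swap 0 1, fun i => ?_⟩
    have h7 : ∀ s, (g : Matrix ι ι F) * E s * ((g⁻¹ : GL ι F) : Matrix ι ι F) = E (!s) := fun s => by
      simp only [E, Matrix.mul_smul, Matrix.smul_mul, mul_add, add_mul, mul_one, Units.mul_inv, h6]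
      cases s <;> simp
    fin_cases i
    · show translate g (rng (E true)) = rng (E false); rw [translate_rng, h7]; rfl
    · show translate g (rng (E false)) = rng (E true); rw [translate_rng, h7]; rfl

/-- Over the field with three elements a totally singular pair of planes is fixed with a decomposition into
non-degenerate planes. -/
theorem of_pair_three (hG : Alt G) (hq : Fintype.card F = 3) (hc : Fintype.card ι = 4)
    {D : Fin 2 → Submodule F (ι → F)} (hD : IsMDecomposition 2 D)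
    (hs : ∀ i, IsTotallySingularFor (gramForm G) (D i)) :
    ∃ D' : Fin 2 → Submodule F (ι → F), IsNondegenerateMDecomposition (gramForm G) 2 D' ∧
      decompositionStabilizer D ⊓ Isom G ≤ decompositionStabilizer D' := by
  classical
  obtain ⟨h3, hF⟩ := three_facts hq
  have hodd : Odd (Fintype.card F) := by rw [hq]; decide
  have h20 : (2 : F) ≠ 0 := two_ne_zero' hodd
  have hb := gramForm_bilinear G
  have hcompl : IsCompl (D 0) (D 1) := by
    refine ⟨hD.indep.pairwiseDisjoint (by decide : (0 : Fin 2) ≠ 1), codisjoint_iff.mpr ?_⟩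
    rw [eq_top_iff, ← hD.iSup_eq_top]
    exact iSup_le fun i => by fin_cases i <;> simp
  -- dual bases
  let a := Module.finBasisOfFinrankEq F (D 0) (hD.finrank_eq 0)
  let b' := Module.finBasisOfFinrankEq F (D 1) (hD.finrank_eq 1)
  let M : Matrix (Fin 2) (Fin 2) F := Matrix.of fun i j => gramForm G (a i : ι → F) (b' j : ι → F)
  have hM : M.det ≠ 0 := by
    intro h
    obtain ⟨c, hc0, hcM⟩ := Matrix.exists_vecMul_eq_zero_iff.mpr h
    set u : D 0 := ∑ i, c i • a i with hu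
    have hu0 : (u : ι → F) ≠ 0 := fun h0 => hc0 (funext fun i =>
      Fintype.linearIndependent_iff.mp a.linearIndependent c (hu ▸ (Subtype.ext h0 : u = 0)) i)
    obtain ⟨x, hx⟩ := (hG.isSymplectic.nondegenerate (u : ι → F) hu0).2
    apply hx
    obtain ⟨p, hp, r, hr, rfl⟩ := Submodule.mem_sup.mp (hcompl.sup_eq_top ▸ Submodule.mem_top : x ∈ D 0 ⊔ D 1)
    rw [hb.add_right, hs 0 _ u.2 _ hp, zero_add]
    obtain ⟨r', rfl⟩ : ∃ r' : D 1, (r' : ι → F) = r := ⟨⟨r, hr⟩, rfl⟩
    have huv : ∀ j, gramForm G (u : ι → F) (b' j : ι → F) = 0 := fun j => by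
      have h1 := congrFun hcM j
      rw [Matrix.vecMul, dotProduct] at h1
      rw [hu, Submodule.coe_sum, gramForm, sum_dotProduct, ← Pi.zero_apply (M := fun _ => F) j, ← h1]
      refine Finset.sum_congr rfl fun i _ => ?_
      rw [Submodule.coe_smul, smul_dotProduct]
      rfl
    let φu : D 1 →ₗ[F] F :=
      { toFun := fun z => gramForm G (u : ι → F) z
        map_add' := fun z z' => by simp only [Submodule.coe_add, hb.add_right]
        map_smul' := fun t z => by simp only [Submodule.coe_smul, hb.smul_right, RingHom.id_apply, smul_eq_mul] }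
    exact LinearMap.congr_fun (b'.ext (f₁ := φu) (f₂ := 0) fun j => huv j) r'
  let b : Fin 2 → D 1 := fun j => ∑ k, M⁻¹ k j • b' k
  have hab : ∀ i j, gramForm G (a i : ι → F) (b j : ι → F) = if i = j then 1 else 0 := fun i j => by
    have h := congrFun (congrFun (Matrix.mul_nonsing_inv M (isUnit_iff_ne_zero.mpr hM)) i) j
    rw [Matrix.mul_apply, Matrix.one_apply] at h
    rw [← h, Submodule.coe_sum, gramForm, Matrix.mulVec_sum, dotProduct_sum]
    refine Finset.sum_congr rfl fun k _ => ?_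
    rw [Submodule.coe_smul, Matrix.mulVec_smul, dotProduct_smul, smul_eq_mul, mul_comm]
    rfl
  let v : Fin 2 × Fin 2 → ι → F := fun x => if x.1 = 0 then (a x.2 : ι → F) else (b x.2 : ι → F)
  let Ω : Matrix (Fin 2) (Fin 2) F := !![0, 1; -1, 0]
  let one₂ : Matrix (Fin 2) (Fin 2) F := 1
  obtain ⟨ε, P, hgram, hP⟩ := exists_coords (G := G) (v := v) (G₀ := Ω ⊗ₖ one₂) (by rw [hc]; simp)
    (by simp [Ω, one₂, Matrix.det_kronecker, Matrix.det_fin_two]) (fun x y => by
      obtain ⟨x₁, x₂⟩ := x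
      obtain ⟨y₁, y₂⟩ := y
      fin_cases x₁ <;> fin_cases y₁
      · simpa [v, Ω] using hs 0 _ (a x₂).2 _ (a y₂).2
      · simpa [v, Ω, one₂, Matrix.one_apply] using hab x₂ y₂
      · simp [v, Ω, one₂, Matrix.one_apply]
        rw [hG.isSymplectic.skew, hab]
        split_ifs <;> simp_all
      · simpa [v, Ω] using hs 1 _ (b x₂).2 _ (b y₂).2)
  let S : Matrix (Fin 2) (Fin 2) F := !![0, -1; 1, 0]
  set T₀ : Matrix (Fin 2 × Fin 2) (Fin 2 × Fin 2) F := S ⊗ₖ Ω with hT₀
  have hadjT : ∀ N : Matrix (Fin 2 × Fin 2) (Fin 2 × Fin 2) F, adj G (coordAlg ε P N) = coordAlg ε P N →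
      Nᵀ * (Ω ⊗ₖ one₂) = Ω ⊗ₖ one₂ * N := fun N hN => by
    rw [adj_coord hG, hgram] at hN
    have h := (coordAlg ε P).injective hN
    rw [adj] at h
    have hu : IsUnit (Ω ⊗ₖ one₂).det := isUnit_iff_ne_zero.mpr (by
      simp [Ω, one₂, Matrix.det_kronecker, Matrix.det_fin_two])
    conv_rhs => rw [← h, ← mul_assoc, Matrix.mul_nonsing_inv_cancel_left _ _ hu]
  have hT2 : T₀ * T₀ = 1 := by
    ext ⟨p, p'⟩ ⟨r, r'⟩
    fin_cases p <;> fin_cases p' <;> fin_cases r <;> fin_cases r' <;>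
      simp [T₀, S, Ω, Matrix.mul_apply, Fintype.sum_prod_type, Fin.sum_univ_two]
  have hTadj : adj G (coordAlg ε P T₀) = coordAlg ε P T₀ := by
    rw [adj_coord hG, hgram]
    congr 1
    rw [adj]
    have h : T₀ᵀ * (Ω ⊗ₖ one₂) = Ω ⊗ₖ one₂ * T₀ := by
      ext ⟨p, p'⟩ ⟨r, r'⟩
      fin_cases p <;> fin_cases p' <;> fin_cases r <;> fin_cases r' <;>
        simp [T₀, S, Ω, one₂, Matrix.mul_apply, Fintype.sum_prod_type, Fin.sum_univ_two, Matrix.one_apply]
    rw [mul_assoc, h, ← mul_assoc, Matrix.nonsing_inv_mul _ (isUnit_iff_ne_zero.mpr (by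
      simp [Ω, one₂, Matrix.det_kronecker, Matrix.det_fin_two])), one_mul]
  have hne1 : T₀ ≠ 1 := fun h => by
    have := congrFun (congrFun h (0, 0)) (0, 0)
    simp [T₀, S] at this
  have hne2 : T₀ ≠ -1 := fun h => by
    have := congrFun (congrFun h (0, 0)) (0, 0)
    simp [T₀, S] at this
  obtain ⟨D', hD', hstab⟩ := of_involution hG hodd hc hTadj (by rw [← map_mul, hT2, map_one])
    (fun h => hne1 ((coordAlg ε P).injective (by rw [h, map_one])))
    (fun h => hne2 ((coordAlg ε P).injective (by rw [h, map_neg, map_one])))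
  refine ⟨D', hD', fun g hg => hstab g ?_⟩
  -- membership in the two planes through coordinates
  have hv : ∀ x, v x ∈ D x.1 := fun x => by
    obtain ⟨x₁, x₂⟩ := x
    fin_cases x₁
    · simp [v]
    · simp [v]
  have hmem : ∀ (i : Fin 2) (w : ι → F), w ∈ D i → ∀ k, toX ε P w (i + 1, k) = 0 := by
    intro i w hw k
    have hspan : ∀ w ∈ D i, ∃ c : Fin 2 → F, toX ε P w = ∑ k, c k • (Pi.single (i, k) 1 : Fin 2 × Fin 2 → F) := by
      intro w hw
      have hsum : ∀ (d : Fin 2 → F), (P : Matrix ι ι F) *ᵥ ((∑ k, d k • (Pi.single (i, k) 1 : Fin 2 × Fin 2 → F)) ∘ ε)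
          = ∑ k, d k • v (i, k) := fun d => by
        simp only [← hP, ← Matrix.mulVec_smul, ← Matrix.mulVec_sum]
        congr 1
      have htop : Submodule.span F (Set.range fun k => v (i, k)) = D i := by
        refine Submodule.eq_of_le_of_finrank_le (Submodule.span_le.mpr ?_) ?_
        · rintro _ ⟨k, rfl⟩; exact hv (i, k)
        · rw [hD.finrank_eq, finrank_span_eq_card]
          · simp
          · rw [Fintype.linearIndependent_iff]
            intro d hd k'
            rw [← hsum] at hd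
            have := congrFun (congrArg (toX ε P) hd) (i, k')
            rw [toX_mk] at this
            simpa [toX, Finset.sum_apply, Pi.single_apply] using this
      rw [← htop, Submodule.mem_span_range_iff_exists_fun] at hw
      obtain ⟨d, rfl⟩ := hw
      exact ⟨d, by rw [← hsum, toX_mk]⟩
    obtain ⟨c, hc'⟩ := hspan w hw
    rw [hc', Finset.sum_apply]
    refine Finset.sum_eq_zero fun k' _ => ?_
    fin_cases i <;> simp
  obtain ⟨σ, hσ⟩ := hg.1
  set N := (coordAlg ε P).symm ((g : Matrix ι ι F) * coordAlg ε P T₀ * ((g⁻¹ : GL ι F) : Matrix ι ι F)) with hN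
  have hNe : coordAlg ε P N = (g : Matrix ι ι F) * coordAlg ε P T₀ * ((g⁻¹ : GL ι F) : Matrix ι ι F) :=
    AlgEquiv.apply_symm_apply _ _
  have hNself := hadjT N (by rw [hNe, adj_conj hG hg.2, hTadj])
  have hN2 : N * N = 1 := (coordAlg ε P).injective (by
    rw [map_mul, hNe, map_one]
    simp only [mul_assoc]
    rw [← mul_assoc ((g⁻¹ : GL ι F) : Matrix ι ι F) (g : Matrix ι ι F), Units.inv_mul, one_mul,
      ← mul_assoc (coordAlg ε P T₀), ← map_mul, hT2, map_one, one_mul, Units.mul_inv])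
  -- `N` exchanges the planes
  have hTsw : ∀ i, ∀ w ∈ D i, coordAlg ε P T₀ *ᵥ w ∈ D (i + 1) := by
    intro i w hw
    rw [← mk_toX ε P (coordAlg ε P T₀ *ᵥ w), toX_coord]
    have h0 := hmem i w hw
    have : T₀ *ᵥ toX ε P w = ∑ k, (T₀ *ᵥ toX ε P w) (i + 1, k) • (Pi.single (i + 1, k) 1 : Fin 2 × Fin 2 → F) := by
      funext p
      obtain ⟨p, p'⟩ := p
      have h00 := h0 0
      have h01 := h0 1
      fin_cases i <;> fin_cases p <;> fin_cases p' <;>
        simp [T₀, S, Ω, Matrix.mulVec, dotProduct, Fintype.sum_prod_type, Fin.sum_univ_two, Finset.sum_apply] at h00 h01 ⊢ <;>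
        simp_all
    rw [this]
    have hsum : (P : Matrix ι ι F) *ᵥ ((∑ k, (T₀ *ᵥ toX ε P w) (i + 1, k) •
        (Pi.single (i + 1, k) 1 : Fin 2 × Fin 2 → F)) ∘ ε) = ∑ k, (T₀ *ᵥ toX ε P w) (i + 1, k) • v (i + 1, k) := by
      simp only [← hP, ← Matrix.mulVec_smul, ← Matrix.mulVec_sum]
      congr 1
    rw [hsum]
    exact Submodule.sum_mem _ fun k _ => Submodule.smul_mem _ _ (hv (i + 1, k))
  have hσadd := (show ∀ s : Equiv.Perm (Fin 2), ∀ i, s (i + 1) = s i + 1 by decide) σ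
  have hNsw : ∀ i, ∀ w ∈ D i, coordAlg ε P N *ᵥ w ∈ D (i + 1) := by
    intro i w hw
    obtain ⟨i', rfl⟩ := σ.surjective i
    rw [← hσ] at hw
    obtain ⟨w', hw', rfl⟩ := hw
    rw [Matrix.toLin'_apply, hNe, ← Matrix.mulVec_mulVec, inv_mulVec_cancel, ← Matrix.mulVec_mulVec, ← hσadd, ← hσ]
    exact Submodule.mem_map_of_mem (f := Matrix.toLin' (g : Matrix ι ι F)) (hTsw i' w' hw')
  have hblock : ∀ i b d, N (i, b) (i, d) = 0 := fun i b d => by
    have h := hmem (i + 1) _ (hNsw i (v (i, d)) (hv (i, d))) b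
    rw [toX_coord, ← hP (i, d), toX_mk, Matrix.mulVec_single_one] at h
    have e : i + 1 + 1 = i := by fin_cases i <;> decide
    rwa [e] at h
  have hx : ∀ p r, (Nᵀ * (Ω ⊗ₖ one₂)) p r = (Ω ⊗ₖ one₂ * N) p r := fun p r => by rw [hNself]
  simp only [Matrix.mul_apply, Matrix.transpose_apply, Fintype.sum_prod_type, Fin.sum_univ_two] at hx
  have e1 := hx (0, 0) (0, 0)
  have e2 := hx (0, 1) (0, 1)
  have e3 := hx (0, 0) (0, 1)
  have e4 := hx (1, 0) (1, 0)
  have e5 := hx (1, 1) (1, 1)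
  have e6 := hx (1, 0) (1, 1)
  simp [Ω, one₂] at e1 e2 e3 e4 e5 e6
  have z1 : N (1, 0) (0, 0) = 0 := by
    refine (mul_eq_zero.mp (show (2 : F) * N (1, 0) (0, 0) = 0 from ?_)).resolve_left h20
    linear_combination -e1
  have z2 : N (1, 1) (0, 1) = 0 := by
    refine (mul_eq_zero.mp (show (2 : F) * N (1, 1) (0, 1) = 0 from ?_)).resolve_left h20
    linear_combination -e2
  have z3 : N (0, 0) (1, 0) = 0 := by
    refine (mul_eq_zero.mp (show (2 : F) * N (0, 0) (1, 0) = 0 from ?_)).resolve_left h20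
    linear_combination e4
  have z4 : N (0, 1) (1, 1) = 0 := by
    refine (mul_eq_zero.mp (show (2 : F) * N (0, 1) (1, 1) = 0 from ?_)).resolve_left h20
    linear_combination e5
  have hprod := congrFun (congrFun hN2 (0, 0)) (0, 0)
  simp [Matrix.mul_apply, Fintype.sum_prod_type, Fin.sum_univ_two, hblock, z3] at hprod
  set y := N (1, 1) (0, 0)
  set x := N (0, 1) (1, 0)
  have hNval : ∀ s : F, y = -s → x = s → N = s • T₀ := fun s hy hx' => by
    ext ⟨p, p'⟩ ⟨r, r'⟩
    fin_cases p <;> fin_cases p' <;> fin_cases r <;> fin_cases r' <;>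
      simp [T₀, S, Ω, hblock, z1, z2, z3, z4] <;> grind
  have h6 : N (0, 0) (1, 1) = -x := by linear_combination e6
  have h7 : N (1, 0) (0, 1) = -y := by linear_combination -e3
  rcases hF x with hx0 | hx0 | hx0
  · exfalso
    rw [h6, hx0] at hprod
    simp at hprod
  · left
    have := hNval 1 (by rw [h6, hx0] at hprod; linear_combination -hprod) hx0
    rw [← hNe, this, one_smul]
  · right
    have := hNval (-1) (by rw [h6, hx0] at hprod; linear_combination hprod) hx0
    rw [← hNe, this, neg_one_smul, map_neg]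

section unitary

/-- The normaliser of an adjoint-closed field that is not self-adjoint fixes a skew element up to sign. -/
theorem exists_skew (hG : Alt G) (hq : Fintype.card F = 3) [Nonempty ι] {K : Subalgebra F (Matrix ι ι F)}
    (hK : IsFieldSubalgebra 2 K) (hcl : IsAdjointClosedFor (gramForm G) K)
    (hns : ¬ IsSelfAdjointFor (gramForm G) K) :
    ∃ J ∈ K, adj G J = -J ∧ J * J = -1 ∧ ∀ g ∈ subalgebraNormalizer K ⊓ Isom G,
      (g : Matrix ι ι F) * J * ((g⁻¹ : GL ι F) : Matrix ι ι F) = J ∨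
        (g : Matrix ι ι F) * J * ((g⁻¹ : GL ι F) : Matrix ι ι F) = -J := by
  classical
  obtain ⟨h3, hF⟩ := three_facts hq
  have h20 : (2 : F) ≠ 0 := two_ne_zero' (by rw [hq]; decide)
  have hadjK : ∀ k ∈ K, adj G k ∈ K := fun k hk => by
    obtain ⟨k', hk', h⟩ := hcl k hk
    rwa [← eq_adj hG h]
  simp only [IsSelfAdjointFor, not_forall] at hns
  obtain ⟨k, hk, u, w, hkne⟩ := hns
  set J := k + (-1 : F) • adj G k with hJ
  have hJK : J ∈ K := add_mem hk (Subalgebra.smul_mem _ (hadjK k hk) _)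
  have hJ' : adj G J = -J := by
    rw [hJ, adj_add hG, adj_smul hG, adj_adj hG]
    module
  have hJ0 : J ≠ 0 := fun h => hkne (by
    rw [gramForm_adj hG]
    have : adj G k = k := by
      rw [hJ, neg_one_smul, ← sub_eq_add_neg, sub_eq_zero] at h
      exact h.symm
    rw [this])
  have hskew0 : ∀ c : F, c • (1 : Matrix ι ι F) = -(c • 1) → c = 0 := fun c h => by
    have h1 : (2 * c) • (1 : Matrix ι ι F) = 0 := by rw [two_mul, add_smul]; exact eq_neg_iff_add_eq_zero.mp h
    exact (mul_eq_zero.mp ((smul_eq_zero.mp h1).resolve_right one_ne_zero)).resolve_left h20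
  -- `1, J` is a basis
  have hli : LinearIndependent F ![(⟨1, one_mem _⟩ : K), ⟨J, hJK⟩] := by
    rw [linearIndependent_fin2]
    refine ⟨fun h => hJ0 (congrArg Subtype.val h), fun c h => ?_⟩
    simp only [Matrix.cons_val_one, Matrix.cons_val_fin_one, Matrix.cons_val_zero] at h
    have h' : c • J = 1 := congrArg Subtype.val h
    have h1 : adj G (c • J) = -(c • J) := by rw [adj_smul hG, hJ', smul_neg]
    rw [h', adj_one hG] at h1
    exact one_ne_zero (hskew0 1 (by simpa using h1))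
  have hspan : ∀ N ∈ K, ∃ c d : F, N = c • 1 + d • J := by
    intro N hN
    have htop : Submodule.span F (Set.range ![(⟨1, one_mem _⟩ : K), ⟨J, hJK⟩]) = ⊤ :=
      hli.span_eq_top_of_card_eq_finrank (by simp [Fintype.card_fin]; exact hK.finrank_eq.symm)
    obtain ⟨c, hc⟩ := (Submodule.mem_span_range_iff_exists_fun F).mp (htop ▸ Submodule.mem_top : (⟨N, hN⟩ : K) ∈ _)
    have hc' := congrArg Subtype.val hc
    simp [Fin.sum_univ_two] at hc'
    exact ⟨c 0, c 1, hc'.symm⟩
  have hskewK : ∀ N ∈ K, adj G N = -N → ∃ d : F, N = d • J := fun N hN h => by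
    obtain ⟨c, d, rfl⟩ := hspan N hN
    rw [adj_add hG, adj_smul hG, adj_smul hG, adj_one hG, hJ', smul_neg, neg_add] at h
    rw [hskew0 c (add_right_cancel h), zero_smul, zero_add]
    exact ⟨d, rfl⟩
  obtain ⟨c, d, hJJ⟩ := hspan (J * J) (mul_mem hJK hJK)
  have hd : d = 0 := by
    have h := congrArg (adj G) hJJ
    rw [adj_mul hG, hJ', neg_mul_neg, adj_add hG, adj_smul hG, adj_smul hG, adj_one hG, hJ', hJJ] at h
    have h' : (2 * d) • J = 0 := by
      rw [two_mul, add_smul]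
      exact eq_neg_iff_add_eq_zero.mp (by simpa using h)
    exact (mul_eq_zero.mp ((smul_eq_zero.mp h').resolve_right hJ0)).resolve_left h20
  rw [hd, zero_smul, add_zero] at hJJ
  have hc : c = -1 := by
    rcases hF c with rfl | rfl | rfl
    · exfalso
      obtain ⟨y, hy, hJy⟩ := hK.inv J hJK hJ0
      apply hJ0
      have := congrArg (· * y) hJJ
      simpa [mul_assoc, hJy] using this
    · exfalso
      have hne : J + (-1 : F) • 1 ≠ 0 := fun h => by
        rw [neg_one_smul, ← sub_eq_add_neg, sub_eq_zero] at h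
        rw [h, adj_one hG] at hJ'
        exact one_ne_zero (hskew0 1 (by simpa using hJ'))
      obtain ⟨y, hy, hy1⟩ := hK.inv _ (add_mem hJK (Subalgebra.smul_mem _ (one_mem _) _)) hne
      have h0 : (J + 1) * (J + (-1 : F) • 1) = 0 := by
        rw [one_smul] at hJJ
        simp only [add_mul, mul_add, Matrix.mul_smul, mul_one, one_mul, hJJ]
        module
      have := congrArg (· * y) h0
      simp only [mul_assoc, hy1, mul_one, zero_mul] at this
      rw [eq_neg_of_add_eq_zero_left this, ← neg_one_smul F, adj_smul hG, adj_one hG] at hJ'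
      exact one_ne_zero (neg_eq_zero.mp (hskew0 (-1) hJ'))
    · rfl
  rw [hc, neg_one_smul] at hJJ
  refine ⟨J, hJK, hJ', hJJ, fun g hg => ?_⟩
  obtain ⟨e, he⟩ := hskewK _ ((hg.1 J).mp hJK) (by
    rw [adj_conj hG hg.2, hJ', Matrix.mul_neg, Matrix.neg_mul])
  have h2 : (e * e) • (1 : Matrix ι ι F) = 1 := by
    have h := congrArg (fun N => N * N) he
    simp only [Matrix.smul_mul, Matrix.mul_smul, hJJ, smul_smul, mul_assoc] at h
    rw [← mul_assoc ((g⁻¹ : GL ι F) : Matrix ι ι F) (g : Matrix ι ι F), Units.inv_mul, one_mul,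
      ← mul_assoc J J, hJJ] at h
    simpa [smul_neg] using h.symm
  rcases hF e with rfl | rfl | rfl
  · simp at h2
  · exact Or.inl (by rw [he, one_smul])
  · exact Or.inr (by rw [he, neg_one_smul])

/-- A self-adjoint matrix anticommuting with the complex structure. -/
theorem anti_self (h20 : (2 : F) ≠ 0) {N : Matrix (Fin 2 × Fin 2) (Fin 2 × Fin 2) F}
    (hS : N * ((!![0, -1; 1, 0] : Matrix (Fin 2) (Fin 2) F) ⊗ₖ (1 : Matrix (Fin 2) (Fin 2) F)) =
      -((((!![0, -1; 1, 0] : Matrix (Fin 2) (Fin 2) F) ⊗ₖ (1 : Matrix (Fin 2) (Fin 2) F))) * N))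
    (hA : Nᵀ * ((1 : Matrix (Fin 2) (Fin 2) F) ⊗ₖ (!![0, 1; -1, 0] : Matrix (Fin 2) (Fin 2) F)) =
      ((1 : Matrix (Fin 2) (Fin 2) F) ⊗ₖ (!![0, 1; -1, 0] : Matrix (Fin 2) (Fin 2) F)) * N) :
    N = (!![N (0, 0) (0, 0), N (0, 0) (1, 0); N (0, 0) (1, 0), -N (0, 0) (0, 0)] : Matrix (Fin 2) (Fin 2) F) ⊗ₖ
      (1 : Matrix (Fin 2) (Fin 2) F) := by
  have hs : ∀ p r, (N * ((!![0, -1; 1, 0] : Matrix (Fin 2) (Fin 2) F) ⊗ₖ (1 : Matrix (Fin 2) (Fin 2) F))) p r =
      (-((((!![0, -1; 1, 0] : Matrix (Fin 2) (Fin 2) F) ⊗ₖ (1 : Matrix (Fin 2) (Fin 2) F))) * N)) p r :=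
    fun p r => by rw [hS]
  have ha : ∀ p r, (Nᵀ * ((1 : Matrix (Fin 2) (Fin 2) F) ⊗ₖ (!![0, 1; -1, 0] : Matrix (Fin 2) (Fin 2) F))) p r =
      (((1 : Matrix (Fin 2) (Fin 2) F) ⊗ₖ (!![0, 1; -1, 0] : Matrix (Fin 2) (Fin 2) F)) * N) p r := fun p r => by rw [hA]
  have hC : ∀ b d, N (0, b) (1, d) = N (1, b) (0, d) := fun b d => by
    have := hs (0, b) (0, d)
    fin_cases b <;> fin_cases d <;>
      simpa [Matrix.mul_apply, Fintype.sum_prod_type, Fin.sum_univ_two] using this
  have hD : ∀ b d, N (1, b) (1, d) = -N (0, b) (0, d) := fun b d => by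
    have := hs (1, b) (0, d)
    fin_cases b <;> fin_cases d <;>
      simpa [Matrix.mul_apply, Fintype.sum_prod_type, Fin.sum_univ_two] using this
  have key : ∀ c : Fin 2, N (0, 0) (c, 1) = 0 ∧ N (0, 1) (c, 0) = 0 ∧ N (0, 1) (c, 1) = N (0, 0) (c, 0) := fun c => by
    have e1 := ha (c, 0) (0, 0)
    have e2 := ha (c, 1) (0, 1)
    have e3 := ha (c, 0) (0, 1)
    have c1 := hC 1 0
    have c2 := hC 0 1
    have c3 := hC 0 0
    have c4 := hC 1 1
    fin_cases c <;>
      simp [Matrix.mul_apply, Fintype.sum_prod_type, Fin.sum_univ_two] at e1 e2 e3 ⊢ <;>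
      exact ⟨by grind, by grind, by grind⟩
  obtain ⟨a1, a2, a3⟩ := key 0
  obtain ⟨b1, b2, b3⟩ := key 1
  ext ⟨p, p'⟩ ⟨r, r'⟩
  fin_cases p <;> fin_cases p' <;> fin_cases r <;> fin_cases r' <;> simp [hD, ← hC, a1, a2, a3, b1, b2, b3]

/-- A matrix commuting with two anticommuting involutions of the first factor. -/
theorem comm_first (h20 : (2 : F) ≠ 0) {N : Matrix (Fin 2 × Fin 2) (Fin 2 × Fin 2) F}
    (hS : N * ((!![0, -1; 1, 0] : Matrix (Fin 2) (Fin 2) F) ⊗ₖ (1 : Matrix (Fin 2) (Fin 2) F)) =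
      ((!![0, -1; 1, 0] : Matrix (Fin 2) (Fin 2) F) ⊗ₖ (1 : Matrix (Fin 2) (Fin 2) F)) * N)
    (hZ : N * ((!![1, 0; 0, -1] : Matrix (Fin 2) (Fin 2) F) ⊗ₖ (1 : Matrix (Fin 2) (Fin 2) F)) =
      ((!![1, 0; 0, -1] : Matrix (Fin 2) (Fin 2) F) ⊗ₖ (1 : Matrix (Fin 2) (Fin 2) F)) * N) :
    N = (1 : Matrix (Fin 2) (Fin 2) F) ⊗ₖ Matrix.of fun b d => N (0, b) (0, d) := by
  have hs : ∀ p r, (N * ((!![0, -1; 1, 0] : Matrix (Fin 2) (Fin 2) F) ⊗ₖ (1 : Matrix (Fin 2) (Fin 2) F))) p r =
      (((!![0, -1; 1, 0] : Matrix (Fin 2) (Fin 2) F) ⊗ₖ (1 : Matrix (Fin 2) (Fin 2) F)) * N) p r :=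
    fun p r => by rw [hS]
  have hz : ∀ p r, (N * ((!![1, 0; 0, -1] : Matrix (Fin 2) (Fin 2) F) ⊗ₖ (1 : Matrix (Fin 2) (Fin 2) F))) p r =
      (((!![1, 0; 0, -1] : Matrix (Fin 2) (Fin 2) F) ⊗ₖ (1 : Matrix (Fin 2) (Fin 2) F)) * N) p r :=
    fun p r => by rw [hZ]
  have hD : ∀ b d, N (1, b) (1, d) = N (0, b) (0, d) := fun b d => by
    have := hs (1, b) (0, d)
    fin_cases b <;> fin_cases d <;>
      simpa [Matrix.mul_apply, Fintype.sum_prod_type, Fin.sum_univ_two] using this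
  have hB : ∀ b d, N (0, b) (1, d) = 0 ∧ N (1, b) (0, d) = 0 := fun b d => by
    have e1 := hz (0, b) (1, d)
    have e2 := hz (1, b) (0, d)
    fin_cases b <;> fin_cases d <;>
      simp [Matrix.mul_apply, Fintype.sum_prod_type, Fin.sum_univ_two] at e1 e2 ⊢ <;>
      exact ⟨by grind, by grind⟩
  ext ⟨p, p'⟩ ⟨r, r'⟩
  fin_cases p <;> fin_cases r <;> simp [hD, (hB p' r').1, (hB p' r').2]

theorem zmod_axes : ∀ a b : ZMod 3, a * a + b * b = 1 → a = 0 ∨ b = 0 := by decide +kernel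

/-- Over the field with three elements a four-dimensional unitary structure normalises a two-group. -/
theorem of_unitary_three (hG : Alt G) (hq : Fintype.card F = 3) (hc : Fintype.card ι = 4)
    {K : Subalgebra F (Matrix ι ι F)} (hK : IsFieldSubalgebra 2 K) (hcl : IsAdjointClosedFor (gramForm G) K)
    (hns : ¬ IsSelfAdjointFor (gramForm G) K) :
    ∃ R : Subgroup (GL ι F), IsSymplecticTypeGroup 2 R ∧ ActsAbsolutelyIrreducibly (matrixSet R) ∧
      R ≤ Isom G ∧ Nat.card R = 32 ∧ Nat.card (Subgroup.center R) = 2 ∧ IsOfMinusType 2 R ∧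
      subalgebraNormalizer K ⊓ Isom G ≤ subgroupNormalizer R := by
  classical
  haveI : Nonempty ι := Fintype.card_pos_iff.mp (by omega)
  obtain ⟨h3, hF⟩ := three_facts hq
  have h20 : (2 : F) ≠ 0 := two_ne_zero' (by rw [hq]; decide)
  have hb := gramForm_bilinear G
  obtain ⟨J, -, hJ, hJJ, hJconj⟩ := exists_skew hG hq hK hcl hns
  have hJv : ∀ w, J *ᵥ (J *ᵥ w) = -w := fun w => by
    rw [Matrix.mulVec_mulVec, hJJ, Matrix.neg_mulVec, Matrix.one_mulVec]
  have hnR : ∀ u w, gramForm G u (-w) = -gramForm G u w := fun u w => by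
    rw [← neg_one_smul F w, hb.smul_right, neg_one_mul]
  have hJf : ∀ u w, gramForm G (J *ᵥ u) w = -gramForm G u (J *ᵥ w) := fun u w => by
    rw [gramForm_adj hG, hJ, Matrix.neg_mulVec, hnR]
  have hJJf : ∀ u w, gramForm G (J *ᵥ u) (J *ᵥ w) = gramForm G u w := fun u w => by
    rw [hJf, hJv, hnR, neg_neg]
  let h : (ι → F) → (ι → F) → F := fun u w => gramForm G u (J *ᵥ w)
  have hsymm : ∀ u w, h u w = h w u := fun u w => by
    simp only [h]
    rw [hG.isSymplectic.skew, hJf, neg_neg]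
  -- an isotropic vector
  obtain ⟨e₁, he₁, hiso⟩ : ∃ e₁ : ι → F, e₁ ≠ 0 ∧ h e₁ e₁ = 0 := by
    obtain ⟨u, hu⟩ : ∃ u : ι → F, u ≠ 0 := exists_ne 0
    by_cases ha : h u u = 0
    · exact ⟨u, hu, ha⟩
    let L : (ι → F) →ₗ[F] F × F :=
      { toFun := fun w => (h u w, h (J *ᵥ u) w)
        map_add' := fun x y => by simp [h, Matrix.mulVec_add, hb.add_right]
        map_smul' := fun c x => by simp [h, Matrix.mulVec_smul, hb.smul_right] }
    obtain ⟨w, hw, hw0⟩ := Submodule.exists_mem_ne_zero_of_ne_bot (p := LinearMap.ker L) (fun hbot => by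
      have h1 := LinearMap.finrank_range_add_finrank_ker L
      have h2 := Submodule.finrank_le (LinearMap.range L)
      rw [hbot, finrank_bot, Module.finrank_pi, hc] at h1
      rw [Module.finrank_prod, Module.finrank_self] at h2
      omega)
    rw [LinearMap.mem_ker] at hw
    have hw1 : h u w = 0 := (Prod.ext_iff.mp hw).1
    have hw2 : h (J *ᵥ u) w = 0 := (Prod.ext_iff.mp hw).2
    have hexp : ∀ x y, h (x + y) (x + y) = h x x + 2 * h x y + h y y := fun x y => by
      have := hsymm y x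
      simp only [h, Matrix.mulVec_add, hb.add_left, hb.add_right] at *
      linear_combination this
    have huJ : h u (J *ᵥ u) = 0 := by
      simp only [h, hJv, hnR, hG.isSymplectic.alternating, neg_zero]
    by_cases hbw : h w w = 0
    · exact ⟨w, hw0, hbw⟩
    rcases hF (h u u) with ha' | ha' | ha'
    · exact absurd ha' ha
    all_goals rcases hF (h w w) with hb' | hb' | hb'
    all_goals first
      | exact absurd hb' hbw
      | (refine ⟨u + w, fun h0 => ha ?_, ?_⟩
         · have e : h u (u + w) = 0 := by rw [h0]; simp [h, gramForm]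
           simp only [h, Matrix.mulVec_add, hb.add_right] at e hw1 ⊢
           linear_combination e - hw1
         · rw [hexp, ha', hb', hw1]; ring)
      | (refine ⟨u + J *ᵥ u + w, fun h0 => ha ?_, ?_⟩
         · have e : h u (u + J *ᵥ u + w) = 0 := by rw [h0]; simp [h, gramForm]
           simp only [h, Matrix.mulVec_add, hb.add_right] at e hw1 huJ ⊢
           linear_combination e - hw1 - huJ
         · have e1 : h (u + J *ᵥ u) w = 0 := by
             simp only [h, hb.add_left] at hw1 hw2 ⊢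
             linear_combination hw1 + hw2
           have e2 : h (J *ᵥ u) (J *ᵥ u) = h u u := by simp only [h, hJJf]
           rw [hexp, e1, hexp, huJ, e2, ha', hb']
           linear_combination h3
             )
      | (refine ⟨u + J *ᵥ u + w, fun h0 => ha ?_, ?_⟩
         · have e : h u (u + J *ᵥ u + w) = 0 := by rw [h0]; simp [h, gramForm]
           simp only [h, Matrix.mulVec_add, hb.add_right] at e hw1 huJ ⊢
           linear_combination e - hw1 - huJ
         · have e1 : h (u + J *ᵥ u) w = 0 := by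
             simp only [h, hb.add_left] at hw1 hw2 ⊢
             linear_combination hw1 + hw2
           have e2 : h (J *ᵥ u) (J *ᵥ u) = h u u := by simp only [h, hJJf]
           rw [hexp, e1, hexp, huJ, e2, ha', hb']
           linear_combination -h3)
  -- a partner
  obtain ⟨e₂, hf12, hh12, hh22⟩ : ∃ e₂, gramForm G e₁ e₂ = 1 ∧ h e₁ e₂ = 0 ∧ h e₂ e₂ = 0 := by
    let L : (ι → F) →ₗ[F] F × F :=
      { toFun := fun w => (gramForm G e₁ w, h e₁ w)
        map_add' := fun x y => by simp [h, Matrix.mulVec_add, hb.add_right]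
        map_smul' := fun c x => by simp [h, Matrix.mulVec_smul, hb.smul_right] }
    obtain ⟨x, hx⟩ := (hG.isSymplectic.nondegenerate e₁ he₁).2
    have hsurj : ∃ x, gramForm G e₁ x = 1 ∧ h e₁ x = 0 := by
      set a := gramForm G e₁ x
      set c := h e₁ x
      have hxJ1 : gramForm G e₁ (J *ᵥ x) = c := rfl
      have hxJ2 : h e₁ (J *ᵥ x) = -a := by simp only [h, hJv, hnR]; rfl
      have hn : a * a + c * c ≠ 0 := by
        intro h0
        rcases hF a with ha | ha | ha
        · exact hx ha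
        all_goals rcases hF c with hc' | hc' | hc' <;> rw [ha, hc'] at h0 <;>
          first
            | exact one_ne_zero (show (1 : F) = 0 by linear_combination h0)
            | exact one_ne_zero (show (1 : F) = 0 by linear_combination h3 - h0)
      refine ⟨(a / (a * a + c * c)) • x + (c / (a * a + c * c)) • (J *ᵥ x), ?_, ?_⟩
      · rw [hb.add_right, hb.smul_right, hb.smul_right, hxJ1]
        show _ * a + _ = 1
        rw [div_mul_eq_mul_div, div_mul_eq_mul_div, ← add_div, div_self hn]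
      · have e : h e₁ ((a / (a * a + c * c)) • x + (c / (a * a + c * c)) • (J *ᵥ x)) =
            (a / (a * a + c * c)) * c + (c / (a * a + c * c)) * h e₁ (J *ᵥ x) := by
          simp only [h, Matrix.mulVec_add, Matrix.mulVec_smul, hb.add_right, hb.smul_right]
          rfl
        rw [e, hxJ2]; ring
    obtain ⟨y, hy1, hy2⟩ := hsurj
    refine ⟨y + (-(h y y) / 2) • (J *ᵥ e₁), ?_, ?_, ?_⟩
    · have := hiso
      simp only [h] at this
      rw [hb.add_right, hb.smul_right, this, hy1, mul_zero, add_zero]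
    · simp only [h, Matrix.mulVec_add, Matrix.mulVec_smul, hb.add_right, hb.smul_right, hJv, hnR,
        hG.isSymplectic.alternating] at hy2 ⊢
      rw [hy2]; simp
    · have e1 : h y (J *ᵥ e₁) = 1 := by
        simp only [h, hJv, hnR]
        rw [hG.isSymplectic.skew, hy1, neg_neg]
      have e2 : h (J *ᵥ e₁) y = 1 := by rw [hsymm, e1]
      have e3 : h (J *ᵥ e₁) (J *ᵥ e₁) = 0 := by simp only [h, hJJf] at hiso ⊢; exact hiso
      simp only [h, Matrix.mulVec_add, Matrix.mulVec_smul, hb.add_left, hb.add_right, hb.smul_left,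
        hb.smul_right] at e1 e2 e3 ⊢
      rw [e1, e2, e3]
      field_simp
      ring
  let e : Fin 2 → ι → F := ![e₁, e₂]
  have hfe : ∀ b d, gramForm G (e b) (e d) = (!![0, 1; -1, 0] : Matrix (Fin 2) (Fin 2) F) b d := by
    intro b d
    fin_cases b <;> fin_cases d <;>
      simp [e, hG.isSymplectic.alternating, hf12, hG.isSymplectic.skew e₂ e₁]
  have hhe : ∀ b d, gramForm G (e b) (J *ᵥ e d) = 0 := by
    intro b d
    fin_cases b <;> fin_cases d
    · simpa [e] using hiso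
    · simpa [e] using hh12
    · have := hsymm e₂ e₁; simp only [h] at this hh12; simp [e, this, hh12]
    · simpa [e] using hh22
  let v : Fin 2 × Fin 2 → ι → F := fun x => if x.1 = 0 then e x.2 else J *ᵥ e x.2
  let Ω : Matrix (Fin 2) (Fin 2) F := !![0, 1; -1, 0]
  let S : Matrix (Fin 2) (Fin 2) F := !![0, -1; 1, 0]
  let Z : Matrix (Fin 2) (Fin 2) F := !![1, 0; 0, -1]
  let one₂ : Matrix (Fin 2) (Fin 2) F := 1
  have hdet : (one₂ ⊗ₖ Ω).det ≠ 0 := by simp [Ω, one₂, Matrix.det_kronecker, Matrix.det_fin_two]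
  obtain ⟨ε, P, hgram, hP⟩ := exists_coords (G := G) (v := v) (G₀ := one₂ ⊗ₖ Ω) (by rw [hc]; simp) hdet
    (fun x y => by
      obtain ⟨x₁, x₂⟩ := x
      obtain ⟨y₁, y₂⟩ := y
      fin_cases x₁ <;> fin_cases y₁ <;>
        simp [v, Ω, one₂, hfe, hhe, hJJf, hJf])
  haveI : Fact (Nat.Prime 3) := ⟨Nat.prime_three⟩
  haveI : CharP F 3 := (CharP.charP_iff_prime_eq_zero Nat.prime_three).mpr (by exact_mod_cast h3)
  let φ : ZMod 3 →+* F := ZMod.castHom dvd_rfl F
  have hφ : Function.Surjective φ :=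
    ((Fintype.bijective_iff_injective_and_card φ).mpr ⟨φ.injective, by simp [hq]⟩).2
  have hmap : ∀ (k : Fin 4), (TwoGroup.dM k).map φ =
      (![!![1, 0; 0, 1], !![1, 0; 0, -1], !![0, 1; 1, 0], !![0, 1; -1, 0]] : Fin 4 → Matrix (Fin 2) (Fin 2) F) k := by
    intro k
    fin_cases k <;> ext i j <;> fin_cases i <;> fin_cases j <;> simp [TwoGroup.dM]
  have hΩ : (TwoGroup.qM 1).map φ = Ω := by
    ext i j; fin_cases i <;> fin_cases j <;> simp [TwoGroup.qM, Ω]
  have hJ0 : coordAlg ε P (S ⊗ₖ one₂) = J := by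
    rw [← (coordAlg ε P).apply_symm_apply J]
    congr 1
    refine Matrix.ext_of_mulVec_single fun x => ?_
    conv_rhs => rw [← toX_mk ε P (Pi.single x 1), ← toX_coord, AlgEquiv.apply_symm_apply, hP]
    obtain ⟨x₁, x₂⟩ := x
    obtain rfl | rfl := (by fin_cases x₁ <;> simp : x₁ = 0 ∨ x₁ = 1)
    · rw [show J *ᵥ v (0, x₂) = v (1, x₂) by simp [v], ← hP, toX_mk]
      rw [Matrix.mulVec_single_one, ]
      funext p
      obtain ⟨p, p'⟩ := p
      fin_cases p <;> simp [S, one₂, Matrix.one_apply, Pi.single_apply]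
    · rw [show J *ᵥ v (1, x₂) = -v (0, x₂) by simp [v, hJv], ← hP, ← Matrix.mulVec_neg,
        show -((Pi.single (0, x₂) 1 : Fin 2 × Fin 2 → F) ∘ ε) = (-(Pi.single (0, x₂) 1 : Fin 2 × Fin 2 → F)) ∘ ε from rfl,
        toX_mk]
      rw [Matrix.mulVec_single_one]
      funext p
      obtain ⟨p, p'⟩ := p
      fin_cases p <;> simp [S, one₂, Matrix.one_apply, Pi.single_apply] <;> split_ifs <;> simp
  set R := TwoGroup.group φ ε P
  refine ⟨R, TwoGroup.symplecticTypeGroup φ ε P, TwoGroup.absIrred φ ε P,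
    TwoGroup.le_isom φ ε P (by rw [hgram, hΩ]), TwoGroup.card_group φ ε P, TwoGroup.card_centre φ ε P,
    TwoGroup.minusType φ ε P, Cfsg.Agent.Lib.PrimeDim.Main.le_normalizer fun g hg r hr => ?_⟩
  obtain ⟨x, rfl⟩ := hr
  -- in coordinates
  set g₀ := (coordGL ε P).symm g
  have hg₀ : g₀ ∈ Isom (one₂ ⊗ₖ Ω) := hgram ▸ symm_isom hg.2 ε P
  set c : Matrix (Fin 2 × Fin 2) (Fin 2 × Fin 2) F → Matrix (Fin 2 × Fin 2) (Fin 2 × Fin 2) F :=
    fun N => (g₀ : Matrix _ _ F) * N * ((g₀⁻¹ : GL (Fin 2 × Fin 2) F) : Matrix _ _ F) with hcdef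
  have hcmul : ∀ N N', c (N * N') = c N * c N' := fun N N' => by
    simp [hcdef, mul_assoc]
  have hcneg : ∀ N, c (-N) = -c N := fun N => by simp [hcdef]
  have hcone : c 1 = 1 := by simp [hcdef]
  have hcS : c (S ⊗ₖ one₂) = S ⊗ₖ one₂ ∨ c (S ⊗ₖ one₂) = -(S ⊗ₖ one₂) := by
    have hk : coordAlg ε P (c (S ⊗ₖ one₂)) = (g : Matrix ι ι F) * J * ((g⁻¹ : GL ι F) : Matrix ι ι F) := by
      rw [← hJ0, hcdef, map_mul, map_mul, ← coordGL_val, ← coordGL_val, map_inv, MulEquiv.apply_symm_apply]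
    rcases hJconj g hg with h6 | h6
    · exact Or.inl ((coordAlg ε P).injective (by rw [hk, h6, hJ0]))
    · exact Or.inr ((coordAlg ε P).injective (by rw [hk, h6, map_neg, hJ0]))
  let Good : Matrix (Fin 2 × Fin 2) (Fin 2 × Fin 2) F → Prop := fun N => ∃ y, N = (TwoGroup.mat y).map φ
  have hgmul : ∀ N N', Good N → Good N' → Good (N * N') := by
    rintro _ _ ⟨y, rfl⟩ ⟨y', rfl⟩
    exact ⟨TwoGroup.mulI y y', by rw [TwoGroup.mat_mul, Matrix.map_mul]⟩
  have hgd : ∀ (s : Bool) (k : Fin 4), Good ((φ (TwoGroup.sgn s)) • ((TwoGroup.dM k).map φ ⊗ₖ one₂)) := fun s k => by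
    refine ⟨(s, k, 0), ?_⟩
    ext ⟨a, b⟩ ⟨a', b'⟩
    fin_cases b <;> fin_cases b' <;> simp [TwoGroup.mat, TwoGroup.qM, one₂]
  -- the image of `Z`
  have hG₀T : ∀ N, Nᵀ * (one₂ ⊗ₖ Ω) = one₂ ⊗ₖ Ω * N → (c N)ᵀ * (one₂ ⊗ₖ Ω) = one₂ ⊗ₖ Ω * c N := fun N hN => by
    have hi := mem_isom.mp hg₀
    have hi' := mem_isom.mp (inv_mem hg₀)
    simp only [hcdef, Matrix.transpose_mul]
    calc _ = ((g₀⁻¹ : GL (Fin 2 × Fin 2) F) : Matrix _ _ F)ᵀ * (Nᵀ * ((g₀ : Matrix _ _ F)ᵀ * (one₂ ⊗ₖ Ω) *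
          (g₀ : Matrix _ _ F))) * ((g₀⁻¹ : GL (Fin 2 × Fin 2) F) : Matrix _ _ F) := by simp [mul_assoc]
      _ = (((g₀⁻¹ : GL (Fin 2 × Fin 2) F) : Matrix _ _ F)ᵀ * (one₂ ⊗ₖ Ω) * ((g₀⁻¹ : GL (Fin 2 × Fin 2) F) : Matrix _ _ F)) *
          ((g₀ : Matrix _ _ F) * N * ((g₀⁻¹ : GL (Fin 2 × Fin 2) F) : Matrix _ _ F)) := by
          rw [hi, hN]; simp [mul_assoc]
      _ = _ := by rw [hi']
  have hSZ : (S ⊗ₖ one₂) * (Z ⊗ₖ one₂) = -((Z ⊗ₖ one₂) * (S ⊗ₖ one₂)) := by
    ext ⟨a, b⟩ ⟨a', b'⟩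
    fin_cases a <;> fin_cases b <;> fin_cases a' <;> fin_cases b' <;>
      simp [S, Z, one₂, Matrix.mul_apply, Fintype.sum_prod_type, Fin.sum_univ_two]
  have hZ2 : (Z ⊗ₖ one₂) * (Z ⊗ₖ one₂) = 1 := by
    ext ⟨a, b⟩ ⟨a', b'⟩
    fin_cases a <;> fin_cases b <;> fin_cases a' <;> fin_cases b' <;>
      simp [Z, one₂, Matrix.mul_apply, Fintype.sum_prod_type, Fin.sum_univ_two]
  set N₁ := c (Z ⊗ₖ one₂) with hN₁
  have hN₁S : N₁ * (S ⊗ₖ one₂) = -((S ⊗ₖ one₂) * N₁) := by
    have h := congrArg c hSZ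
    rw [hcneg, hcmul, hcmul, ← hN₁] at h
    rcases hcS with e | e <;> rw [e] at h
    · rw [h, neg_neg]
    · rw [Matrix.neg_mul, Matrix.mul_neg, neg_neg] at h
      exact h.symm
  have hN₁A : N₁ᵀ * (one₂ ⊗ₖ Ω) = one₂ ⊗ₖ Ω * N₁ := hG₀T _ (by
    ext ⟨a, b⟩ ⟨a', b'⟩
    fin_cases a <;> fin_cases b <;> fin_cases a' <;> fin_cases b' <;>
      simp [Z, Ω, one₂, Matrix.mul_apply, Fintype.sum_prod_type, Fin.sum_univ_two])
  have hform := anti_self h20 hN₁S hN₁A
  set a := N₁ (0, 0) (0, 0)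
  set b := N₁ (0, 0) (1, 0)
  have hab : a * a + b * b = 1 := by
    have h := congrArg c hZ2
    rw [hcmul, ← hN₁, hcone, hform] at h
    have h' := congrFun (congrFun h (0, 0)) (0, 0)
    simpa [Matrix.mul_apply, Fintype.sum_prod_type, Fin.sum_univ_two] using h'
  obtain ⟨a₀, ha₀⟩ := hφ a
  obtain ⟨b₀, hb₀⟩ := hφ b
  obtain ⟨s, k, hk⟩ := TwoGroup.d_classify a₀ b₀ (φ.injective (by simp only [map_add, map_mul, map_one, ha₀, hb₀, hab]))
  have hN₁g : N₁ = φ (TwoGroup.sgn s) • ((TwoGroup.dM k).map φ ⊗ₖ one₂) := by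
    rw [hform, ← Matrix.smul_kronecker]
    congr 1
    have h := congrArg (fun M : Matrix (Fin 2) (Fin 2) (ZMod 3) => M.map φ) hk
    rw [show φ (TwoGroup.sgn s) • (TwoGroup.dM k).map φ = (TwoGroup.sgn s • TwoGroup.dM k).map φ by ext i j; simp, ← h]
    ext i j
    fin_cases i <;> fin_cases j <;> simp [TwoGroup.dM, ha₀, hb₀]
  have hgS : Good (c (S ⊗ₖ one₂)) := by
    have hS3 : S = -(TwoGroup.dM 3).map φ := by rw [hmap]; ext i j; fin_cases i <;> fin_cases j <;> simp [S]
    have hnk : ∀ A : Matrix (Fin 2) (Fin 2) F, (-A) ⊗ₖ one₂ = -(A ⊗ₖ one₂) := fun A => by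
      ext p r; simp [Matrix.kroneckerMap_apply]
    rcases hcS with e | e <;> rw [e, hS3, hnk]
    · simpa [TwoGroup.sgn, neg_one_smul] using hgd true 3
    · simpa [TwoGroup.sgn] using hgd false 3
  have hgd' : ∀ k : Fin 4, Good (c ((TwoGroup.dM k).map φ ⊗ₖ one₂)) := by
    intro k
    have hgZ : Good N₁ := hN₁g ▸ hgd s _
    have hgneg : ∀ N, Good N → Good (-N) := fun N hN => by
      have h := hgmul _ _ (hgd true 0) hN
      rw [hmap] at h
      simpa [TwoGroup.sgn, one₂, ← Matrix.one_fin_two] using h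
    fin_cases k
    · rw [hmap]
      simp only [Fin.zero_eta, Matrix.cons_val_zero, ← Matrix.one_fin_two, one₂, Matrix.one_kronecker_one, hcone]
      exact ⟨TwoGroup.oneI, by rw [TwoGroup.mat_one, Matrix.map_one φ (map_zero φ) (map_one φ)]⟩
    · rw [hmap]; exact hgZ
    · have e : (TwoGroup.dM 2).map φ ⊗ₖ one₂ = -((Z ⊗ₖ one₂) * (S ⊗ₖ one₂)) := by
        rw [hmap]
        ext ⟨a, b⟩ ⟨a', b'⟩
        fin_cases a <;> fin_cases b <;> fin_cases a' <;> fin_cases b' <;>
          simp [S, Z, one₂, Matrix.mul_apply, Fintype.sum_prod_type, Fin.sum_univ_two]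
      show Good (c ((TwoGroup.dM 2).map φ ⊗ₖ one₂))
      rw [e, hcneg, hcmul]
      exact hgneg _ (hgmul _ _ hgZ hgS)
    · have e : (TwoGroup.dM 3).map φ ⊗ₖ one₂ = -(S ⊗ₖ one₂) := by
        rw [hmap]
        ext ⟨a, b⟩ ⟨a', b'⟩
        fin_cases a <;> fin_cases b <;> fin_cases a' <;> fin_cases b' <;> simp [S, one₂]
      show Good (c ((TwoGroup.dM 3).map φ ⊗ₖ one₂))
      rw [e, hcneg]
      exact hgneg _ hgS
  have hgq : ∀ k : Fin 4, Good (c (one₂ ⊗ₖ (TwoGroup.qM k).map φ)) := by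
    intro k
    set Q := (TwoGroup.qM k).map φ
    set N₂ := c (one₂ ⊗ₖ Q) with hN₂
    have hcomm : ∀ A : Matrix (Fin 2) (Fin 2) F, N₂ * c (A ⊗ₖ one₂) = c (A ⊗ₖ one₂) * N₂ := fun A => by
      rw [hN₂, ← hcmul, ← hcmul, ← Matrix.mul_kronecker_mul, ← Matrix.mul_kronecker_mul]
      simp [one₂]
    have h2S : N₂ * (S ⊗ₖ one₂) = (S ⊗ₖ one₂) * N₂ := by
      have h := hcomm S
      rcases hcS with e | e <;> rw [e] at h
      · exact h
      · simpa using h
    have h2N : N₂ * N₁ = N₁ * N₂ := hcomm Z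
    have h2Z : N₂ * (Z ⊗ₖ one₂) = (Z ⊗ₖ one₂) * N₂ := by
      rcases zmod_axes a₀ b₀ (φ.injective (by simp only [map_add, map_mul, map_one, ha₀, hb₀, hab])) with h0 | h0
      · -- the image is a multiple of the exchange
        have hb1 : b * b = 1 := by rw [← ha₀, h0, map_zero, mul_zero, zero_add] at hab; exact hab
        have e : Z ⊗ₖ one₂ = b • (N₁ * (S ⊗ₖ one₂)) := by
          rw [hform, ← ha₀, h0, map_zero]
          ext ⟨p, p'⟩ ⟨r, r'⟩
          fin_cases p <;> fin_cases p' <;> fin_cases r <;> fin_cases r' <;>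
            simp [S, Z, one₂, Matrix.mul_apply, Fintype.sum_prod_type, Fin.sum_univ_two] <;> linear_combination -hb1
        rw [e, Matrix.mul_smul, Matrix.smul_mul, ← mul_assoc, h2N, mul_assoc N₁, h2S, mul_assoc N₁]
      · have ha1 : a * a = 1 := by rw [← hb₀, h0, map_zero, mul_zero, add_zero] at hab; exact hab
        have e : Z ⊗ₖ one₂ = a • N₁ := by
          rw [hform, ← hb₀, h0, map_zero]
          ext ⟨p, p'⟩ ⟨r, r'⟩
          fin_cases p <;> fin_cases p' <;> fin_cases r <;> fin_cases r' <;>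
            simp [Z, one₂] <;> linear_combination -ha1
        rw [e, Matrix.mul_smul, Matrix.smul_mul, h2N]
    have hB := comm_first h20 h2S h2Z
    set B : Matrix (Fin 2) (Fin 2) F := Matrix.of fun b d => N₂ (0, b) (0, d) with hBdef
    have hQf : ∀ y, ((TwoGroup.mat y).map φ)ᵀ * (one₂ ⊗ₖ Ω) * (TwoGroup.mat y).map φ = one₂ ⊗ₖ Ω := fun y => by
      have := TwoGroup.le_isom φ ε P (G := G) (by rw [hgram, hΩ]) (TwoGroup.mem_group_of φ ε P y)
      have h := mem_isom.mp (hgram ▸ symm_isom this ε P)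
      rwa [MulEquiv.symm_apply_apply] at h
    have hQy : one₂ ⊗ₖ Q = (TwoGroup.mat (false, 0, k)).map φ := by
      ext ⟨a, b⟩ ⟨a', b'⟩
      fin_cases a <;> fin_cases a' <;> simp [TwoGroup.mat, TwoGroup.sgn, TwoGroup.dM, Q, one₂]
    have hN₂i : N₂ᵀ * (one₂ ⊗ₖ Ω) * N₂ = one₂ ⊗ₖ Ω := by
      have hi := mem_isom.mp hg₀
      have hi' := mem_isom.mp (inv_mem hg₀)
      simp only [hN₂, hcdef, Matrix.transpose_mul]
      calc _ = ((g₀⁻¹ : GL (Fin 2 × Fin 2) F) : Matrix _ _ F)ᵀ * ((one₂ ⊗ₖ Q)ᵀ * ((g₀ : Matrix _ _ F)ᵀ * (one₂ ⊗ₖ Ω) *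
            (g₀ : Matrix _ _ F)) * (one₂ ⊗ₖ Q)) * ((g₀⁻¹ : GL (Fin 2 × Fin 2) F) : Matrix _ _ F) := by simp [mul_assoc]
        _ = _ := by rw [hi, hQy, hQf, hi']
    have hdetB : B 0 0 * B 1 1 - B 0 1 * B 1 0 = 1 := by
      rw [hB] at hN₂i
      have h' := congrFun (congrFun hN₂i (0, 0)) (0, 1)
      simp [Matrix.mul_apply, Fintype.sum_prod_type, Fin.sum_univ_two, one₂, Ω] at h'
      linear_combination h'
    have hB4 : B * B * (B * B) = 1 := by
      have hQ4 : (one₂ ⊗ₖ Q) * (one₂ ⊗ₖ Q) * ((one₂ ⊗ₖ Q) * (one₂ ⊗ₖ Q)) = 1 := by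
        rw [hQy, ← Matrix.map_mul, ← Matrix.map_mul, ← TwoGroup.mat_mul, ← TwoGroup.mat_mul]
        have key : ∀ k : Fin 4, TwoGroup.mulI (TwoGroup.mulI (false, 0, k) (false, 0, k))
            (TwoGroup.mulI (false, 0, k) (false, 0, k)) = TwoGroup.oneI := by decide +kernel
        rw [key, TwoGroup.mat_one, Matrix.map_one φ (map_zero φ) (map_one φ)]
      have h := congrArg c hQ4
      rw [hcmul, hcmul, hcone, ← hN₂, hB, ← Matrix.mul_kronecker_mul, ← Matrix.mul_kronecker_mul, one_mul, one_mul] at h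
      ext p r
      have h' := congrFun (congrFun h (0, p)) (0, r)
      simpa [Matrix.one_apply, one₂] using h'
    obtain ⟨p00, h00⟩ := hφ (B 0 0)
    obtain ⟨p01, h01⟩ := hφ (B 0 1)
    obtain ⟨p10, h10⟩ := hφ (B 1 0)
    obtain ⟨p11, h11⟩ := hφ (B 1 1)
    have hBmap : B = (!![p00, p01; p10, p11]).map φ := by
      ext i j; fin_cases i <;> fin_cases j <;> simp [h00, h01, h10, h11]
    obtain ⟨s', k', hk'⟩ := TwoGroup.q_classify p00 p01 p10 p11
      (φ.injective (by simp only [map_sub, map_mul, map_one, h00, h01, h10, h11, hdetB]))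
      (Matrix.map_injective φ.injective (by
        show ((!![p00, p01; p10, p11]) * _ * (_ * _)).map φ = (1 : Matrix (Fin 2) (Fin 2) (ZMod 3)).map φ
        rw [Matrix.map_one φ (map_zero φ) (map_one φ), Matrix.map_mul, Matrix.map_mul, ← hBmap, hB4]))
    refine ⟨(s', 0, k'), ?_⟩
    rw [hB, hBmap, hk']
    ext ⟨p, p'⟩ ⟨r, r'⟩
    fin_cases p <;> fin_cases r <;> simp [TwoGroup.mat, TwoGroup.dM, one₂]
  -- a general element
  have hx : (TwoGroup.mat x).map φ = φ (TwoGroup.sgn x.1) • (((TwoGroup.dM x.2.1).map φ ⊗ₖ one₂) *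
      (one₂ ⊗ₖ (TwoGroup.qM x.2.2).map φ)) := by
    rw [← Matrix.mul_kronecker_mul]
    ext ⟨p, p'⟩ ⟨r, r'⟩
    simp [TwoGroup.mat, one₂]
  obtain ⟨y, hy⟩ : Good (c ((TwoGroup.mat x).map φ)) := by
    rw [hx]
    have hcs : ∀ (t : F) N, c (t • N) = t • c N := fun t N => by simp [hcdef, Matrix.mul_smul, Matrix.smul_mul]
    rw [hcs, hcmul]
    have h1 := hgmul _ _ (hgmul _ _ (hgd x.1 0) (hgd' x.2.1)) (hgq x.2.2)
    rw [hmap] at h1
    simpa [one₂, ← Matrix.one_fin_two, mul_assoc] using h1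
  refine ⟨y, ?_⟩
  show coordGL ε P (TwoGroup.elt φ y) = g * coordGL ε P (TwoGroup.elt φ x) * g⁻¹
  rw [show TwoGroup.elt φ y = g₀ * TwoGroup.elt φ x * g₀⁻¹ from Units.ext hy.symm, map_mul, map_mul, map_inv,
    MulEquiv.apply_symm_apply]

end unitary

/-- No two-group of exponent four of similarities is normalised by every isometry. -/
theorem not_le_subgroupNormalizer (hG : Alt G) (hodd : Odd (Fintype.card F)) (h4 : 4 ≤ Fintype.card ι)
    {R : Subgroup (GL ι F)} (hsim : R ≤ similarityGroup (gramForm G)) (hexp : ∀ r ∈ R, r ^ 4 = 1)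
    (hns : ¬ R ≤ scalars ι F) : ¬ Isom G ≤ subgroupNormalizer R := by
  classical
  intro hle
  haveI : Nonempty ι := Fintype.card_pos_iff.mp (by omega)
  have hb := gramForm_bilinear G
  have h20 : (2 : F) ≠ 0 := two_ne_zero' hodd
  have h40 : (4 : F) ≠ 0 := by
    rw [show (4 : F) = 2 * 2 by norm_num]; exact mul_ne_zero h20 h20
  have hnL : ∀ u w, gramForm G (-u) w = -gramForm G u w := fun u w => by
    rw [← neg_one_smul F u, hb.smul_left, neg_one_mul]
  -- the commutator with a transvection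
  have hcore : ∀ x ∈ R, ∀ a : ι → F, (∀ c : F, (x : Matrix ι ι F) *ᵥ a ≠ c • a) →
      ∃ (k : F) (y : GL ι F), y ∈ R ∧ y ∈ Isom G ∧ k ≠ 0 ∧ ∀ w, (y : Matrix ι ι F) *ᵥ w =
        w + gramForm G w a • a + (k * gramForm G w ((x : Matrix ι ι F) *ᵥ a)) •
          ((x : Matrix ι ι F) *ᵥ a + gramForm G ((x : Matrix ι ι F) *ᵥ a) a • a) := by
    intro x hx a hax
    obtain ⟨μ, hμ⟩ := hsim hx
    set t := tv hG a 1 with ht
    have htR : t * x * t⁻¹ * x⁻¹ ∈ R :=
      mul_mem ((Subgroup.mem_normalizer_iff.mp (hle (tv_mem hG a 1)) x).mp hx) (inv_mem hx)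
    refine ⟨-(μ : F)⁻¹, t * x * t⁻¹ * x⁻¹, htR, ?_, neg_ne_zero.mpr (inv_ne_zero μ.ne_zero), fun w => ?_⟩
    · have hxs : ∀ u v, gramForm G (((x⁻¹ : GL ι F) : Matrix ι ι F) *ᵥ u) (((x⁻¹ : GL ι F) : Matrix ι ι F) *ᵥ v) =
          (μ : F)⁻¹ * gramForm G u v := fun u v => by
        rw [← inv_mul_cancel_left₀ μ.ne_zero
          (gramForm G (((x⁻¹ : GL ι F) : Matrix ι ι F) *ᵥ u) (((x⁻¹ : GL ι F) : Matrix ι ι F) *ᵥ v)), ← hμ,
          mulVec_inv_cancel, mulVec_inv_cancel]
      rw [mem_isom]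
      refine gramForm_ext fun u v => ?_
      rw [← gramForm_apply]
      simp only [Units.val_mul, ← Matrix.mulVec_mulVec]
      rw [gramForm_apply_isom (tv_mem hG a 1), hμ, gramForm_apply_isom (inv_mem (tv_mem hG a 1)), hxs,
        ← mul_assoc, mul_inv_cancel₀ μ.ne_zero, one_mul]
    · have htinv : ∀ v, ((t⁻¹ : GL ι F) : Matrix ι ι F) *ᵥ v = v + (-1 * gramForm G v a) • a := fun v =>
        tvMat_mulVec a (-1) v
      have hxa : gramForm G (((x⁻¹ : GL ι F) : Matrix ι ι F) *ᵥ w) a =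
          (μ : F)⁻¹ * gramForm G w ((x : Matrix ι ι F) *ᵥ a) := by
        conv_rhs => rw [← mulVec_inv_cancel x w, hμ]
        rw [← mul_assoc, inv_mul_cancel₀ μ.ne_zero, one_mul]
      simp only [Units.val_mul, ← Matrix.mulVec_mulVec]
      rw [htinv]
      simp only [Matrix.mulVec_add, Matrix.mulVec_smul,
        mulVec_inv_cancel, ht, tv_mulVec, hxa, hb.add_left, hb.smul_left]
      module
  -- the orthogonal case is impossible
  have horth : ∀ x ∈ R, ∀ a : ι → F, (∀ c : F, (x : Matrix ι ι F) *ᵥ a ≠ c • a) →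
      gramForm G ((x : Matrix ι ι F) *ᵥ a) a ≠ 0 := by
    intro x hx a hax hs0
    obtain ⟨k, y, hyR, -, hk0, hy⟩ := hcore x hx a hax
    set b := (x : Matrix ι ι F) *ᵥ a with hbdef
    simp only [hs0, zero_smul, add_zero] at hy
    let δ : (ι → F) → (ι → F) := fun w => gramForm G w a • a + (k * gramForm G w b) • b
    have hfix : ∀ w, (y : Matrix ι ι F) *ᵥ δ w = δ w := fun w => by
      have hab : gramForm G a b = 0 := by rw [hG.isSymplectic.skew, hs0, neg_zero]
      rw [hy]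
      simp only [δ, hb.add_left, hb.smul_left, hG.isSymplectic.alternating, hs0, hab]
      module
    have hy' : ∀ w, (y : Matrix ι ι F) *ᵥ w = w + δ w := fun w => by rw [hy, add_assoc]
    obtain ⟨w, hw⟩ := (hG.isSymplectic.nondegenerate a (fun h => hax 0 (by rw [hbdef, h, Matrix.mulVec_zero, smul_zero]))).1
    have hy4 : (4 : F) • δ w = 0 := by
      have h4 := congrArg (fun g : GL ι F => (g : Matrix ι ι F) *ᵥ w) (hexp y hyR)
      simp only [pow_succ, pow_zero, one_mul, Units.val_mul, Units.val_one, Matrix.one_mulVec,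
        ← Matrix.mulVec_mulVec, hy' w, Matrix.mulVec_add, hfix] at h4
      have h4' : w + (4 : F) • δ w = w := by linear_combination (norm := module) h4
      simpa using h4'
    have hδ : δ w = 0 := (smul_eq_zero.mp hy4).resolve_left h40
    simp only [δ] at hδ
    by_cases hkb : k * gramForm G w b = 0
    · rw [hkb, zero_smul, add_zero] at hδ
      rcases smul_eq_zero.mp hδ with h | h
      · exact hw h
      · exact hax 0 (by rw [hbdef, h, Matrix.mulVec_zero, smul_zero])
    · refine hax (-(k * gramForm G w b)⁻¹ * gramForm G w a) ?_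
      have h := congrArg (fun v => (k * gramForm G w b)⁻¹ • v) hδ
      simp only [smul_add, smul_smul, inv_mul_cancel₀ hkb, one_smul, smul_zero] at h
      linear_combination (norm := module) h
  -- an element moving a vector off its line
  obtain ⟨x, hx, hxns⟩ := SetLike.not_le_iff_exists.mp hns
  obtain ⟨a, hax⟩ : ∃ a : ι → F, ∀ c : F, (x : Matrix ι ι F) *ᵥ a ≠ c • a := by
    by_contra! h
    obtain ⟨c, hc⟩ := scalar_of_eigen h
    exact hxns ((mem_scalars_iff x).mpr ⟨Units.mk0 c fun h0 => x.ne_zero (by rw [hc, h0, zero_smul]), hc⟩)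
  set b := (x : Matrix ι ι F) *ᵥ a with hbdef
  set s := gramForm G b a with hsdef
  have hs0 : s ≠ 0 := horth x hx a hax
  have hab : gramForm G a b = -s := by rw [hG.isSymplectic.skew]
  obtain ⟨k, y, hyR, hyI, hk0, hy⟩ := hcore x hx a hax
  have hyb : (y : Matrix ι ι F) *ᵥ b = b + s • a := by
    rw [hy, hG.isSymplectic.alternating, mul_zero, zero_smul, add_zero]
  have hya : (y : Matrix ι ι F) *ᵥ a = (1 + -(k * s) * s) • a + (-(k * s)) • b := by
    rw [hy, hG.isSymplectic.alternating, zero_smul, add_zero, hab]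
    module
  -- powers of `y` on the plane
  set τ := 2 + -(k * s) * s with hτ
  have hy2 : (y : Matrix ι ι F) *ᵥ ((y : Matrix ι ι F) *ᵥ b) = (τ - 1) • b + (s * τ) • a := by
    rw [hyb, Matrix.mulVec_add, Matrix.mulVec_smul, hyb, hya, hτ]
    module
  have hy2a : (y : Matrix ι ι F) *ᵥ ((y : Matrix ι ι F) *ᵥ a) =
      (-(k * s) * τ) • b + ((τ - 1) * (τ - 1) + (τ - 2)) • a := by
    rw [hya, Matrix.mulVec_add, Matrix.mulVec_smul, Matrix.mulVec_smul, hyb, hya, hτ]
    module
  have h4b := congrArg (fun g : GL ι F => (g : Matrix ι ι F) *ᵥ b) (hexp y hyR)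
  simp only [pow_succ, pow_zero, one_mul, Units.val_mul, Units.val_one, Matrix.one_mulVec,
    ← Matrix.mulVec_mulVec] at h4b
  rw [hy2, Matrix.mulVec_add, Matrix.mulVec_smul, Matrix.mulVec_smul, Matrix.mulVec_add, Matrix.mulVec_smul,
    Matrix.mulVec_smul, hy2, hy2a] at h4b
  have hcoef : ∀ p r : F, p • b + r • a = 0 → p = 0 ∧ r = 0 := fun p r h => by
    have h1 := congrArg (fun v => gramForm G v a) h
    have h2 := congrArg (fun v => gramForm G v b) h
    simp only [hb.add_left, hb.smul_left, hG.isSymplectic.alternating, hab, mul_zero, add_zero, zero_add] at h1 h2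
    rw [show gramForm G (0 : ι → F) a = 0 by simp [gramForm], ← hsdef] at h1
    rw [show gramForm G (0 : ι → F) b = 0 by simp [gramForm]] at h2
    exact ⟨(mul_eq_zero.mp h1).resolve_right hs0, (mul_eq_zero.mp h2).resolve_right (neg_ne_zero.mpr hs0)⟩
  obtain ⟨hp, hr⟩ := hcoef ((τ - 1) * (τ - 1) + (s * τ) * (-(k * s) * τ) - 1)
    ((τ - 1) * (s * τ) + (s * τ) * ((τ - 1) * (τ - 1) + (τ - 2))) (by
      have := sub_eq_zero.mpr h4b
      rw [← this]; module)
  have hτ0 : τ = 0 := by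
    have hks : -(k * s) * s = τ - 2 := by rw [hτ]; ring
    have h1 : s * (τ * (τ * τ - 2)) = 0 := by linear_combination hr
    rcases mul_eq_zero.mp ((mul_eq_zero.mp h1).resolve_left hs0) with h | h
    · exact h
    · have h2 : τ * (τ * τ - τ - 2) = 0 := by linear_combination hp - (τ * τ) * hks
      rcases mul_eq_zero.mp h2 with h' | h'
      · exact h'
      · linear_combination h - h'
  set z := y * y with hz
  have hzb : (z : Matrix ι ι F) *ᵥ b = -b := by
    rw [hz, Units.val_mul, ← Matrix.mulVec_mulVec, hy2, hτ0]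
    module
  -- a vector orthogonal to the plane
  let L : (ι → F) →ₗ[F] F × F :=
    { toFun := fun w => (gramForm G w a, gramForm G w b)
      map_add' := fun u w => by simp [hb.add_left]
      map_smul' := fun c w => by simp [hb.smul_left] }
  obtain ⟨u, hu, hu0⟩ := Submodule.exists_mem_ne_zero_of_ne_bot (p := LinearMap.ker L) (fun hbot => by
    have h1 := LinearMap.finrank_range_add_finrank_ker L
    have h2 := Submodule.finrank_le (LinearMap.range L)
    rw [hbot, finrank_bot, Module.finrank_pi] at h1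
    rw [Module.finrank_prod, Module.finrank_self] at h2
    omega)
  rw [LinearMap.mem_ker] at hu
  have hua : gramForm G u a = 0 := (Prod.ext_iff.mp hu).1
  have hub : gramForm G u b = 0 := (Prod.ext_iff.mp hu).2
  have hyu : (y : Matrix ι ι F) *ᵥ u = u := by rw [hy, hua, hub, mul_zero, zero_smul, zero_smul, add_zero, add_zero]
  have hzu : (z : Matrix ι ι F) *ᵥ u = u := by rw [hz, Units.val_mul, ← Matrix.mulVec_mulVec, hyu, hyu]
  have hzub : (z : Matrix ι ι F) *ᵥ (u + b) = u + -b := by rw [Matrix.mulVec_add, hzu, hzb]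
  have hbu : gramForm G b u = 0 := by rw [hG.isSymplectic.skew, hub, neg_zero]
  refine horth z (hz ▸ mul_mem hyR hyR) (u + b) (fun c hc => ?_) ?_
  · rw [hzub] at hc
    have h1 := congrArg (fun v => gramForm G v a) hc
    simp only [hb.add_left, hb.smul_left, hnL, hua, zero_add] at h1
    rw [← hsdef] at h1
    have hc1 : c = -1 := mul_right_cancel₀ hs0 (by linear_combination -h1)
    apply hu0
    have h2 : (2 : F) • u = 0 := by
      rw [hc1] at hc
      linear_combination (norm := module) hc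
    exact (smul_eq_zero.mp h2).resolve_left h20
  · rw [hzub]
    simp only [hb.add_left, hb.add_right, hnL, hG.isSymplectic.alternating, hub, hbu]
    ring

end Cfsg.Agent.Lib.AschbacherSp
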