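import Cfsg.Agent.Lib.AschbacherSp.Forms

/-!
The possible outcomes for a group of isometries of an alternating matrix, orthogonal complements, and the
reducible case.
-/

set_option autoImplicit false
set_option linter.style.haveILetI false
set_option linter.unusedSectionVars false

namespace Cfsg.Agent.Lib.AschbacherSp

open Cfsg.Geo Cfsg.Agent.Lib.PrimeDim.Basic Cfsg.Agent.Lib.Aschbacher
open scoped Matrix MatrixGroups Kronecker

variable {ι : Type} [Fintype ι] [DecidableEq ι] {F : Type*} [Field F] [Fintype F]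

/-- The geometric classes, without the residual one. -/
def InGeometric (G : Matrix ι ι F) (H : Subgroup (GL ι F)) : Prop :=
  (∃ W : Submodule F (ι → F), W ≠ ⊥ ∧ IsTotallySingularFor (gramForm G) W ∧ H ≤ subspaceStabilizer W) ∨
  (∃ W : Submodule F (ι → F), W ≠ ⊥ ∧ IsNondegenerateOn (gramForm G) W ∧
    2 * Module.finrank F W < Fintype.card ι ∧ H ≤ subspaceStabilizer W) ∨
  (∃ (t k : ℕ) (D : Fin t → Submodule F (ι → F)), IsNondegenerateMDecomposition (gramForm G) k D ∧
    H ≤ decompositionStabilizer D) ∨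
  (∃ (k : ℕ) (D : Fin 2 → Submodule F (ι → F)), Odd (Fintype.card F) ∧ 2 * k = Fintype.card ι ∧
    IsMDecomposition k D ∧ (∀ i, IsTotallySingularFor (gramForm G) (D i)) ∧ H ≤ decompositionStabilizer D) ∨
  (∃ (r : ℕ) (K : Subalgebra F (Matrix ι ι F)), r.Prime ∧ IsFieldSubalgebra r K ∧
    IsSelfAdjointFor (gramForm G) K ∧ (∀ k ∈ K, ∀ v, gramForm G (k *ᵥ v) v = 0) ∧ H ≤ subalgebraNormalizer K) ∨
  (∃ K : Subalgebra F (Matrix ι ι F), Odd (Fintype.card F) ∧ IsFieldSubalgebra 2 K ∧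
    IsAdjointClosedFor (gramForm G) K ∧ ¬ IsSelfAdjointFor (gramForm G) K ∧ H ≤ subalgebraNormalizer K) ∨
  (∃ (n₁ n₂ : ℕ) (e : ι ≃ Fin n₁ × Fin n₂) (P : GL ι F) (f₁ : (Fin n₁ → F) → (Fin n₁ → F) → F)
      (f₂ : (Fin n₂ → F) → (Fin n₂ → F) → F), Odd (Fintype.card F) ∧ 3 ≤ n₂ ∧ IsSymplecticForm f₁ ∧
      IsSymmetricForm f₂ ∧ IsTensorFormStructure id (gramForm G) f₁ f₂ e P ∧ H ≤ tensorProductSubgroup n₁ n₂ e P) ∨
  (∃ (F₀ : Subfield F) (r : ℕ) (P : GL ι F) (ζ : F), r.Prime ∧ Fintype.card F = Nat.card F₀ ^ r ∧ ζ ≠ 0 ∧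
      IsFormRationalStructure (gramForm G) F₀ ζ P ∧ H ≤ subfieldSubgroup F₀ P) ∨
  (∃ (R : Subgroup (GL ι F)) (p k : ℕ), IsSymplecticTypeGroup 2 R ∧ ActsAbsolutelyIrreducibly (matrixSet R) ∧
      R ≤ similarityGroup (gramForm G) ∧ p.Prime ∧ Odd p ∧ Fintype.card F = p ∧ Nat.card R = 2 ^ (1 + 2 * k) ∧
      Nat.card (Subgroup.center R) = 2 ∧ IsOfMinusType k R ∧ Fintype.card ι = 2 ^ k ∧ H ≤ subgroupNormalizer R) ∨
  (∃ (k t : ℕ) (e : ι ≃ (Fin t → Fin k)) (P : GL ι F) (f₁ : (Fin k → F) → (Fin k → F) → F),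
      Odd (Fintype.card F) ∧ Odd t ∧ 3 ≤ t ∧ ¬ (Fintype.card F = 3 ∧ k = 2) ∧ IsSymplecticForm f₁ ∧
      IsTensorPowerFormStructure id (gramForm G) f₁ e P ∧ H ≤ tensorWreathSubgroup k t e P) ∨
  (∃ Q : (ι → F) → F, ¬ Odd (Fintype.card F) ∧ IsNondegenerateQuadraticForm Q ∧
      (∀ u v, QuadraticMap.polar Q u v = gramForm G u v) ∧ H ≤ quadSimilarityGroup Q)

namespace InGeometric

variable {G : Matrix ι ι F} {H : Subgroup (GL ι F)}

theorem singular {W : Submodule F (ι → F)} (h1 : W ≠ ⊥) (h2 : IsTotallySingularFor (gramForm G) W)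
    (h : H ≤ subspaceStabilizer W) : InGeometric G H := Or.inl ⟨W, h1, h2, h⟩

theorem nonsingular {W : Submodule F (ι → F)} (h1 : W ≠ ⊥) (h2 : IsNondegenerateOn (gramForm G) W)
    (h3 : 2 * Module.finrank F W < Fintype.card ι) (h : H ≤ subspaceStabilizer W) : InGeometric G H :=
  Or.inr (Or.inl ⟨W, h1, h2, h3, h⟩)

theorem decomposition {t k : ℕ} {D : Fin t → Submodule F (ι → F)}
    (hD : IsNondegenerateMDecomposition (gramForm G) k D) (h : H ≤ decompositionStabilizer D) : InGeometric G H :=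
  Or.inr (Or.inr (Or.inl ⟨t, k, D, hD, h⟩))

theorem singularPair {k : ℕ} {D : Fin 2 → Submodule F (ι → F)} (ho : Odd (Fintype.card F))
    (hk : 2 * k = Fintype.card ι) (hD : IsMDecomposition k D)
    (hs : ∀ i, IsTotallySingularFor (gramForm G) (D i)) (h : H ≤ decompositionStabilizer D) : InGeometric G H :=
  Or.inr (Or.inr (Or.inr (Or.inl ⟨k, D, ho, hk, hD, hs, h⟩)))

theorem field {r : ℕ} {K : Subalgebra F (Matrix ι ι F)} (hr : r.Prime) (hK : IsFieldSubalgebra r K)
    (hs : IsSelfAdjointFor (gramForm G) K) (h0 : ∀ k ∈ K, ∀ v, gramForm G (k *ᵥ v) v = 0)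
    (h : H ≤ subalgebraNormalizer K) : InGeometric G H :=
  Or.inr (Or.inr (Or.inr (Or.inr (Or.inl ⟨r, K, hr, hK, hs, h0, h⟩))))

theorem fieldUnitary {K : Subalgebra F (Matrix ι ι F)} (ho : Odd (Fintype.card F)) (hK : IsFieldSubalgebra 2 K)
    (hc : IsAdjointClosedFor (gramForm G) K) (hs : ¬ IsSelfAdjointFor (gramForm G) K)
    (h : H ≤ subalgebraNormalizer K) : InGeometric G H :=
  Or.inr (Or.inr (Or.inr (Or.inr (Or.inr (Or.inl ⟨K, ho, hK, hc, hs, h⟩)))))

theorem tensor {n₁ n₂ : ℕ} {e : ι ≃ Fin n₁ × Fin n₂} {P : GL ι F} {f₁ : (Fin n₁ → F) → (Fin n₁ → F) → F}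
    {f₂ : (Fin n₂ → F) → (Fin n₂ → F) → F} (ho : Odd (Fintype.card F)) (h3 : 3 ≤ n₂) (h1 : IsSymplecticForm f₁)
    (h2 : IsSymmetricForm f₂) (hf : IsTensorFormStructure id (gramForm G) f₁ f₂ e P)
    (h : H ≤ tensorProductSubgroup n₁ n₂ e P) : InGeometric G H :=
  Or.inr (Or.inr (Or.inr (Or.inr (Or.inr (Or.inr (Or.inl ⟨n₁, n₂, e, P, f₁, f₂, ho, h3, h1, h2, hf, h⟩))))))

theorem subfield {F₀ : Subfield F} {r : ℕ} {P : GL ι F} {ζ : F} (hr : r.Prime)
    (hq : Fintype.card F = Nat.card F₀ ^ r) (hζ : ζ ≠ 0) (hP : IsFormRationalStructure (gramForm G) F₀ ζ P)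
    (h : H ≤ subfieldSubgroup F₀ P) : InGeometric G H :=
  Or.inr (Or.inr (Or.inr (Or.inr (Or.inr (Or.inr (Or.inr (Or.inl ⟨F₀, r, P, ζ, hr, hq, hζ, hP, h⟩)))))))

theorem symplecticType {R : Subgroup (GL ι F)} {p k : ℕ} (h1 : IsSymplecticTypeGroup 2 R)
    (h2 : ActsAbsolutelyIrreducibly (matrixSet R)) (h3 : R ≤ similarityGroup (gramForm G)) (hp : p.Prime)
    (ho : Odd p) (hq : Fintype.card F = p) (hc : Nat.card R = 2 ^ (1 + 2 * k))
    (hz : Nat.card (Subgroup.center R) = 2) (hm : IsOfMinusType k R) (hn : Fintype.card ι = 2 ^ k) (h : H ≤ subgroupNormalizer R) :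
    InGeometric G H :=
  Or.inr (Or.inr (Or.inr (Or.inr (Or.inr (Or.inr (Or.inr (Or.inr (Or.inl
    ⟨R, p, k, h1, h2, h3, hp, ho, hq, hc, hz, hm, hn, h⟩))))))))

theorem wreath {k t : ℕ} {e : ι ≃ (Fin t → Fin k)} {P : GL ι F} {f₁ : (Fin k → F) → (Fin k → F) → F}
    (ho : Odd (Fintype.card F)) (ht : Odd t) (h3 : 3 ≤ t) (hk : ¬ (Fintype.card F = 3 ∧ k = 2))
    (h1 : IsSymplecticForm f₁) (hf : IsTensorPowerFormStructure id (gramForm G) f₁ e P)
    (h : H ≤ tensorWreathSubgroup k t e P) : InGeometric G H :=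
  Or.inr (Or.inr (Or.inr (Or.inr (Or.inr (Or.inr (Or.inr (Or.inr (Or.inr (Or.inl
    ⟨k, t, e, P, f₁, ho, ht, h3, hk, h1, hf, h⟩)))))))))

theorem quadratic {Q : (ι → F) → F} (he : ¬ Odd (Fintype.card F)) (hQ : IsNondegenerateQuadraticForm Q)
    (hp : ∀ u v, QuadraticMap.polar Q u v = gramForm G u v) (h : H ≤ quadSimilarityGroup Q) : InGeometric G H :=
  Or.inr (Or.inr (Or.inr (Or.inr (Or.inr (Or.inr (Or.inr (Or.inr (Or.inr (Or.inr ⟨Q, he, hQ, hp, h⟩)))))))))

end InGeometric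

section perp

variable (G : Matrix ι ι F)

/-- The orthogonal complement. -/
noncomputable def perp (W : Submodule F (ι → F)) : Submodule F (ι → F) := (Matrix.toBilin' G).orthogonal W

variable {G}

theorem mem_perp {W : Submodule F (ι → F)} {v : ι → F} : v ∈ perp G W ↔ ∀ w ∈ W, gramForm G w v = 0 := by
  simp only [perp, LinearMap.BilinForm.mem_orthogonal_iff , Matrix.toBilin'_apply']
  rfl

variable (hG : Alt G)
include hG

theorem toBilin_nondeg : (Matrix.toBilin' G).Nondegenerate :=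
  LinearMap.BilinForm.nondegenerate_toBilin'_iff_det_ne_zero.mpr hG.det_ne

theorem toBilin_isRefl : (Matrix.toBilin' G).IsRefl := fun u v h => by
  rw [Matrix.toBilin'_apply'] at h ⊢
  show gramForm G v u = 0
  rw [hG.isSymplectic.skew]
  exact neg_eq_zero.mpr h

theorem finrank_perp (W : Submodule F (ι → F)) :
    Module.finrank F (perp G W) + Module.finrank F W = Fintype.card ι := by
  have h1 := LinearMap.BilinForm.finrank_orthogonal (toBilin_nondeg hG) W
  have h2 := Submodule.finrank_le W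
  rw [Module.finrank_pi] at h1 h2
  rw [perp]
  omega

theorem perp_perp (W : Submodule F (ι → F)) : perp G (perp G W) = W :=
  LinearMap.BilinForm.orthogonal_orthogonal (toBilin_nondeg hG) (toBilin_isRefl hG) W

theorem invariant_perp {H : Subgroup (GL ι F)} (hH : H ≤ Isom G) {W : Submodule F (ι → F)}
    (hW : Invariant H W) : Invariant H (perp G W) := by
  intro h hh v hv
  rw [mem_perp] at hv ⊢
  intro w hw
  have hw' := hv _ (hW h⁻¹ (inv_mem hh) w hw)
  rw [← gramForm_apply_isom (hH hh), mulVec_inv_cancel] at hw'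
  exact hw'

theorem nondegOn_of_inf {W : Submodule F (ι → F)} (h : W ⊓ perp G W = ⊥) : IsNondegenerateOn (gramForm G) W := by
  intro w hw hw0
  have key : ∃ x ∈ W, gramForm G x w ≠ 0 := by
    by_contra! hc
    exact hw0 ((Submodule.mem_bot F).mp (h ▸ ⟨hw, mem_perp.mpr hc⟩))
  refine ⟨key, ?_⟩
  obtain ⟨x, hx, hne⟩ := key
  exact ⟨x, hx, by rw [hG.isSymplectic.skew]; exact neg_ne_zero.mpr hne⟩

theorem mdec_pair {U W : Submodule F (ι → F)} {k : ℕ} (hk : 0 < k) (hU : Module.finrank F U = k)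
    (hW : Module.finrank F W = k) (h : IsCompl U W) : IsMDecomposition k ![U, W] where
  two_le := le_rfl
  pos := hk
  finrank_eq i := by fin_cases i <;> assumption
  indep := by
    rw [iSupIndep_pair (i := (0 : Fin 2)) (j := 1) (by decide) (fun i => by fin_cases i <;> simp)]
    exact h.disjoint
  iSup_eq_top := by
    rw [eq_top_iff, ← h.sup_eq_top]
    exact sup_le (le_iSup ![U, W] 0) (le_iSup ![U, W] 1)

/-- The reducible case. -/
theorem of_reducible {H : Subgroup (GL ι F)} (hH : H ≤ Isom G) {W : Submodule F (ι → F)} (hW : Invariant H W)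
    (h0 : W ≠ ⊥) (h1 : W ≠ ⊤) : InGeometric G H := by
  have hW' := invariant_perp hG hH hW
  by_cases hR : W ⊓ perp G W = ⊥
  swap
  · refine InGeometric.singular hR (fun u hu v hv => ?_) (invariant_le_stab fun x hx v hv =>
      ⟨hW x hx v hv.1, hW' x hx v hv.2⟩)
    exact mem_perp.mp hv.2 u hu.1
  have hnd := nondegOn_of_inf hG hR
  have hnd' : IsNondegenerateOn (gramForm G) (perp G W) := nondegOn_of_inf hG (by rw [perp_perp hG, inf_comm, hR])
  have hdim := finrank_perp hG W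
  have hpos : 0 < Module.finrank F W := Nat.pos_of_ne_zero fun h => h0 (Submodule.finrank_eq_zero.mp h)
  have hlt : Module.finrank F W < Fintype.card ι := by
    rw [← Module.finrank_pi F (ι := ι)]
    exact Submodule.finrank_lt h1
  rcases lt_trichotomy (2 * Module.finrank F W) (Fintype.card ι) with hc | hc | hc
  · exact InGeometric.nonsingular h0 hnd hc (invariant_le_stab hW)
  · have hcompl : IsCompl W (perp G W) := by
      refine ⟨disjoint_iff.mpr hR, codisjoint_iff.mpr (Submodule.eq_top_of_finrank_eq ?_)⟩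
      have h3 := Submodule.finrank_sup_add_finrank_inf_eq W (perp G W)
      rw [hR, finrank_bot] at h3
      rw [Module.finrank_pi]
      omega
    refine InGeometric.decomposition (D := ![W, perp G W])
      ⟨mdec_pair hG hpos rfl (by omega) hcompl, fun i => by fin_cases i <;> assumption, fun i j hij => ?_⟩
      (fun h hh => ⟨1, fun i => ?_⟩)
    · fin_cases i <;> fin_cases j <;>
        first
          | exact absurd rfl hij
          | exact fun u hu v hv => mem_perp.mp hv u hu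
          | exact fun u hu v hv => by rw [hG.isSymplectic.skew, mem_perp.mp hu v hv, neg_zero]
    · have hinv : Invariant H (![W, perp G W] i) := by fin_cases i <;> assumption
      show translate h _ = _
      refine le_antisymm ?_ fun v hv => ?_
      · rintro _ ⟨v, hv, rfl⟩; exact hinv h hh v hv
      · exact mem_translate.mpr (hinv h⁻¹ (inv_mem hh) v hv)
  · refine InGeometric.nonsingular (W := perp G W) ?_ hnd' (by omega) (invariant_le_stab hW')
    intro hb
    rw [hb, finrank_bot] at hdim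
    omega

end perp

end Cfsg.Agent.Lib.AschbacherSp
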