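import Cfsg.Agent.Lib.AschbacherSp.Main

/-!
Transvections; no member of a class contains the whole group of isometries; dimensions of the structures.
-/

set_option autoImplicit false
set_option linter.style.haveILetI false
set_option linter.unusedSectionVars false

namespace Cfsg.Agent.Lib.AschbacherSp

open Cfsg.Geo Cfsg.Agent.Lib.PrimeDim.Basic Cfsg.Agent.Lib.PrimeDim.Fields Cfsg.Agent.Lib.Aschbacher
open scoped Matrix MatrixGroups Kronecker

variable {ι : Type} [Fintype ι] [DecidableEq ι] {F : Type*} [Field F] {G : Matrix ι ι F}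

/-- The matrix of a symplectic transvection. -/
def tvMat (G : Matrix ι ι F) (a : ι → F) (c : F) : Matrix ι ι F := 1 + c • Matrix.vecMulVec a (G *ᵥ a)

theorem tvMat_mulVec (a : ι → F) (c : F) (v : ι → F) : tvMat G a c *ᵥ v = v + (c * gramForm G v a) • a := by
  rw [tvMat, Matrix.add_mulVec, Matrix.one_mulVec, Matrix.smul_mulVec, Matrix.vecMulVec_mulVec, gramForm,
    dotProduct_comm v, op_smul_eq_smul, smul_smul]

variable (hG : Alt G)
include hG

theorem tvMat_mul (a : ι → F) (c d : F) : tvMat G a c * tvMat G a d = tvMat G a (c + d) := by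
  refine Matrix.toLin'.injective (LinearMap.ext fun v => ?_)
  simp only [Matrix.toLin'_mul, LinearMap.comp_apply, Matrix.toLin'_apply, tvMat_mulVec,
    (gramForm_bilinear G).add_left, (gramForm_bilinear G).smul_left, hG.isSymplectic.alternating]
  module

theorem tvMat_zero (a : ι → F) : tvMat G a 0 = 1 := by simp [tvMat]

/-- A symplectic transvection. -/
noncomputable def tv (a : ι → F) (c : F) : GL ι F where
  val := tvMat G a c
  inv := tvMat G a (-c)
  val_inv := by rw [tvMat_mul hG, add_neg_cancel, tvMat_zero hG]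
  inv_val := by rw [tvMat_mul hG, neg_add_cancel, tvMat_zero hG]

theorem tv_mem (a : ι → F) (c : F) : tv hG a c ∈ Isom G := by
  rw [mem_isom]
  refine gramForm_ext fun u v => ?_
  rw [← gramForm_apply]
  show gramForm G (tvMat G a c *ᵥ u) (tvMat G a c *ᵥ v) = _
  have hb := gramForm_bilinear G
  simp only [tvMat_mulVec, hb.add_left, hb.add_right, hb.smul_left, hb.smul_right, hG.isSymplectic.alternating,
    hG.isSymplectic.skew a v]
  ring

theorem tv_mulVec (a : ι → F) (c : F) (v : ι → F) :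
    (tv hG a c : Matrix ι ι F) *ᵥ v = v + (c * gramForm G v a) • a := tvMat_mulVec a c v

theorem exists_map {x y : ι → F} (hx : x ≠ 0) (hy : y ≠ 0) : ∃ g ∈ Isom G, (g : Matrix ι ι F) *ᵥ x = y := by
  have hb := gramForm_bilinear G
  have step : ∀ u w : ι → F, gramForm G u w ≠ 0 → ∃ g ∈ Isom G, (g : Matrix ι ι F) *ᵥ u = w := fun u w h => by
    refine ⟨tv hG (w - u) (gramForm G u w)⁻¹, tv_mem hG _ _, ?_⟩
    have h1 : gramForm G u (w - u) = gramForm G u w := by
      rw [sub_eq_add_neg, ← neg_one_smul F u, hb.add_right, hb.smul_right, hG.isSymplectic.alternating, mul_zero,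
        add_zero]
    rw [tv_mulVec, h1, inv_mul_cancel₀ h, one_smul, add_sub_cancel]
  obtain ⟨a, ha⟩ := (hG.isSymplectic.nondegenerate x hx).2
  obtain ⟨b, hb'⟩ := (hG.isSymplectic.nondegenerate y hy).1
  obtain ⟨z, h1, h2⟩ : ∃ z, gramForm G x z ≠ 0 ∧ gramForm G z y ≠ 0 := by
    by_cases e1 : gramForm G a y ≠ 0
    · exact ⟨a, ha, e1⟩
    by_cases e2 : gramForm G x b ≠ 0
    · exact ⟨b, e2, hb'⟩
    push Not at e1 e2
    exact ⟨a + b, by rwa [hb.add_right, e2, add_zero], by rwa [hb.add_left, e1, zero_add]⟩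
  obtain ⟨g, hg, hgx⟩ := step x z h1
  obtain ⟨g', hg', hgz⟩ := step z y h2
  exact ⟨g' * g, mul_mem hg' hg, by rw [Units.val_mul, ← Matrix.mulVec_mulVec, hgx, hgz]⟩

theorem not_le_subspaceStabilizer {W : Submodule F (ι → F)} (hb : W ≠ ⊥) (ht : W ≠ ⊤) :
    ¬ Isom G ≤ subspaceStabilizer W := by
  intro hle
  obtain ⟨x, hx, hx0⟩ := Submodule.exists_mem_ne_zero_of_ne_bot hb
  obtain ⟨y, hy⟩ : ∃ y, y ∉ W := by
    by_contra! h
    exact ht (eq_top_iff.mpr fun v _ => h v)
  obtain ⟨g, hg, hgx⟩ := exists_map hG hx0 (fun h : y = 0 => hy (h ▸ W.zero_mem))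
  have h := hle hg
  have h2 := (h x).mp hx
  exact hy (hgx ▸ h2)

theorem not_le_decompositionStabilizer {t k : ℕ} {D : Fin t → Submodule F (ι → F)} (hD : IsMDecomposition k D) :
    ¬ Isom G ≤ decompositionStabilizer D := by
  intro hle
  have hne : ∀ i, D i ≠ ⊥ := fun i hb => by
    have := hD.finrank_eq i
    rw [hb, finrank_bot] at this
    exact hD.pos.ne this
  have ht := hD.two_le
  let i : Fin t := ⟨0, by omega⟩
  let j : Fin t := ⟨1, by omega⟩
  have hij : i ≠ j := by simp [i, j]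
  obtain ⟨x, hx, hx0⟩ := Submodule.exists_mem_ne_zero_of_ne_bot (hne i)
  obtain ⟨y, hy, hy0⟩ := Submodule.exists_mem_ne_zero_of_ne_bot (hne j)
  have hdis : ∀ a b, a ≠ b → ∀ v ∈ D a, v ∈ D b → v = 0 := fun a b hab =>
    Submodule.disjoint_def.mp (hD.indep.pairwiseDisjoint hab)
  have hsum : x + y ≠ 0 := fun h => hx0 (hdis i j hij x hx (by
    rw [eq_neg_of_add_eq_zero_left h]; exact neg_mem hy))
  obtain ⟨g, hg, hgx⟩ := exists_map hG hx0 hsum
  obtain ⟨σ, hσ⟩ := hle hg
  have hmem : x + y ∈ D (σ i) := by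
    rw [← hσ, ← hgx]
    exact Submodule.mem_map_of_mem hx
  by_cases hs : σ i = i
  · rw [hs] at hmem
    exact hy0 (hdis j i (Ne.symm hij) y hy (by simpa using sub_mem hmem hx))
  by_cases hsj : σ i = j
  · rw [hsj] at hmem
    exact hx0 (hdis i j hij x hx (by simpa using sub_mem hmem hy))
  have hd := hD.indep (σ i)
  rw [disjoint_iff] at hd
  have : x + y ∈ (⊥ : Submodule F (ι → F)) := hd ▸ ⟨hmem, Submodule.add_mem _
    (Submodule.mem_iSup_of_mem i (Submodule.mem_iSup_of_mem (Ne.symm hs) hx))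
    (Submodule.mem_iSup_of_mem j (Submodule.mem_iSup_of_mem (Ne.symm hsj) hy))⟩
  exact hsum ((Submodule.mem_bot F).mp this)

omit hG in
theorem scalar_of_eigen {k : Matrix ι ι F} (h : ∀ a : ι → F, ∃ μ : F, k *ᵥ a = μ • a) :
    ∃ c : F, k = c • 1 := by
  rcases isEmpty_or_nonempty ι with hi | hi
  · exact ⟨0, by ext i; exact isEmptyElim i⟩
  obtain ⟨i₀⟩ := hi
  choose μ hμ using h
  refine ⟨μ (Pi.single i₀ 1), Matrix.ext_of_mulVec_single fun j => ?_⟩
  rw [hμ, Matrix.smul_mulVec, Matrix.one_mulVec]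
  rcases eq_or_ne j i₀ with rfl | hj
  · rfl
  have h1 := hμ (Pi.single i₀ 1 + Pi.single j 1)
  rw [Matrix.mulVec_add, hμ, hμ] at h1
  have hi' := congrFun h1 i₀
  have hj' := congrFun h1 j
  simp [hj, Ne.symm hj] at hi' hj'
  rw [hj', ← hi']

theorem not_le_subalgebraNormalizer [Nonempty ι] (h3 : 3 ≤ Fintype.card ι) {r : ℕ}
    {K : Subalgebra F (Matrix ι ι F)} (hK : IsFieldSubalgebra r K) (hr : 2 ≤ r) :
    ¬ Isom G ≤ subalgebraNormalizer K := by
  intro hle
  have hb := gramForm_bilinear G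
  have hscal : ∀ k ∈ K, ∃ c : F, k = c • 1 := by
    intro k hk
    refine scalar_of_eigen fun a => ?_
    by_cases ha : a = 0
    · exact ⟨0, by simp [ha]⟩
    set t := tv hG a 1 with ht
    set k' := (t : Matrix ι ι F) * k * ((t⁻¹ : GL ι F) : Matrix ι ι F) with hk'
    have hk'K : k' ∈ K := (hle (tv_mem hG a 1) k).mp hk
    let L : (ι → F) →ₗ[F] F × F :=
      { toFun := fun v => (gramForm G v a, gramForm G (k *ᵥ v) a)
        map_add' := fun u v => by simp [hb.add_left, Matrix.mulVec_add]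
        map_smul' := fun c v => by simp [hb.smul_left, Matrix.mulVec_smul] }
    obtain ⟨v, hv, hv0⟩ := Submodule.exists_mem_ne_zero_of_ne_bot (p := LinearMap.ker L) (fun h => by
      have h1 := LinearMap.finrank_range_add_finrank_ker L
      have h2 := Submodule.finrank_le (LinearMap.range L)
      rw [h, finrank_bot, Module.finrank_pi] at h1
      rw [Module.finrank_prod, Module.finrank_self] at h2
      omega)
    rw [LinearMap.mem_ker] at hv
    have hv1 : gramForm G v a = 0 := (Prod.ext_iff.mp hv).1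
    have hv2 : gramForm G (k *ᵥ v) a = 0 := (Prod.ext_iff.mp hv).2
    have htv : (t : Matrix ι ι F) *ᵥ v = v := by rw [ht, tv_mulVec, hv1, mul_zero, zero_smul, add_zero]
    have hk'v : k' *ᵥ v = k *ᵥ v := by
      have h1 : ((t⁻¹ : GL ι F) : Matrix ι ι F) *ᵥ v = v := by
        conv_lhs => rw [← htv, inv_mulVec_cancel]
      rw [hk', ← Matrix.mulVec_mulVec, h1, ← Matrix.mulVec_mulVec, ht, tv_mulVec, hv2, mul_zero, zero_smul,
        add_zero]
    have hkk : k' = k := by
      by_contra hne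
      obtain ⟨y, hy, hyk⟩ := hK.inv _ (sub_mem hk'K hk) (sub_ne_zero.mpr hne)
      rw [hK.comm _ (sub_mem hk'K hk) y hy] at hyk
      apply hv0
      rw [← Matrix.one_mulVec v, ← hyk, ← Matrix.mulVec_mulVec, Matrix.sub_mulVec, hk'v, sub_self, Matrix.mulVec_zero]
    have hcomm : (t : Matrix ι ι F) * k = k * (t : Matrix ι ι F) := by
      have := congrArg (fun M => M * (t : Matrix ι ι F)) hkk
      simpa [hk', mul_assoc] using this
    obtain ⟨w, hw⟩ := (hG.isSymplectic.nondegenerate a ha).1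
    have h1 := congrArg (fun M => M *ᵥ w) hcomm
    simp only [← Matrix.mulVec_mulVec, ht, tv_mulVec, one_mul, Matrix.mulVec_add, Matrix.mulVec_smul,
      add_right_inj] at h1
    refine ⟨(gramForm G w a)⁻¹ * gramForm G (k *ᵥ w) a, ?_⟩
    rw [← smul_smul, h1, smul_smul, inv_mul_cancel₀ hw, one_smul]
  have hbot : K = ⊥ := le_bot_iff.mp fun k hk => by
    obtain ⟨c, rfl⟩ := hscal k hk
    exact Algebra.mem_bot.mpr ⟨c, by rw [Algebra.algebraMap_eq_smul_one]⟩
  have := hK.finrank_eq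
  rw [hbot, Subalgebra.finrank_bot] at this
  omega

theorem not_le_subfieldSubgroup [Fintype F] [Nonempty ι] {F₀ : Subfield F} (hne : F₀ ≠ ⊤) (P : GL ι F) :
    ¬ Isom G ≤ subfieldSubgroup F₀ P := by
  intro hle
  classical
  have hb := gramForm_bilinear G
  obtain ⟨a, ha⟩ : ∃ a : ι → F, a ≠ 0 := exists_ne 0
  set N := ((P⁻¹ : GL ι F) : Matrix ι ι F) * Matrix.vecMulVec a (G *ᵥ a) * (P : Matrix ι ι F) with hN
  have hN2 : N * N = 0 := by
    have h0 : Matrix.vecMulVec a (G *ᵥ a) * Matrix.vecMulVec a (G *ᵥ a) = 0 := by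
      refine Matrix.toLin'.injective (LinearMap.ext fun v => ?_)
      simp only [Matrix.toLin'_mul, LinearMap.comp_apply, Matrix.toLin'_apply, map_zero, LinearMap.zero_apply,
        Matrix.vecMulVec_mulVec, Matrix.mulVec_smul, op_smul_eq_smul]
      rw [show (G *ᵥ a) ⬝ᵥ a = 0 by
        rw [dotProduct_comm]; exact hG.isSymplectic.alternating a, zero_smul, smul_zero]
    calc N * N = ((P⁻¹ : GL ι F) : Matrix ι ι F) * (Matrix.vecMulVec a (G *ᵥ a) * Matrix.vecMulVec a (G *ᵥ a)) *
          (P : Matrix ι ι F) := by simp [hN, mul_assoc]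
      _ = 0 := by rw [h0]; simp
  have hN0 : N ≠ 0 := by
    intro h
    obtain ⟨w, hw⟩ := (hG.isSymplectic.nondegenerate a ha).1
    have h0 : Matrix.vecMulVec a (G *ᵥ a) = 0 := by
      have := congrArg (fun M => (P : Matrix ι ι F) * M * ((P⁻¹ : GL ι F) : Matrix ι ι F)) h
      simpa [hN, mul_assoc] using this
    have h1 := congrArg (fun M => M *ᵥ w) h0
    simp only [Matrix.zero_mulVec, Matrix.vecMulVec_mulVec, op_smul_eq_smul, smul_eq_zero] at h1
    exact (h1.resolve_right ha) |> fun h2 => hw (by rw [gramForm, dotProduct_comm]; exact h2)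
  obtain ⟨i, j, hij, hb0⟩ : ∃ i j, i ≠ j ∧ N i j ≠ 0 := by
    by_contra! h
    refine hN0 (Matrix.ext fun i j => ?_)
    rcases eq_or_ne i j with rfl | hij
    · have h1 := congrFun (congrFun hN2 i) i
      rw [Matrix.mul_apply, Finset.sum_eq_single i (fun x _ hx => by rw [h i x (Ne.symm hx), zero_mul]) (by simp)] at h1
      exact mul_self_eq_zero.mp h1
    · exact h i j hij
  have hrat : ∀ c : F, c ≠ 0 → (1 + c * N i i) * (c * N i j)⁻¹ ∈ F₀ := by
    intro c hc
    obtain ⟨M, hM, hMt⟩ := hle (tv_mem hG a c)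
    obtain ⟨_, ⟨g, rfl⟩, z, hz, rfl⟩ := Subgroup.mem_sup_of_normal_right.mp (by exact hM) |> fun h => h
    obtain ⟨s, hs⟩ := (mem_scalars_iff z).mp hz
    have hval : (s : F) • ((Matrix.GeneralLinearGroup.map (F₀.subtype : F₀ →+* F) g : GL ι F) : Matrix ι ι F) =
        1 + c • N := by
      have h1 := congrArg (fun x : GL ι F => ((P⁻¹ * x * P : GL ι F) : Matrix ι ι F)) hMt
      simp only [MulEquiv.coe_toMonoidHom, MulAut.conj_apply] at h1
      rw [show P⁻¹ * (P * ((Matrix.GeneralLinearGroup.map (F₀.subtype : F₀ →+* F) g) * z) * P⁻¹) * P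
        = (Matrix.GeneralLinearGroup.map (F₀.subtype : F₀ →+* F) g) * z by group] at h1
      rw [Units.val_mul, hs, Matrix.mul_smul, mul_one] at h1
      rw [h1, Units.val_mul, Units.val_mul]
      show ((P⁻¹ : GL ι F) : Matrix ι ι F) * tvMat G a c * (P : Matrix ι ι F) = _
      rw [tvMat, mul_add, add_mul, mul_one, Units.inv_mul, Matrix.mul_smul, Matrix.smul_mul, hN]
    have hii := congrFun (congrFun hval i) i
    have hij' := congrFun (congrFun hval i) j
    simp only [Matrix.smul_apply, Matrix.add_apply, Matrix.one_apply_eq, Matrix.one_apply_ne hij, zero_add,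
      smul_eq_mul] at hii hij'
    rw [← hii, ← hij', mul_inv, mul_mul_mul_comm, mul_inv_cancel₀ s.ne_zero, one_mul]
    exact mul_mem (g.val i i).2 (inv_mem (g.val i j).2)
  have hdiff : ∀ x y : F, x ≠ 0 → y ≠ 0 → (x - y) * (N i j)⁻¹ ∈ F₀ := by
    intro x y hx hy
    have h := sub_mem (hrat x⁻¹ (inv_ne_zero hx)) (hrat y⁻¹ (inv_ne_zero hy))
    have e : (1 + x⁻¹ * N i i) * (x⁻¹ * N i j)⁻¹ - (1 + y⁻¹ * N i i) * (y⁻¹ * N i j)⁻¹ = (x - y) * (N i j)⁻¹ := by
      field_simp; ring
    rwa [e] at h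
  obtain ⟨x, hx⟩ : ∃ x : F, x ∉ F₀ := by
    by_contra! h
    exact hne (eq_top_iff.mpr fun v _ => h v)
  have hx0 : x ≠ 0 := fun h => hx (h ▸ zero_mem F₀)
  have hx1 : x ≠ 1 := fun h => hx (h ▸ one_mem F₀)
  have hxm : x - 1 ≠ 0 := sub_ne_zero.mpr hx1
  -- two differences whose ratio is `x`
  have h1 : (x - 1) * (N i j)⁻¹ ∈ F₀ := hdiff x 1 hx0 one_ne_zero
  have h2 : (x * x - x) * (N i j)⁻¹ ∈ F₀ := hdiff (x * x) x (mul_ne_zero hx0 hx0) hx0
  apply hx
  have e : x = ((x * x - x) * (N i j)⁻¹) / ((x - 1) * (N i j)⁻¹) := by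
    field_simp
  rw [e]
  exact div_mem h2 h1

theorem not_le_tensorWreathSubgroup [Fintype F] {m k : ℕ} (hm : 2 ≤ m) (hk : 2 ≤ k) (ε : ι ≃ (Fin k → Fin m))
    (P : GL ι F) : ¬ Isom G ≤ tensorWreathSubgroup m k ε P := by
  classical
  intro hle
  let z : Fin k → Fin m := fun _ => ⟨0, by omega⟩
  let i₀ : Fin k := ⟨0, by omega⟩
  let i₁ : Fin k := ⟨1, by omega⟩
  let one' : Fin m := ⟨1, by omega⟩
  let zero' : Fin m := ⟨0, by omega⟩
  let z' : Fin k → Fin m := Function.update (Function.update z i₁ one') i₀ one'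
  let w : Fin k → Fin m := Function.update z i₀ one'
  have h01 : i₀ ≠ i₁ := by simp [i₀, i₁]
  have hne : one' ≠ zero' := by simp [one', zero']
  have hzz' : z ≠ z' := fun h => hne (by
    have := congrFun h i₀
    simpa [z', z, zero'] using this.symm)
  have hwz : w ≠ z := fun h => hne (by
    have := congrFun h i₀
    simpa [w, z, zero'] using this)
  have hwz' : w ≠ z' := fun h => hne (by
    have := congrFun h i₁
    simpa [w, z', z, zero', Ne.symm h01] using this.symm)
  let bad : (Fin k → Fin m) → F := Pi.single z 1 + Pi.single z' 1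
  have hbad : bad ∉ Set.range (pureVec (F := F) (m := m) (k := k)) := by
    rintro ⟨y, hy⟩
    have hz : pureVec y z ≠ 0 := by rw [hy]; simp [bad, hzz']
    have hz' : pureVec y z' ≠ 0 := by rw [hy]; simp [bad, Ne.symm hzz']
    have hw : pureVec y w = 0 := by rw [hy]; simp [bad, hwz, hwz']
    obtain ⟨i, -, hi⟩ := Finset.prod_eq_zero_iff.mp hw
    rcases eq_or_ne i i₀ with rfl | hi0
    · exact Finset.prod_ne_zero_iff.mp hz' i₀ (Finset.mem_univ _) (by simpa [z', w] using hi)
    · exact Finset.prod_ne_zero_iff.mp hz i (Finset.mem_univ _) (by simpa [w, hi0] using hi)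
  let pure0 : (Fin k → Fin m) → F := pureVec fun i => Pi.single (z i) 1
  have hp0 : pure0 ≠ 0 := fun h => by
    have := congrFun h z
    simp [pure0, pureVec] at this
  have hbad0 : bad ≠ 0 := fun h => by
    have := congrFun h z
    simp [bad, hzz'] at this
  have hv : ∀ x : (Fin k → Fin m) → F, x ≠ 0 → (P : Matrix ι ι F) *ᵥ (x ∘ ε) ≠ 0 := fun x hx h => hx (by
    rw [← toX_mk ε P x, h]
    funext u
    simp [toX])
  obtain ⟨g, hg, hgx⟩ := exists_map hG (hv _ hp0) (hv _ hbad0)
  obtain ⟨_, ⟨g₀, hg₀, rfl⟩, rfl⟩ := hle hg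
  have h := congrArg (toX ε P) hgx
  rw [show ((MulAut.conj P).toMonoidHom ((glReindex ε.symm).toMonoidHom g₀) : GL ι F) = coordGL ε P g₀ from rfl,
    coordGL_val, toX_coord, toX_mk, toX_mk] at h
  exact hbad (h ▸ standard_pure hg₀ _ ⟨_, rfl⟩)

theorem not_le_tensorProductSubgroup [Fintype F] {m l : ℕ} (hm : 2 ≤ m) (hl : 2 ≤ l) (ε : ι ≃ Fin m × Fin l)
    (P : GL ι F) : ¬ Isom G ≤ tensorProductSubgroup m l ε P := by
  classical
  intro hle
  let a₀ : Fin m := ⟨0, by omega⟩
  let a₁ : Fin m := ⟨1, by omega⟩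
  let b₀ : Fin l := ⟨0, by omega⟩
  let b₁ : Fin l := ⟨1, by omega⟩
  have ha : a₀ ≠ a₁ := by simp [a₀, a₁]
  have hb : b₀ ≠ b₁ := by simp [b₀, b₁]
  let S : Set (Fin m × Fin l → F) :=
    Set.range fun yz : (Fin m → F) × (Fin l → F) => fun p : Fin m × Fin l => yz.1 p.1 * yz.2 p.2
  let bad : Fin m × Fin l → F := Pi.single (a₀, b₀) 1 + Pi.single (a₁, b₁) 1
  let good : Fin m × Fin l → F := fun p => (Pi.single a₀ 1 : Fin m → F) p.1 * (Pi.single b₀ 1 : Fin l → F) p.2
  have hbad : bad ∉ S := by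
    rintro ⟨⟨y, z⟩, hy⟩
    have e1 := congrFun hy (a₀, b₀)
    have e2 := congrFun hy (a₁, b₁)
    have e3 := congrFun hy (a₀, b₁)
    simp [bad, ha, Ne.symm ha, hb, Ne.symm hb] at e1 e2 e3
    rcases e3 with h | h
    · rw [h] at e1; simp at e1
    · rw [h] at e2; simp at e2
  have hv : ∀ x : Fin m × Fin l → F, x ≠ 0 → (P : Matrix ι ι F) *ᵥ (x ∘ ε) ≠ 0 := fun x hx h => hx (by
    rw [← toX_mk ε P x, h]
    funext u
    simp [toX])
  have hg0 : good ≠ 0 := fun h => by have := congrFun h (a₀, b₀); simp [good] at this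
  have hb0 : bad ≠ 0 := fun h => by have := congrFun h (a₀, b₀); simp [bad, ha] at this
  obtain ⟨g, hg, hgx⟩ := exists_map hG (hv _ hg0) (hv _ hb0)
  obtain ⟨_, ⟨g₀, ⟨A, B, hAB⟩, rfl⟩, rfl⟩ := hle hg
  have h := congrArg (toX ε P) hgx
  rw [show ((MulAut.conj P).toMonoidHom ((glReindex ε.symm).toMonoidHom g₀) : GL ι F) = coordGL ε P g₀ from rfl,
    coordGL_val, toX_coord, toX_mk, toX_mk, hAB] at h
  refine hbad ⟨((A : Matrix (Fin m) (Fin m) F) *ᵥ Pi.single a₀ 1, (B : Matrix (Fin l) (Fin l) F) *ᵥ Pi.single b₀ 1), ?_⟩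
  rw [← h]
  funext p
  simp only [good, Matrix.mulVec, dotProduct, Fintype.sum_prod_type, Matrix.kroneckerMap_apply, Finset.sum_mul,
    Finset.mul_sum]
  conv_lhs => rw [Finset.sum_comm]
  exact Finset.sum_congr rfl fun a _ => Finset.sum_congr rfl fun b _ => by ring

theorem not_le_quadSimilarityGroup [Fintype F] (h3 : 3 ≤ Fintype.card ι) {Q : (ι → F) → F}
    (hp : ∀ u v, QuadraticMap.polar Q u v = gramForm G u v) : ¬ Isom G ≤ quadSimilarityGroup Q := by
  intro hle
  haveI : Nonempty ι := Fintype.card_pos_iff.mp (by omega)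
  have hb := gramForm_bilinear G
  obtain ⟨u, hu⟩ : ∃ u : ι → F, u ≠ 0 := exists_ne 0
  obtain ⟨w, hw⟩ := (hG.isSymplectic.nondegenerate u hu).2
  set w' := (gramForm G u w)⁻¹ • w with hw'
  have huw : gramForm G u w' = 1 := by rw [hw', hb.smul_right, inv_mul_cancel₀ hw]
  -- every isometry fixes `Q`
  have hfix : ∀ g ∈ Isom G, ∀ v, Q ((g : Matrix ι ι F) *ᵥ v) = Q v := by
    intro g hg v
    obtain ⟨c, hc⟩ := hle hg
    have h := hp ((g : Matrix ι ι F) *ᵥ u) ((g : Matrix ι ι F) *ᵥ w')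
    rw [gramForm_apply_isom hg, huw] at h
    simp only [QuadraticMap.polar, ← Matrix.mulVec_add, hc] at h
    have h' := hp u w'
    rw [huw] at h'
    simp only [QuadraticMap.polar] at h'
    rw [hc, show (c : F) = 1 by linear_combination h - (c : F) * h', one_mul]
  have hconst : ∀ v, v ≠ 0 → Q v = Q u := fun v hv => by
    obtain ⟨g, hg, rfl⟩ := exists_map hG hu hv
    exact hfix g hg u
  -- an orthogonal independent pair
  let W : Submodule F (ι → F) := perp G (Submodule.span F {u})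
  have hW : 2 ≤ Module.finrank F W := by
    show 2 ≤ Module.finrank F (perp G (Submodule.span F {u}))
    have := finrank_perp hG (Submodule.span F {u})
    rw [finrank_span_singleton hu] at this
    omega
  obtain ⟨v, hvW, hvu⟩ : ∃ v ∈ W, v ∉ Submodule.span F {u} := by
    by_contra! h
    have := Submodule.finrank_mono (s := W) (t := Submodule.span F {u}) h
    rw [finrank_span_singleton hu] at this
    omega
  have huv : gramForm G u v = 0 := mem_perp.mp hvW u (Submodule.mem_span_singleton_self u)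
  have hv0 : v ≠ 0 := fun h => hvu (h ▸ zero_mem _)
  have h1 : u + v ≠ 0 := fun h => hvu (by
    rw [eq_neg_of_add_eq_zero_right h]; exact neg_mem (Submodule.mem_span_singleton_self u))
  have e1 := hp u v
  rw [QuadraticMap.polar, huv, hconst _ h1, hconst v hv0] at e1
  have hw0 : w' ≠ 0 := fun h => by rw [h] at huw; simp [gramForm] at huw
  have h2 : u + w' ≠ 0 := fun h => by
    rw [eq_neg_of_add_eq_zero_right h, ← neg_one_smul F u, hb.smul_right, hG.isSymplectic.alternating,
      mul_zero] at huw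
    exact zero_ne_one huw
  have e2 := hp u w'
  rw [QuadraticMap.polar, huw, hconst _ h2, hconst w' hw0] at e2
  exact one_ne_zero (e2.symm.trans e1)

omit hG in
theorem decomposition_card {t k : ℕ} {D : Fin t → Submodule F (ι → F)} (hD : IsMDecomposition k D) :
    t * k = Fintype.card ι := by
  classical
  have h := LinearEquiv.finrank_eq (LinearEquiv.ofBijective (DirectSum.coeLinearMap D)
    (DirectSum.isInternal_submodule_of_iSupIndep_of_iSup_eq_top hD.indep hD.iSup_eq_top))
  rw [Module.finrank_directSum, Module.finrank_pi] at h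
  simpa [hD.finrank_eq] using h

omit hG in
theorem even_of_symplectic {f : (ι → F) → (ι → F) → F} (hf : IsSymplecticForm f) : Even (Fintype.card ι) :=
  Nat.not_odd_iff_even.mp fun h => not_symplectic h f hf

theorem even_finrank_of_nondeg {W : Submodule F (ι → F)} (hW : IsNondegenerateOn (gramForm G) W) :
    Even (Module.finrank F W) := by
  let b := Module.finBasis F W
  let Φ : (Fin (Module.finrank F W) → F) → (ι → F) := fun x => ((b.equivFun.symm x : W) : ι → F)
  have hΦa : ∀ x y, Φ (x + y) = Φ x + Φ y := fun x y => by simp only [Φ, map_add, Submodule.coe_add]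
  have hΦs : ∀ (c : F) x, Φ (c • x) = c • Φ x := fun c x => by simp only [Φ, map_smul, Submodule.coe_smul]
  have hb := gramForm_bilinear G
  have hsym : IsSymplecticForm (fun x y => gramForm G (Φ x) (Φ y)) := by
    refine ⟨⟨fun x y v => by simp [hΦa, hb.add_left], fun c x v => by simp [hΦs, hb.smul_left],
      fun v x y => by simp [hΦa, hb.add_right], fun c v x => by simp [hΦs, hb.smul_right]⟩,
      fun v w => hG.isSymplectic.skew _ _, fun v => hG.isSymplectic.alternating _, fun x hx => ?_⟩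
    have hne : Φ x ≠ 0 := fun h => hx (b.equivFun.symm.injective (Subtype.ext (by simpa [Φ] using h)))
    obtain ⟨⟨y, hy, h1⟩, ⟨y', hy', h2⟩⟩ := hW (Φ x) (b.equivFun.symm x).2 hne
    have hmk : ∀ z (hz : z ∈ W), Φ (b.equivFun ⟨z, hz⟩) = z := fun z hz => by simp only [Φ, LinearEquiv.symm_apply_apply]
    exact ⟨⟨b.equivFun ⟨y, hy⟩, by show _ ≠ 0; rw [hmk]; exact h1⟩, ⟨b.equivFun ⟨y', hy'⟩, by show _ ≠ 0; rw [hmk]; exact h2⟩⟩
  simpa using even_of_symplectic hsym

/-- The degree of a self-adjoint field with alternating multiplications divides the Witt index. -/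
theorem field_dvd_half [Fintype F] [Nonempty ι] {r : ℕ} {K : Subalgebra F (Matrix ι ι F)}
    (hK : IsFieldSubalgebra r K) (hs : IsSelfAdjointFor (gramForm G) K)
    (h0 : ∀ k ∈ K, ∀ v, gramForm G (k *ᵥ v) v = 0) : 2 * r ∣ Fintype.card ι := by
  classical
  have hb := gramForm_bilinear G
  obtain ⟨L, ⟨hLK, hLts⟩, hLmax⟩ := WellFounded.has_min (wellFounded_gt (α := Submodule F (ι → F)))
    {L | (∀ k ∈ K, ∀ v ∈ L, k *ᵥ v ∈ L) ∧ L ≤ perp G L}
    ⟨⊥, fun k _ v hv => by rw [(Submodule.mem_bot F).mp hv, Matrix.mulVec_zero]; exact zero_mem _, bot_le⟩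
  have hLeq : perp G L = L := by
    refine le_antisymm (fun v hv => ?_) hLts
    by_contra hvL
    let Kv : Submodule F (ι → F) :=
      { carrier := {w | ∃ k ∈ K, w = k *ᵥ v}
        add_mem' := by rintro _ _ ⟨k, hk, rfl⟩ ⟨k', hk', rfl⟩; exact ⟨_, add_mem hk hk', by rw [Matrix.add_mulVec]⟩
        zero_mem' := ⟨0, zero_mem _, by simp⟩
        smul_mem' := by rintro c _ ⟨k, hk, rfl⟩; exact ⟨_, Subalgebra.smul_mem _ hk c, by rw [Matrix.smul_mulVec]⟩ }
    refine hLmax (L ⊔ Kv) ⟨?_, ?_⟩ (lt_of_le_of_ne le_sup_left fun h => hvL ?_)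
    · intro k hk w hw
      obtain ⟨l, hl, _, ⟨k', hk', rfl⟩, rfl⟩ := Submodule.mem_sup.mp hw
      rw [Matrix.mulVec_add, Matrix.mulVec_mulVec]
      exact Submodule.add_mem_sup (hLK k hk l hl) ⟨_, mul_mem hk hk', rfl⟩
    · have hcross : ∀ l ∈ L, ∀ k ∈ K, gramForm G l (k *ᵥ v) = 0 := fun l hl k hk => by
        rw [← hs k hk]; exact mem_perp.mp hv _ (hLK k hk l hl)
      have hKK : ∀ k ∈ K, ∀ k' ∈ K, gramForm G (k *ᵥ v) (k' *ᵥ v) = 0 := fun k hk k' hk' => by
        rw [← hs k' hk', Matrix.mulVec_mulVec]; exact h0 _ (mul_mem hk' hk) v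
      intro w hw
      rw [mem_perp]
      intro u hu
      obtain ⟨l, hl, _, ⟨k, hk, rfl⟩, rfl⟩ := Submodule.mem_sup.mp hw
      obtain ⟨l', hl', _, ⟨k', hk', rfl⟩, rfl⟩ := Submodule.mem_sup.mp hu
      rw [hb.add_left, hb.add_right, hb.add_right, mem_perp.mp (hLts hl) l' hl', hcross l' hl' k hk,
        hKK k' hk' k hk, hG.isSymplectic.skew (k' *ᵥ v) l, hcross l hl k' hk']
      simp
    · rw [h]; exact Submodule.mem_sup_right ⟨1, one_mem _, by simp⟩
  -- `L` is a vector space over `K`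
  letI : CommRing K := { (inferInstance : Ring K) with mul_comm := fun a b => Subtype.ext (hK.comm a a.2 b b.2) }
  haveI : Finite (Matrix ι ι F) := inferInstanceAs (Finite (ι → ι → F))
  haveI : NoZeroDivisors K := ⟨fun {u v} huv => by
    by_contra! hc
    obtain ⟨y, hy, huy⟩ := hK.inv u u.2 fun h => hc.1 (Subtype.ext h)
    apply hc.2
    refine Subtype.ext ?_
    calc (v : Matrix ι ι F) = (y * u) * v := by rw [hK.comm y hy u u.2, huy, one_mul]
      _ = y * ((u * v : K) : Matrix ι ι F) := by rw [mul_assoc]; rfl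
      _ = _ := by rw [huv]; simp⟩
  haveI : IsDomain K := NoZeroDivisors.to_isDomain _
  letI : Field K := (Finite.isDomain_to_isField K).toField
  letI : Module K L :=
    { smul := fun k v => ⟨(k : Matrix ι ι F) *ᵥ (v : ι → F), hLK k k.2 v v.2⟩
      one_smul := fun v => Subtype.ext (Matrix.one_mulVec _)
      mul_smul := fun a b v => Subtype.ext (Matrix.mulVec_mulVec _ _ _).symm
      smul_zero := fun a => Subtype.ext (Matrix.mulVec_zero _)
      smul_add := fun a u v => Subtype.ext (Matrix.mulVec_add _ _ _)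
      add_smul := fun a b v => Subtype.ext (Matrix.add_mulVec _ _ _)
      zero_smul := fun v => Subtype.ext (Matrix.zero_mulVec _) }
  have hcard : Nat.card K = Fintype.card F ^ r := by
    rw [Module.natCard_eq_pow_finrank (K := F) (V := K), show Module.finrank F K = r from hK.finrank_eq,
      Nat.card_eq_fintype_card]
  haveI : Module.Finite K L := Module.Finite.of_finite
  have h := Module.natCard_eq_pow_finrank (K := K) (V := L)
  rw [hcard, ← pow_mul, Module.natCard_eq_pow_finrank (K := F) (V := L), Nat.card_eq_fintype_card] at h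
  have h' := Nat.pow_right_injective (Fintype.one_lt_card (α := F)) h
  have hdim := finrank_perp hG L
  rw [hLeq, h'] at hdim
  exact ⟨Module.finrank K L, by rw [← hdim]; ring⟩

end Cfsg.Agent.Lib.AschbacherSp
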